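import Cfsg.Agent.Omega.OM.FourF.Ser
import Cfsg.Agent.Omega.OM.FixPt

/-!
# THEOREM 4F (#20067): the claim for one index

`F` normalises `Z` or `U`:
* `One.main` : under the hypothesis `Z ≤ C(O₂(F)) → F ≤ N(Z)`;
* `One.main_of` : from the abstract FF theorem and `[Ω₁(Z(T)), F] = 1`.
-/

set_option autoImplicit false

namespace Cfsg.Agent.Omega.OM.FourF

open Subgroup Cfsg Cfsg.Agent.ZN Cfsg.Agent.ZN.ChoiceBase Cfsg.Agent.ZN.ChoiceSit Cfsg.Agent.Omega.NoFF.Basic
  Cfsg.Agent.Omega.OmThm Cfsg.Agent.Omega.OM.Swap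
open Cfsg.Agent.MinSimple.MinParabolic (IsMinPar)
open Cfsg.Agent.MinSimple.VModule (oddGen mem_oddGen le_normalizer_oddGen oddGen_le)
open scoped Pointwise commutatorElement

universe u

variable {K : Type} [Field K] {G : Type u} [Group G] {F T U Z : Subgroup G} {u : G} {e : G → K × K}

namespace Crd

variable (h : Crd K T U Z u e)

include h

/-- `T` normalises `Z` -/
theorem T_Z : T ≤ normalizer (Z : Set G) := by
  have key : ∀ t ∈ T, ∀ z ∈ Z, t * z * t⁻¹ ∈ Z := by
    intro t ht z hz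
    have hzU := h.ZU hz
    have hz2 := (h.memZ z hzU).1 hz
    rw [h.memZ _ (h.cn ht hzU)]
    obtain ⟨l, hl | hl⟩ := h.act t ht
    · rw [hl z hzU]
      exact hz2
    · rw [hl z hzU, hz2]
      simp
  intro t ht
  rw [mem_normalizer_iff]
  intro z
  refine ⟨key t ht z, fun h1 => ?_⟩
  have h2 := key t⁻¹ (inv_mem ht) _ h1
  have h3 : t⁻¹ * (t * z * t⁻¹) * t⁻¹⁻¹ = z := by group
  rwa [h3] at h2

/-- linear elements fix `Z` -/
theorem lin_cent {t : G} (ht : t ∈ T) {l : K} (hl : Lin e U l t) : t ∈ centralizer (Z : Set G) := by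
  rw [mem_centralizer_iff]
  intro z hz
  have hzU := h.ZU hz
  have h3 := hl z hzU
  have hz2 := (h.memZ z hzU).1 hz
  rw [hz2] at h3
  have h4 := h.eq_of (h.cn ht hzU) hzU (by
    rw [h3]
    refine Prod.ext ?_ hz2.symm
    simp)
  rw [mul_inv_eq_iff_eq_mul] at h4
  exact h4.symm

end Crd

namespace One

variable [Finite G] (h : One K F T U Z u e)

include h

/-- **the claim for one index** -/
theorem main (hfix : o2 F ≤ centralizer (Z : Set G) → F ≤ normalizer (Z : Set G)) :
    F ≤ normalizer (Z : Set G) ∨ F ≤ normalizer (U : Set G) := by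
  by_cases h1 : ∃ s ∈ o2 F, ∃ l, Sem e U l s
  · by_cases h2 : ∃ c ∈ o2 F, ∃ l, Sem e U l c ∧ l ^ 2 ≠ l
    · obtain ⟨c, hc, l, h3, h4⟩ := h2
      exact Or.inl (h.F_le_Z hc h3 h4)
    · push Not at h2
      refine Or.inr (h.typeK h1 fun t ht m hm => ?_)
      obtain ⟨s, hs, l, hl⟩ := h1
      rcases hm with hm | hm
      · have h3 := h2 _ (mul_mem ht hs) _ (h.mul_LS hm hl (h.O_le hs))
        rw [sq_add h.cardK, h2 s hs l hl] at h3
        linear_combination h3
      · exact h2 t ht m hm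
  · push Not at h1
    refine Or.inl (hfix fun t ht => ?_)
    obtain ⟨l, hl⟩ := h.act t (h.O_le ht)
    exact h.lin_cent (h.O_le ht) (hl.resolve_right (h1 t ht l))

/-- the case `[Z, O₂(F)] = 1` -/
theorem fix (hA : FFBr.AStmt.{u}) (hz : F ≤ centralizer (zc T : Set G)) (hO : o2 F ≤ centralizer (Z : Set G)) :
    F ≤ normalizer (Z : Set G) := by
  by_cases hJ : jj T ≤ o2 F
  · have h1 : jj (o2 F) = jj T := jj_eq_of_jj_le hJ h.O_le
    have h2 : F ≤ normalizer (jj T : Set G) := by
      rw [← h1]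
      exact (ChoiceSit.le_normalizer_o2 F).trans (normalizer_le_jj _)
    exact fun f hf => h.nJ ⟨hf, h2 hf⟩
  · set Y : Subgroup G := V U F ⊓ centralizer (o2 F : Set G) with hY
    have hZY : Z ≤ Y := le_inf h.Z_le_V (le_centralizer_iff.1 hO)
    have h1 : Y ≤ centralizer (oddGen F : Set G) := by
      refine FixPt.fix_of hA h.syl h.par hJ hz (fun y hy => ?_) ?_ ?_ (inf_le_left.trans h.V_le_O) ?_
      · rw [pow_two]
        exact h.sq y hy.1
      · intro y hy
        rw [mem_centralizer_iff]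
        exact fun x hx => h.comm x hx.1 y hy.1
      · refine NO3b.K0.norm_inf XD.X_le_normalizer_W ?_
        exact (ChoiceSit.le_normalizer_o2 F).trans Dich.norm_cent
      · rw [le_centralizer_iff]
        exact inf_le_right
    have h2 : oddGen F ≤ normalizer (Z : Set G) :=
      (le_centralizer_iff.1 (hZY.trans h1)).trans (centralizer_le_normalizer _)
    rw [← Dich.oddGen_sup_syl h.syl]
    exact sup_le h2 h.T_Z

theorem main_of (hA : FFBr.AStmt.{u}) (hz : F ≤ centralizer (zc T : Set G)) :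
    F ≤ normalizer (Z : Set G) ∨ F ≤ normalizer (U : Set G) := h.main (h.fix hA hz)

end One

end Cfsg.Agent.Omega.OM.FourF
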