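import Cfsg.Agent.Omega.OM.FourF.Ser
import Cfsg.Agent.Omega.OM.Swap.Loc

/-!
# THEOREM 4F at all stages (helper87): the local structure of type `K`

`O ≤ T` acts on `U` by `Lin l`, `Sem l` with `l` in the prime field:

* `Crd.loc` : 394's `Swap.Loc O U DD u`;
* `Crd.EE b = {(x, y) | y² = y, x² + x = b y}` (`b = true, false`), of order 4, `= [U, c] = C_U(c)` for `c = Sem b`;
* `Crd.cj_EE` : an element `Lin m` with `m² ≠ m` interchanges `EE true`, `EE false`.
-/

set_option autoImplicit false

namespace Cfsg.Agent.Omega.OM.FourF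

open Subgroup Cfsg Cfsg.Agent.ZN Cfsg.Agent.ZN.ChoiceBase Cfsg.Agent.ZN.ChoiceSit Cfsg.Agent.Omega.OM.Swap

universe u

variable {K : Type} [Field K] {G : Type u} [Group G] {T U Z : Subgroup G} {u : G} {e : G → K × K}

/-- `b` as an element of the field -/
def bK (K : Type) [Field K] (b : Bool) : K := if b then 1 else 0

theorem bK_sq (b : Bool) : bK K b ^ 2 = bK K b := by
  cases b <;> simp [bK]

theorem exists_b {l : K} (hl : l ^ 2 = l) : ∃ b, bK K b = l := by
  rcases eq_of_sq_eq l hl with h | h
  · exact ⟨false, by simp [bK, h]⟩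
  · exact ⟨true, by simp [bK, h]⟩

theorem bK_inj {b b' : Bool} (h : bK K b = bK K b') : b = b' := by
  cases b <;> cases b' <;> simp [bK] at h ⊢

theorem bK_not (b : Bool) : bK K (!b) = bK K b + 1 ∨ bK K (!b) + 1 = bK K b := by
  cases b <;> simp [bK]

namespace Crd

variable (h : Crd K T U Z u e)

include h

theorem e_u {v : G} (hv : v ∈ U) (h1 : (e v).1 ^ 2 = (e v).1) (h2 : (e v).2 = 0) : v = 1 ∨ v = u := by
  rcases eq_of_sq_eq _ h1 with h3 | h3
  · left
    exact h.inj v hv (Prod.ext h3 h2)
  · right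
    refine h.eq_of hv h.uU ?_
    rw [h.eu]
    exact Prod.ext h3 h2

theorem mul_self {x : K} : x + x = 0 := two_eq h.cardK x

theorem commL {t v : G} {l : K} (ht : t ∈ T) (hl : Lin e U l t) (hv : v ∈ U) :
    e (v * (t * v * t⁻¹)) = (l * (e v).2, 0) := by
  rw [h.mul v hv _ (h.cn ht hv), hl v hv]
  refine Prod.ext ?_ ?_
  · have := two_eq h.cardK (e v).1
    simp only [Prod.fst_add]
    linear_combination this
  · exact two_eq h.cardK _

theorem commS {t v : G} {l : K} (ht : t ∈ T) (hl : Sem e U l t) (hv : v ∈ U) :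
    e (v * (t * v * t⁻¹)) = ((e v).1 ^ 2 + (e v).1 + l * (e v).2 ^ 2, (e v).2 ^ 2 + (e v).2) := by
  rw [h.mul v hv _ (h.cn ht hv), hl v hv]
  refine Prod.ext ?_ ?_
  · simp only [Prod.fst_add]
    ring
  · simp only [Prod.snd_add]
    ring

theorem tr_sq (x : K) : (x ^ 2 + x) ^ 2 = x ^ 2 + x := by
  rcases tr_cases h.cardK x with h1 | h1 <;> rw [h1] <;> simp

/-- `EE b = {(x, y) | y² = y, x² + x = b y}` -/
def EE (b : Bool) : Subgroup G where
  carrier := {v | v ∈ U ∧ (e v).2 ^ 2 = (e v).2 ∧ (e v).1 ^ 2 + (e v).1 = bK K b * (e v).2}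
  one_mem' := ⟨one_mem _, by rw [h.e_one]; simp, by rw [h.e_one]; simp⟩
  mul_mem' := by
    rintro v w ⟨hv, h1, h2⟩ ⟨hw, h3, h4⟩
    refine ⟨mul_mem hv hw, ?_, ?_⟩
    · rw [h.mul v hv w hw, Prod.snd_add, sq_add h.cardK, h1, h3]
    · rw [h.mul v hv w hw, Prod.snd_add, Prod.fst_add, sq_add h.cardK]
      linear_combination h2 + h4
  inv_mem' := by
    rintro v ⟨hv, h1, h2⟩
    rw [h.inv_eq hv]
    exact ⟨hv, h1, h2⟩

theorem mem_EE {b : Bool} {v : G} :
    v ∈ h.EE b ↔ v ∈ U ∧ (e v).2 ^ 2 = (e v).2 ∧ (e v).1 ^ 2 + (e v).1 = bK K b * (e v).2 := Iff.rfl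

theorem EE_le_DD (b : Bool) : h.EE b ≤ h.DD := fun _ hv => ⟨hv.1, hv.2.1⟩

theorem EE_le_U (b : Bool) : h.EE b ≤ U := fun _ hv => hv.1

/-- an element of `EE b` with `y = 1` -/
theorem exists_one (b : Bool) {w : K} (hw : w ^ 2 = w + 1) : ∃ v ∈ h.EE b, e v = (bK K b * w, 1) := by
  obtain ⟨v, hv, e1⟩ := h.surj (bK K b * w, 1)
  refine ⟨v, ⟨hv, ?_, ?_⟩, e1⟩
  · rw [e1]; simp
  · rw [e1]
    simp only
    have h1 := bK_sq (K := K) b
    have h2 := two_eq h.cardK (bK K b * w)
    linear_combination w ^ 2 * h1 + bK K b * hw + h2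

theorem EE_inj {b b' : Bool} (hb : h.EE b = h.EE b') : b = b' := by
  obtain ⟨w, hw⟩ := exists_w h.cardK
  obtain ⟨v, hv, e1⟩ := h.exists_one b hw
  rw [hb] at hv
  have h1 := hv.2.2
  rw [e1] at h1
  simp only at h1
  apply bK_inj (K := K)
  have h2 := bK_sq (K := K) b
  have h3 := two_eq h.cardK (bK K b * w)
  linear_combination h1 - w ^ 2 * h2 - bK K b * hw - h3

theorem EE_ne : h.EE true ≠ h.EE false := fun h1 => by
  have := h.EE_inj h1
  simp at this

theorem card_EE (b : Bool) : Nat.card (h.EE b) = 4 := by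
  classical
  obtain ⟨w, hw⟩ := exists_w h.cardK
  have hw2 := h.ne_of_w hw
  have w0 : w ≠ 0 := fun h0 => hw2 (by rw [h0]; simp)
  have w1 : w ≠ 1 := fun h0 => hw2 (by rw [h0]; simp)
  have hone : (1 : K) + 1 = 0 := two_eq h.cardK 1
  apply le_antisymm
  · have h1 : Nat.card (h.EE b) ≤ Nat.card (Bool × Bool) := by
      refine Nat.card_le_card_of_injective (fun v : h.EE b =>
        (decide ((e v).2 = 0), decide ((e v).1 = 0 ∨ (e v).1 = w))) fun v v' hvv => ?_
      obtain ⟨h1, h2⟩ := Prod.ext_iff.1 hvv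
      simp only [decide_eq_decide] at h1 h2
      obtain ⟨v, hv, hy, hx⟩ := v
      obtain ⟨v', hv', hy', hx'⟩ := v'
      simp only at h1 h2
      have e2 : (e v).2 = (e v').2 := by
        rcases eq_of_sq_eq _ hy with h3 | h3 <;> rcases eq_of_sq_eq _ hy' with h4 | h4
        · rw [h3, h4]
        · exact absurd ((h1.1 h3).symm.trans h4) (by simp)
        · exact absurd ((h1.2 h4).symm.trans h3) (by simp)
        · rw [h3, h4]
      have e3 : ((e v).1 + (e v').1) ^ 2 = (e v).1 + (e v').1 := by
        rw [sq_add h.cardK]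
        rw [← e2] at hx'
        have a1 := two_eq h.cardK (e v).1
        have a2 := two_eq h.cardK (e v').1
        have a3 := two_eq h.cardK (bK K b * (e v).2)
        linear_combination hx + hx' - a1 - a2 + a3
      have e4 : (e v).1 = (e v').1 := by
        rcases eq_of_sq_eq _ e3 with h3 | h3
        · have a2 := two_eq h.cardK (e v').1
          linear_combination h3 - a2
        · exfalso
          have a2 := two_eq h.cardK (e v').1
          have h4 : (e v).1 = (e v').1 + 1 := by linear_combination h3 - a2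
          have a1 := two_eq h.cardK (e v).1
          have h5 : (e v').1 = (e v).1 + 1 := by linear_combination h3 - a1
          have four : ∀ x : K, x = 0 ∨ x = 1 ∨ x = w ∨ x = w + 1 := by
            intro x
            rcases tr_cases h.cardK x with h6 | h6
            · have h7 : x ^ 2 = x := by
                have := two_eq h.cardK x
                linear_combination h6 - this
              rcases eq_of_sq_eq x h7 with h8 | h8
              · exact Or.inl h8
              · exact Or.inr (Or.inl h8)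
            · have h7 : (x + w) ^ 2 = x + w := by
                rw [sq_add h.cardK, hw]
                have := two_eq h.cardK x
                have h8 := two_eq h.cardK (1 : K)
                linear_combination h6 - this + h8
              rcases eq_of_sq_eq _ h7 with h8 | h8
              · right; right; left
                have := two_eq h.cardK w
                linear_combination h8 - this
              · right; right; right
                have := two_eq h.cardK w
                linear_combination h8 - this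
          rcases four (e v).1 with h6 | h6 | h6 | h6
          · rcases h2.1 (Or.inl h6) with h7 | h7
            · rw [h7, h6, zero_add] at h5; exact zero_ne_one h5
            · rw [h7, h6, zero_add] at h5; exact w1 h5
          · rcases h2.2 (Or.inl (by rw [h5, h6, hone])) with h7 | h7
            · rw [h7] at h6; exact zero_ne_one h6
            · rw [h7] at h6; exact w1 h6
          · rcases h2.1 (Or.inr h6) with h7 | h7
            · rw [h7, h6] at h5
              apply w1
              have := two_eq h.cardK (1 : K)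
              linear_combination -h5 - this
            · rw [h7, h6] at h5
              exact one_ne_zero (left_eq_add.1 h5)
          · rcases h2.2 (Or.inr (by rw [h5, h6, add_assoc, hone, add_zero])) with h7 | h7
            · rw [h7] at h6
              apply w1
              have := two_eq h.cardK (1 : K)
              linear_combination -h6 - this
            · rw [h7] at h6
              exact one_ne_zero (left_eq_add.1 h6)
      exact Subtype.ext (h.eq_of hv hv' (Prod.ext e4 e2))
    simpa using h1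
  · obtain ⟨v, hv, e1⟩ := h.exists_one b hw
    have hu : u ∈ h.EE b := ⟨h.uU, by rw [h.eu]; simp, by rw [h.eu]; simp [hone]⟩
    have h1 : Nat.card (Bool × Bool) ≤ Nat.card (h.EE b) := by
      have hfin : Finite (h.EE b) := by
        have : Finite U := Nat.finite_of_card_ne_zero (by rw [h.card_U]; norm_num)
        exact Finite.of_injective (fun v : h.EE b => (⟨v.1, v.2.1⟩ : U)) fun v w hvw =>
          Subtype.ext (Subtype.mk.inj hvw)
      refine Nat.card_le_card_of_injective (fun p : Bool × Bool =>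
        (⟨(if p.1 then u else 1) * (if p.2 then v else 1), mul_mem (by split_ifs; exacts [hu, one_mem _])
          (by split_ifs; exacts [hv, one_mem _])⟩ : h.EE b)) fun p q hpq => ?_
      have hpq' := congrArg Subtype.val hpq
      simp only at hpq'
      have key : ∀ p : Bool × Bool, e ((if p.1 then u else 1) * (if p.2 then v else 1)) =
          (bK K p.1 + bK K p.2 * (bK K b * w), bK K p.2) := by
        rintro ⟨i, j⟩
        cases i <;> cases j <;> refine Prod.ext ?_ ?_ <;> simp [bK, h.e_one, h.eu, e1, h.mul u h.uU v hv.1]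
      have h3 := congrArg e hpq'
      rw [key, key] at h3
      obtain ⟨h4, h5⟩ := Prod.ext_iff.1 h3
      simp only at h4 h5
      have h6 := bK_inj h5
      rw [h6] at h4
      have h7 := bK_inj (add_right_cancel h4)
      exact Prod.ext h7 h6
    simpa using h1

/-- `[U, c] ≤ EE b` for `c = Sem b` -/
theorem comm_mem_EE {c : G} {b : Bool} (hcT : c ∈ T) (hc : Sem e U (bK K b) c) {v : G} (hv : v ∈ U) :
    v * (c * v * c⁻¹) ∈ h.EE b := by
  refine ⟨mul_mem hv (h.cn hcT hv), ?_, ?_⟩
  · rw [h.commS hcT hc hv]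
    exact h.tr_sq _
  · rw [h.commS hcT hc hv]
    simp only
    have h1 := h.tr_sq (e v).1
    have h2 := bK_sq (K := K) b
    have h3 := pow_four h.cardK (e v).2
    have h4 := sq_add h.cardK ((e v).1 ^ 2 + (e v).1) (bK K b * (e v).2 ^ 2)
    have h5 := two_eq h.cardK ((e v).1 ^ 2 + (e v).1)
    rw [h4, h1]
    linear_combination h5 + (e v).2 ^ 4 * h2 + bK K b * h3

/-- `C_U(c) = EE b` for `c = Sem b` -/
theorem ce_S {c : G} {b : Bool} (hcT : c ∈ T) (hc : Sem e U (bK K b) c) : ce U c = h.EE b := by
  ext v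
  rw [mem_ce, h.mem_EE]
  refine and_congr_right fun hv => ?_
  rw [← mul_inv_eq_iff_eq_mul]
  constructor
  · intro h1
    have h2 := hc v hv
    rw [h1] at h2
    obtain ⟨h3, h4⟩ := Prod.ext_iff.1 h2
    simp only at h3 h4
    refine ⟨h4.symm, ?_⟩
    rw [← h4] at h3
    have h5 := two_eq h.cardK (e v).1
    have h6 := two_eq h.cardK (bK K b * (e v).2)
    linear_combination -h3 + h5 - h6
  · rintro ⟨h1, h2⟩
    refine h.eq_of (h.cn hcT hv) hv ?_
    rw [hc v hv]
    refine Prod.ext ?_ h1
    simp only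
    rw [h1]
    have h5 := two_eq h.cardK (e v).1
    have h6 := two_eq h.cardK (bK K b * (e v).2)
    linear_combination h2 - h5 + h6

/-- `C_U(c) = Z` for `c = Lin 1` -/
theorem ce_L {c : G} {m : K} (hcT : c ∈ T) (hc : Lin e U m c) (hm : m ≠ 0) : ce U c = Z := by
  ext v
  rw [mem_ce]
  constructor
  · rintro ⟨hv, h1⟩
    exact (h.fix_L hcT hc hm hv).1 h1
  · intro hv
    exact ⟨h.ZU hv, (h.fix_L hcT hc hm (h.ZU hv)).2 hv⟩

/-- `Lin m`, `m² ≠ m`, interchanges the two `EE` -/
theorem cj_EE [Finite G] {t : G} {m : K} (ht : t ∈ T) (hm : Lin e U m t) (hne : m ^ 2 ≠ m) (b : Bool) :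
    cj t (h.EE b) = h.EE (!b) := by
  have hm1 : m ^ 2 + m = 1 := by
    rcases tr_cases h.cardK m with h1 | h1
    · exfalso
      apply hne
      have := two_eq h.cardK m
      linear_combination h1 - this
    · exact h1
  apply eq_of_le_of_card_ge
  · rintro _ ⟨v, hv, rfl⟩
    change t * v * t⁻¹ ∈ _
    obtain ⟨hvU, h1, h2⟩ := hv
    refine ⟨h.cn ht hvU, ?_, ?_⟩
    · rw [hm v hvU]
      exact h1
    · rw [hm v hvU]
      simp only
      rw [sq_add h.cardK]
      have h3 : (m * (e v).2) ^ 2 = m ^ 2 * (e v).2 := by rw [mul_pow, h1]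
      rw [h3]
      have h4 : bK K (!b) = bK K b + 1 := by
        rcases bK_not (K := K) b with h4 | h4
        · exact h4
        · have := two_eq h.cardK (1 : K)
          linear_combination h4 - this
      rw [h4]
      linear_combination h2 + (e v).2 * hm1
  · rw [card_cj, h.card_EE, h.card_EE]

/-- **394's local structure** -/
theorem loc {O : Subgroup G} (hO : O ≤ T) (hB : ∀ t ∈ O, ∀ l, (Lin e U l t ∨ Sem e U l t) → l ^ 2 = l) :
    Loc O U h.DD u where
  card := h.card_U
  ab := h.Uc
  sq := h.U2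
  nor o ho v hv := h.cn (hO ho) hv
  zU := h.uU
  z1 := h.u_ne
  DU := fun v hv => hv.1
  Dne := by
    obtain ⟨w, hw⟩ := exists_w h.cardK
    obtain ⟨v, hv, e1⟩ := h.surj (0, w)
    refine ⟨v, hv, fun h1 => h.ne_of_w hw ?_⟩
    have := h1.2
    rwa [e1] at this
  s1 o ho v hv := by
    refine ⟨mul_mem hv (h.cn (hO ho) hv), ?_⟩
    obtain ⟨l, hl | hl⟩ := h.act o (hO ho)
    · rw [h.commL (hO ho) hl hv]
      simp
    · rw [h.commS (hO ho) hl hv]
      exact h.tr_sq _
  s2 o ho d hd := by
    obtain ⟨l, hl | hl⟩ := h.act o (hO ho)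
    · have hl2 := hB o ho l (Or.inl hl)
      refine h.e_u (mul_mem hd.1 (h.cn (hO ho) hd.1)) ?_ ?_
      · rw [h.commL (hO ho) hl hd.1]
        simp only
        rw [mul_pow, hl2, hd.2]
      · rw [h.commL (hO ho) hl hd.1]
    · have hl2 := hB o ho l (Or.inr hl)
      refine h.e_u (mul_mem hd.1 (h.cn (hO ho) hd.1)) ?_ ?_
      · rw [h.commS (hO ho) hl hd.1]
        simp only
        rw [sq_add h.cardK, h.tr_sq, hd.2, mul_pow, hl2, hd.2]
      · rw [h.commS (hO ho) hl hd.1]
        simp only
        rw [hd.2]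
        exact two_eq h.cardK _
  s3 o ho hm v hv hvD := by
    have hy : (e v).2 ^ 2 ≠ (e v).2 := fun h1 => hvD ⟨hv, h1⟩
    obtain ⟨l, hl | hl⟩ := h.act o (hO ho)
    · have hl2 := hB o ho l (Or.inl hl)
      have hl1 : l = 1 := by
        rcases eq_of_sq_eq l hl2 with h1 | h1
        · exfalso
          obtain ⟨v', hv', hne⟩ := hm
          rw [h1] at hl
          exact hne (mem_centralizer_iff.1 ((h.lin_zero (hO ho)).1 hl) v' hv').symm
        · exact h1
      constructor
      · intro h1
        have h2 := h.commL (hO ho) hl hv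
        rw [h1, h.e_one, hl1, one_mul] at h2
        have h3 := congrArg Prod.fst h2
        simp only [Prod.fst_zero] at h3
        apply hy
        rw [← h3]; simp
      · intro h1
        have h2 := h.commL (hO ho) hl hv
        rw [h1, h.eu, hl1, one_mul] at h2
        have h3 := congrArg Prod.fst h2
        simp only at h3
        apply hy
        rw [← h3]; simp
    · constructor
      · intro h1
        have h2 := h.commS (hO ho) hl hv
        rw [h1, h.e_one] at h2
        have h3 := congrArg Prod.snd h2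
        simp only [Prod.snd_zero] at h3
        apply hy
        have := two_eq h.cardK (e v).2
        linear_combination -h3 - this
      · intro h1
        have h2 := h.commS (hO ho) hl hv
        rw [h1, h.eu] at h2
        have h3 := congrArg Prod.snd h2
        simp only at h3
        apply hy
        have := two_eq h.cardK (e v).2
        linear_combination -h3 - this
  c4 o ho hm := by
    obtain ⟨l, hl | hl⟩ := h.act o (hO ho)
    · rw [h.ce_L (hO ho) hl fun h1 => ?_]
      · exact h.card_Z
      · obtain ⟨v', hv', hne⟩ := hm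
        rw [h1] at hl
        exact hne (mem_centralizer_iff.1 ((h.lin_zero (hO ho)).1 hl) v' hv').symm
    · obtain ⟨b, hb⟩ := exists_b (hB o ho l (Or.inr hl))
      rw [← hb] at hl
      rw [h.ce_S (hO ho) hl]
      exact h.card_EE b
  c5 o ho v hv := by
    have hoo : o * o ∈ centralizer (U : Set G) := by
      rw [← h.lin_zero (mul_mem (hO ho) (hO ho))]
      obtain ⟨l, hl | hl⟩ := h.act o (hO ho)
      · have h1 := h.mul_LL hl hl (hO ho)
        rwa [two_eq h.cardK] at h1
      · have h1 := h.mul_SS hl hl (hO ho)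
        rwa [hB o ho l (Or.inr hl), two_eq h.cardK] at h1
    have h1 := mem_centralizer_iff.1 hoo v hv
    have h2 : o * (o * v * o⁻¹) * o⁻¹ = v := by
      calc o * (o * v * o⁻¹) * o⁻¹ = (o * o * v) * o⁻¹ * o⁻¹ := by group
        _ = (v * (o * o)) * o⁻¹ * o⁻¹ := by rw [← h1]
        _ = v := by group
    calc o * (v * (o * v * o⁻¹)) * o⁻¹ = (o * v * o⁻¹) * (o * (o * v * o⁻¹) * o⁻¹) := by group
      _ = (o * v * o⁻¹) * v := by rw [h2]
      _ = v * (o * v * o⁻¹) := h.Uc _ (h.cn (hO ho) hv) v hv
  s4 o ho o' ho' hce := by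
    have fin : ∀ {l : K}, (Lin e U l o ∧ Lin e U l o') ∨ (Sem e U l o ∧ Sem e U l o') →
        ∀ v ∈ U, o * v * o⁻¹ = o' * v * o'⁻¹ := by
      intro l hl v hv
      refine h.eq_of (h.cn (hO ho) hv) (h.cn (hO ho') hv) ?_
      rcases hl with ⟨h1, h2⟩ | ⟨h1, h2⟩ <;> rw [h1 v hv, h2 v hv]
    -- a linear and a semilinear element
    have key : ∀ {o o' : G}, o ∈ T → o' ∈ T → ∀ {l m : K}, Lin e U l o → Sem e U m o' → ce U o = ce U o' → False := by
      intro o o' hoT ho'T l m hl hm hce
      obtain ⟨w, hw⟩ := exists_w h.cardK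
      obtain ⟨v, hv, e1⟩ := h.surj (w, 0)
      have hvZ : v ∈ Z := (h.memZ v hv).2 (by rw [e1])
      have h1 : v ∈ ce U o := by
        refine mem_ce.2 ⟨hv, ?_⟩
        by_cases hl0 : l = 0
        · rw [hl0] at hl
          exact (mem_centralizer_iff.1 ((h.lin_zero hoT).1 hl) v hv).symm
        · exact (h.fix_L hoT hl hl0 hv).2 hvZ
      rw [hce] at h1
      have h2 := (h.fix_S ho'T hm hvZ).1 (mem_ce.1 h1).2
      rw [e1] at h2
      exact h.ne_of_w hw h2
    obtain ⟨l, hl⟩ := h.act o (hO ho)
    obtain ⟨m, hm⟩ := h.act o' (hO ho')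
    rcases hl with hl | hl <;> rcases hm with hm | hm
    · by_cases hl0 : l = 0 <;> by_cases hm0 : m = 0
      · rw [hl0] at hl
        rw [hm0] at hm
        exact fin (Or.inl ⟨hl, hm⟩)
      · exfalso
        rw [h.ce_L (hO ho') hm hm0] at hce
        rw [hl0] at hl
        obtain ⟨v, hv, e1⟩ := h.surj (0, 1)
        have h1 : v ∈ ce U o := mem_ce.2 ⟨hv, (mem_centralizer_iff.1 ((h.lin_zero (hO ho)).1 hl) v hv).symm⟩
        rw [hce, h.memZ v hv, e1] at h1
        exact one_ne_zero h1
      · exfalso
        rw [h.ce_L (hO ho) hl hl0] at hce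
        rw [hm0] at hm
        obtain ⟨v, hv, e1⟩ := h.surj (0, 1)
        have h1 : v ∈ ce U o' := mem_ce.2 ⟨hv, (mem_centralizer_iff.1 ((h.lin_zero (hO ho')).1 hm) v hv).symm⟩
        rw [← hce, h.memZ v hv, e1] at h1
        exact one_ne_zero h1
      · have h1 := (eq_of_sq_eq l (hB o ho l (Or.inl hl))).resolve_left hl0
        have h2 := (eq_of_sq_eq m (hB o' ho' m (Or.inl hm))).resolve_left hm0
        rw [h1] at hl
        rw [h2] at hm
        exact fin (Or.inl ⟨hl, hm⟩)
    · exact (key (hO ho) (hO ho') hl hm hce).elim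
    · exact (key (hO ho') (hO ho) hm hl hce.symm).elim
    · obtain ⟨b, hb⟩ := exists_b (hB o ho l (Or.inr hl))
      obtain ⟨b', hb'⟩ := exists_b (hB o' ho' m (Or.inr hm))
      rw [← hb] at hl
      rw [← hb'] at hm
      rw [h.ce_S (hO ho) hl, h.ce_S (hO ho') hm] at hce
      have h1 := h.EE_inj hce
      rw [← h1] at hm
      exact fin (Or.inr ⟨hl, hm⟩)

end Crd

end Cfsg.Agent.Omega.OM.FourF
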