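import Cfsg.Agent.Omega.OM.FourF.Alg
import Cfsg.Agent.Omega.OM.Dich

/-!
# THEOREM F4 (#20047), (3') : `X ≤ M`

`X` with Sylow group `T`; `W i ≅ K²` over a field of order 4, `T` acts by `(x + l y, y)` and `(x² + l y², y²)`.
If for every `i` the group `X` normalises `W i` or `O²(X)` centralises `Z i`, then `X ≤ M`.
-/

set_option autoImplicit false
set_option linter.unusedSectionVars false

namespace Cfsg.Agent.Omega.OM.FourF

open Subgroup Cfsg Cfsg.Agent.ZN.ChoiceBase Cfsg.Agent.ZN.ChoiceSit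
open Cfsg.Agent.ZN (o2)
open Cfsg.Agent.MinSimple.VModule (oddGen oddGen_le mem_oddGen oddGen_def)

/-- `g` acts on `W` as the map `x`. -/
def Act {G K : Type*} [Group G] (W : Subgroup G) (e : G → K × K) (g : G) (x : K × K → K × K) : Prop :=
  ∀ w ∈ W, e (g * w * g⁻¹) = x (e w)

/-- Coordinates on `W`. -/
structure Co {G K : Type*} [Group G] [Field K] (W Z : Subgroup G) (u : G) (e : G → K × K) : Prop where
  mul : ∀ v ∈ W, ∀ w ∈ W, e (v * w) = e v + e w
  ker : ∀ v ∈ W, e v = 0 → v = 1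
  surj : ∀ p, ∃ v ∈ W, e v = p
  memZ : ∀ v, v ∈ Z ↔ v ∈ W ∧ (e v).2 = 0
  uW : u ∈ W
  eu : e u = (1, 0)

section

variable {G K : Type*} [Group G] [Field K] {W Z : Subgroup G} {u : G} {e : G → K × K}

theorem conjW {g w : G} (hg : g ∈ normalizer (W : Set G)) (hw : w ∈ W) : g * w * g⁻¹ ∈ W :=
  (mem_normalizer_iff.1 hg w).1 hw

namespace Co

variable (h : Co W Z u e)
include h

theorem one : e 1 = 0 := by
  have := h.mul 1 (one_mem _) 1 (one_mem _)
  rw [mul_one] at this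
  exact left_eq_add.1 this

theorem inv {v : G} (hv : v ∈ W) : e v⁻¹ = - e v := by
  have := h.mul v hv v⁻¹ (inv_mem hv)
  rw [mul_inv_cancel, h.one] at this
  exact (neg_eq_of_add_eq_zero_right this.symm).symm

theorem inj {v w : G} (hv : v ∈ W) (hw : w ∈ W) (he : e v = e w) : v = w := by
  have h1 := h.mul v hv w⁻¹ (inv_mem hw)
  rw [h.inv hw, he, add_neg_cancel] at h1
  have h2 := h.ker _ (mul_mem hv (inv_mem hw)) h1
  exact mul_inv_eq_one.1 h2

theorem ZW : Z ≤ W := fun _ hv => ((h.memZ _).1 hv).1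

theorem uZ : u ∈ Z := (h.memZ u).2 ⟨h.uW, by rw [h.eu]⟩

theorem add {g : G} {x : K × K → K × K} (hg : g ∈ normalizer (W : Set G)) (hx : Act W e g x) (p q : K × K) :
    x (p + q) = x p + x q := by
  obtain ⟨v, hv, rfl⟩ := h.surj p
  obtain ⟨w, hw, rfl⟩ := h.surj q
  rw [← h.mul v hv w hw, ← hx _ (mul_mem hv hw), ← hx v hv, ← hx w hw, ← h.mul _ (conjW hg hv) _ (conjW hg hw)]
  congr 1
  group

theorem uniq {g : G} {x y : Equiv.Perm (K × K)} (hx : Act W e g x) (hy : Act W e g y) : x = y := by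
  ext p : 1
  obtain ⟨v, hv, rfl⟩ := h.surj p
  rw [← hx v hv, ← hy v hv]

theorem exists_perm {g : G} (hg : g ∈ normalizer (W : Set G)) : ∃ x : Equiv.Perm (K × K), Act W e g x := by
  choose v hv hve using h.surj
  have hv' : ∀ w ∈ W, v (e w) = w := fun w hw => h.inj (hv _) hw (hve _)
  have hgi : g⁻¹ ∈ normalizer (W : Set G) := inv_mem hg
  refine ⟨⟨fun p => e (g * v p * g⁻¹), fun p => e (g⁻¹ * v p * g⁻¹⁻¹), fun p => ?_, fun p => ?_⟩, fun w hw => ?_⟩
  · show e (g⁻¹ * v (e (g * v p * g⁻¹)) * g⁻¹⁻¹) = p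
    rw [hv' _ (conjW hg (hv p))]
    have e1 : g⁻¹ * (g * v p * g⁻¹) * g⁻¹⁻¹ = v p := by group
    rw [e1, hve]
  · show e (g * v (e (g⁻¹ * v p * g⁻¹⁻¹)) * g⁻¹) = p
    rw [hv' _ (conjW hgi (hv p))]
    have e1 : g * (g⁻¹ * v p * g⁻¹⁻¹) * g⁻¹ = v p := by group
    rw [e1, hve]
  · show e (g * w * g⁻¹) = e (g * v (e w) * g⁻¹)
    rw [hv' w hw]

omit h in
theorem act_mul {g k : G} {x y : Equiv.Perm (K × K)} (hk : k ∈ normalizer (W : Set G)) (hx : Act W e g x)
    (hy : Act W e k y) : Act W e (g * k) (x * y : Equiv.Perm (K × K)) := by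
  intro w hw
  have e1 : g * k * w * (g * k)⁻¹ = g * (k * w * k⁻¹) * g⁻¹ := by group
  rw [e1, hx _ (conjW hk hw), hy w hw, Equiv.Perm.mul_apply]

omit h in
theorem act_inv {g : G} {x : Equiv.Perm (K × K)} (hg : g ∈ normalizer (W : Set G)) (hx : Act W e g x) :
    Act W e g⁻¹ (x⁻¹ : Equiv.Perm (K × K)) := by
  intro w hw
  have h1 := hx _ (conjW (inv_mem hg) hw)
  have e1 : g * (g⁻¹ * w * g⁻¹⁻¹) * g⁻¹ = w := by group
  rw [e1] at h1
  rw [h1]
  exact (Equiv.symm_apply_apply x _).symm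

omit h in
theorem act_one : Act W e 1 (1 : Equiv.Perm (K × K)) := by
  intro w _
  rw [one_mul, inv_one, mul_one, Equiv.Perm.one_apply]

omit h in
theorem act_pow {g : G} {x : Equiv.Perm (K × K)} (hg : g ∈ normalizer (W : Set G)) (hx : Act W e g x) (n : ℕ) :
    Act W e (g ^ n) (x ^ n : Equiv.Perm (K × K)) := by
  induction n with
  | zero => rw [pow_zero, pow_zero]; exact act_one
  | succ n ih => rw [pow_succ, pow_succ]; exact act_mul hg ih hx

/-- an element of odd order acts as a permutation of odd order. -/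
theorem odd {g : G} {x : Equiv.Perm (K × K)} (hg : g ∈ normalizer (W : Set G)) (hx : Act W e g x)
    (ho : Odd (orderOf g)) : Odd (orderOf x) := by
  refine ho.of_dvd_nat ?_
  apply orderOf_dvd_of_pow_eq_one
  have h1 := act_pow hg hx (orderOf g)
  rw [pow_orderOf_eq_one] at h1
  exact h.uniq h1 act_one

theorem mem_cj_Z {g w : G} (hg : g ∈ normalizer (W : Set G)) {x : Equiv.Perm (K × K)} (hx : Act W e g x)
    (hZ : ∀ z : K, (x (z, 0)).2 = 0) (hw : w ∈ Z) : g * w * g⁻¹ ∈ Z := by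
  obtain ⟨h1, h2⟩ := (h.memZ w).1 hw
  refine (h.memZ _).2 ⟨conjW hg h1, ?_⟩
  rw [hx w h1]
  have : e w = ((e w).1, 0) := by rw [← h2]
  rw [this]
  exact hZ _

/-- an element of odd order which normalises `Z` and centralises `u` centralises `Z`. -/
theorem cent_of_nor [CharP K 2] (hK : Nat.card K = 4) {f : G} (hf : f ∈ normalizer (Z : Set G)) (hu : f * u = u * f)
    (ho : Odd (orderOf f)) : ∀ z ∈ Z, f * z = z * f := by
  intro z hz
  apply comm_of_sq ho
  have hv : ∀ a : K, ∃ v ∈ Z, e v = (a, 0) := by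
    intro a
    obtain ⟨v, hv, he⟩ := h.surj (a, 0)
    exact ⟨v, (h.memZ v).2 ⟨hv, by rw [he]⟩, he⟩
  choose v hvZ hve using hv
  have hvW : ∀ a, v a ∈ W := fun a => h.ZW (hvZ a)
  have hfv : ∀ a, f * v a * f⁻¹ ∈ Z := fun a => conjW hf (hvZ a)
  have hφ : ∀ a, f * v a * f⁻¹ = v (e (f * v a * f⁻¹)).1 := by
    intro a
    refine h.inj (h.ZW (hfv a)) (hvW _) ?_
    rw [hve]
    ext
    · rfl
    · exact ((h.memZ _).1 (hfv a)).2
  have hadd : ∀ a b, v (a + b) = v a * v b := by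
    intro a b
    refine h.inj (hvW _) (mul_mem (hvW _) (hvW _)) ?_
    rw [h.mul _ (hvW _) _ (hvW _), hve, hve, hve]
    simp
  have hv1 : v 1 = u := h.inj (hvW _) h.uW (by rw [hve, h.eu])
  have key := phi_invol hK (fun a => (e (f * v a * f⁻¹)).1) (fun a b => ?_) (fun a b hab => ?_) ?_ (e z).1
  · have hz1 : z = v (e z).1 := by
      refine h.inj (h.ZW hz) (hvW _) ?_
      rw [hve]
      ext
      · rfl
      · exact ((h.memZ _).1 hz).2
    have h1 : f * (f * z * f⁻¹) * f⁻¹ = z := by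
      rw [hz1, hφ (e z).1, hφ (e (f * v (e z).1 * f⁻¹)).1, key]
    calc f * f * z = f * (f * z * f⁻¹) * f⁻¹ * (f * f) := by group
      _ = z * (f * f) := by rw [h1]
  · have e1 : f * v (a + b) * f⁻¹ = (f * v a * f⁻¹) * (f * v b * f⁻¹) := by rw [hadd]; group
    rw [e1, h.mul _ (h.ZW (hfv a)) _ (h.ZW (hfv b))]
    rfl
  · have h1 : f * v a * f⁻¹ = f * v b * f⁻¹ := by rw [hφ a, hφ b, hab]
    have h2 : v a = v b := mul_left_cancel (mul_right_cancel h1)
    have h3 := congrArg e h2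
    rw [hve, hve] at h3
    exact congrArg Prod.fst h3
  · have e1 : f * v 1 * f⁻¹ = u := by rw [hv1, hu]; group
    rw [e1, h.eu]

end Co

end

/-- The situation of (3'). -/
structure Thr {G K ι : Type*} [Group G] [Field K] (X T M : Subgroup G) (W Z : ι → Subgroup G) (u : ι → G)
    (e : ι → G → K × K) : Prop where
  card : Nat.card K = 4
  syl : Syl T X
  TM : T ≤ M
  co : ∀ i, Co (W i) (Z i) (u i) (e i)
  TN : ∀ i, T ≤ normalizer (W i : Set G)
  act : ∀ i, ∀ t ∈ T, ∃ l : K, Act (W i) (e i) t (fun p => (p.1 + l * p.2, p.2)) ∨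
    Act (W i) (e i) t (fun p => (p.1 * p.1 + l * (p.2 * p.2), p.2 * p.2))
  full : ∀ i (l : K), ∃ t ∈ T, Act (W i) (e i) t (fun p => (p.1 + l * p.2, p.2))
  sl : ∀ i (a b c d : K), a * d - b * c = 1 → ∃ g ∈ M, g ∈ normalizer (W i : Set G) ∧
    Act (W i) (e i) g (fun p => (a * p.1 + b * p.2, c * p.1 + d * p.2)) ∧ ∀ j, j ≠ i → ∀ w ∈ W j, g * w = w * g
  NM : ∀ g, (∀ i, cj g (Z i) = Z i) → g ∈ M
  Xu : ∀ i, ∀ x ∈ X, x * u i = u i * x
  fix : ∀ i, (∀ o ∈ o2 X, ∀ z ∈ Z i, o * z = z * o) → ∀ x ∈ X, ∀ z ∈ Z i, x * z = z * x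

namespace Thr

variable {G K ι : Type*} [Group G] [Field K] [CharP K 2] {X T M : Subgroup G} {W Z : ι → Subgroup G} {u : ι → G}
  {e : ι → G → K × K} (h : Thr X T M W Z u e)
include h

theorem OT [Finite G] : o2 X ≤ T := o2_le_syl h.syl

theorem TX : T ≤ X := h.syl.1

/-- elements of `T` act on `Z / u` trivially. -/
theorem mod_u {i : ι} {t w : G} (ht : t ∈ T) (hw : w ∈ Z i) : t * w * t⁻¹ = w ∨ t * w * t⁻¹ = w * u i := by
  have hc := h.co i
  obtain ⟨hwW, hw2⟩ := (hc.memZ w).1 hw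
  have htW := conjW (h.TN i ht) hwW
  obtain ⟨l, hl | hl⟩ := h.act i t ht
  · left
    refine hc.inj htW hwW ?_
    rw [hl w hwW]
    ext
    · simp [hw2]
    · simp
  · have h1 := hl w hwW
    simp only [hw2, mul_zero, add_zero] at h1
    by_cases h0 : (e i w).1 = 0 ∨ (e i w).1 = 1
    · left
      refine hc.inj htW hwW ?_
      rw [h1]
      ext
      · rcases h0 with h0 | h0 <;> rw [h0] <;> simp
      · exact hw2.symm
    · right
      push Not at h0
      have hr := root h.card h0.1 h0.2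
      refine hc.inj htW (mul_mem hwW hc.uW) ?_
      rw [h1, hc.mul w hwW _ hc.uW, hc.eu, hr]
      ext
      · simp
      · simp [hw2]

/-- the uniserial case. -/
theorem nor_of_uni [Finite G] {i : ι} (hW : X ≤ normalizer (W i : Set G)) {t : G} (ht : t ∈ o2 X) {l : K} (hl0 : l ≠ 0)
    (hl1 : l ≠ 1) (hl : Act (W i) (e i) t (fun p => (p.1 * p.1 + l * (p.2 * p.2), p.2 * p.2))) :
    X ≤ normalizer (Z i : Set G) := by
  have hc := h.co i
  have h2 := two0 (K := K)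
  intro x hx
  refine mem_normalizer_of_cj_le fun v hv => ?_
  rw [mem_cj] at hv
  set w := x⁻¹ * v * x with hw
  have hwW := hc.ZW hv
  have hv' : v = x * w * x⁻¹ := by rw [hw]; group
  have hvW : v ∈ W i := by
    rw [hv']
    exact conjW (hW hx) hwW
  have ho : x⁻¹ * t * x ∈ T := by
    refine h.OT ?_
    have := conjW (le_normalizer_o2 X (inv_mem hx)) ht
    rwa [inv_inv] at this
  have h1 : t * v * t⁻¹ = v ∨ t * v * t⁻¹ = v * u i := by
    have e1 : t * v * t⁻¹ = x * (x⁻¹ * t * x * w * (x⁻¹ * t * x)⁻¹) * x⁻¹ := by rw [hv']; group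
    rcases h.mod_u ho hv with h3 | h3
    · left
      rw [e1, h3, ← hv']
    · right
      rw [e1, h3, hv']
      have e2 : x * (w * u i) * x⁻¹ = x * w * x⁻¹ * (x * u i * x⁻¹) := by group
      have e3 : x * u i * x⁻¹ = u i := by rw [h.Xu i x hx]; group
      rw [e2, e3]
  have h3 := hl v hvW
  refine (hc.memZ v).2 ⟨hvW, ?_⟩
  set a := (e i v).1 with ha
  set b := (e i v).2 with hb
  have hab : e i v = (a, b) := rfl
  -- `b² = b`, `a² + l b² = a` or `a + 1`
  have h4 : b * b = b ∧ (a * a + l * (b * b) = a ∨ a * a + l * (b * b) = a + 1) := by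
    rcases h1 with h1 | h1
    · rw [h1, hab] at h3
      exact ⟨(congrArg Prod.snd h3).symm, Or.inl (congrArg Prod.fst h3).symm⟩
    · rw [h1, hc.mul v hvW _ hc.uW, hab, hc.eu] at h3
      have h5 := congrArg Prod.fst h3
      have h6 := congrArg Prod.snd h3
      simp only [Prod.mk_add_mk, add_zero] at h5 h6
      exact ⟨h6.symm, Or.inr h5.symm⟩
  obtain ⟨hbb, h5⟩ := h4
  by_contra hb0
  have hb1 : b = 1 := mul_left_cancel₀ hb0 (by rw [hbb, mul_one])
  rw [hb1, mul_one, mul_one] at h5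
  have h6 : a * a + a = 0 ∨ a * a + a = 1 := by
    by_cases h7 : a = 0
    · left; rw [h7]; simp
    by_cases h8 : a = 1
    · left; rw [h8]; linear_combination h2
    right
    rw [root h.card h7 h8]
    linear_combination a * h2
  rcases h5 with h5 | h5 <;> rcases h6 with h6 | h6
  · exact hl0 (by linear_combination h5 + h6 - a * a * h2)
  · exact hl1 (by linear_combination h5 + h6 - a * a * h2)
  · exact hl1 (by linear_combination h5 + h6 - a * a * h2)
  · exact hl0 (by linear_combination h5 + h6 - (a * a - 1) * h2)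

/-- the image of `O₂(X)` on `W i` is the four-group `⟨e, s⟩`. -/
theorem four [Finite G] {i : ι} (hW : X ≤ normalizer (W i : Set G))
    (hne : ¬ ∀ x ∈ oddGen X, ∀ z ∈ Z i, x * z = z * x) :
    (∃ c ∈ o2 X, Act (W i) (e i) c (fun p => (p.1 + p.2, p.2))) ∧
    (∃ t ∈ o2 X, Act (W i) (e i) t (fun p => (p.1 * p.1, p.2 * p.2))) ∧
    ∀ o ∈ o2 X, ∃ l : K, (l = 0 ∨ l = 1) ∧ (Act (W i) (e i) o (fun p => (p.1 + l * p.2, p.2)) ∨
      Act (W i) (e i) o (fun p => (p.1 * p.1 + l * (p.2 * p.2), p.2 * p.2))) := by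
  have hc := h.co i
  have h2 := two0 (K := K)
  have hXZ : ¬ X ≤ normalizer (Z i : Set G) := by
    intro hX
    apply hne
    intro x hx
    have h1 : oddGen X ≤ centralizer (Z i : Set G) := by
      rw [oddGen_def, closure_le]
      rintro f ⟨hf, ho⟩
      refine mem_centralizer_iff.2 fun z hz => ?_
      exact (hc.cent_of_nor h.card (hX hf) (h.Xu i f hf) ho z hz).symm
    exact fun z hz => (mem_centralizer_iff.1 (h1 hx) z hz).symm
  -- the semilinear elements of `O₂(X)`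
  have hl01 : ∀ t ∈ o2 X, ∀ l : K, Act (W i) (e i) t (fun p => (p.1 * p.1 + l * (p.2 * p.2), p.2 * p.2)) →
      l = 0 ∨ l = 1 := by
    intro t ht l hl
    by_contra hcon
    push Not at hcon
    exact hXZ (h.nor_of_uni hW ht hcon.1 hcon.2 hl)
  -- there is one
  obtain ⟨t₀, ht₀, l₀, hl₀⟩ : ∃ t ∈ o2 X, ∃ l : K,
      Act (W i) (e i) t (fun p => (p.1 * p.1 + l * (p.2 * p.2), p.2 * p.2)) := by
    by_contra hcon
    push Not at hcon
    apply hne
    have h1 := h.fix i fun o ho z hz => ?_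
    · exact fun x hx => h1 x (oddGen_le X hx)
    obtain ⟨hzW, hz2⟩ := (hc.memZ z).1 hz
    obtain ⟨l, hl | hl⟩ := h.act i o (h.OT ho)
    · have h3 : o * z * o⁻¹ = z := by
        refine hc.inj (conjW (hW (o2_le X ho)) hzW) hzW ?_
        rw [hl z hzW]
        ext
        · simp [hz2]
        · simp
      exact mul_inv_eq_iff_eq_mul.1 h3
    · exact absurd hl (hcon o ho l)
  have hl₀01 := hl01 t₀ ht₀ l₀ hl₀
  -- the linear ones
  have hlin : ∀ t ∈ o2 X, ∀ l : K, Act (W i) (e i) t (fun p => (p.1 + l * p.2, p.2)) → l = 0 ∨ l = 1 := by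
    intro t ht l hl
    have h3 : Act (W i) (e i) (t₀ * t) (fun p => (p.1 * p.1 + (l * l + l₀) * (p.2 * p.2), p.2 * p.2)) := by
      intro w hw
      have e1 : t₀ * t * w * (t₀ * t)⁻¹ = t₀ * (t * w * t⁻¹) * t₀⁻¹ := by group
      rw [e1, hl₀ _ (conjW (hW (o2_le X ht)) hw), hl w hw]
      ext
      · simp only; linear_combination (l * (e i w).1 * (e i w).2) * h2
      · simp only
    have h4 := hl01 _ (mul_mem ht₀ ht) _ h3
    by_contra hcon
    push Not at hcon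
    have hr := root h.card hcon.1 hcon.2
    rcases hl₀01 with h5 | h5 <;> rcases h4 with h6 | h6
    · exact hcon.2 (by linear_combination h6 - hr - h5 - h2)
    · exact hcon.1 (by linear_combination h6 - hr - h5)
    · exact hcon.1 (by linear_combination h6 - hr - h5 - h2)
    · exact hcon.2 (by linear_combination h6 - hr - h5 - h2)
  obtain ⟨om, ho0, ho1⟩ := exists_om h.card
  have hr := root h.card ho0 ho1
  obtain ⟨b, hbT, hb⟩ := h.full i om
  have hbN := h.TN i hbT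
  have ht₀N := hW (o2_le X ht₀)
  obtain ⟨xb, hxb⟩ := hc.exists_perm hbN
  obtain ⟨xt, hxt⟩ := hc.exists_perm ht₀N
  have hxb' : ∀ p : K × K, xb p = (p.1 + om * p.2, p.2) := by
    intro p
    obtain ⟨w, hw, rfl⟩ := hc.surj p
    rw [← hxb w hw, hb w hw]
  have hxt' : ∀ p : K × K, xt p = (p.1 * p.1 + l₀ * (p.2 * p.2), p.2 * p.2) := by
    intro p
    obtain ⟨w, hw, rfl⟩ := hc.surj p
    rw [← hxt w hw, hl₀ w hw]
  have hcm : b * t₀ * b⁻¹ * t₀⁻¹ ∈ o2 X :=
    mul_mem (conjW (le_normalizer_o2 X (h.TX hbT)) ht₀) (inv_mem ht₀)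
  have hcA : Act (W i) (e i) (b * t₀ * b⁻¹ * t₀⁻¹) (fun p => (p.1 + p.2, p.2)) := by
    have h3 := Co.act_mul (inv_mem ht₀N) (Co.act_mul (inv_mem hbN) (Co.act_mul ht₀N hxb hxt) (Co.act_inv hbN hxb))
      (Co.act_inv ht₀N hxt)
    intro w hw
    rw [h3 w hw]
    -- `xb xt xb⁻¹ xt⁻¹ p = p + (p.2, 0)`
    have h4 : ∀ p : K × K, xb (xt p) = ((xt (xb p)).1 + (xt (xb p)).2, (xt (xb p)).2) := by
      intro p
      rw [hxb', hxt', hxb', hxt']
      ext
      · simp only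
        linear_combination (-(p.2 * p.2)) * hr - (om * p.1 * p.2 + p.2 * p.2) * h2
      · simp only
    have h5 := h4 (xb⁻¹ (xt⁻¹ (e i w)))
    have h6 : xb (xb⁻¹ (xt⁻¹ (e i w))) = xt⁻¹ (e i w) := Equiv.apply_symm_apply xb _
    have h7 : xt (xt⁻¹ (e i w)) = e i w := Equiv.apply_symm_apply xt _
    rw [h6, h7] at h5
    exact h5
  refine ⟨⟨_, hcm, hcA⟩, ?_, fun o ho => ?_⟩
  · rcases hl₀01 with h5 | h5
    · refine ⟨t₀, ht₀, ?_⟩
      intro w hw
      rw [hl₀ w hw, h5]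
      simp
    · refine ⟨b * t₀ * b⁻¹ * t₀⁻¹ * t₀, mul_mem hcm ht₀, ?_⟩
      intro w hw
      have e1 : b * t₀ * b⁻¹ * t₀⁻¹ * t₀ * w * (b * t₀ * b⁻¹ * t₀⁻¹ * t₀)⁻¹ =
        b * t₀ * b⁻¹ * t₀⁻¹ * (t₀ * w * t₀⁻¹) * (b * t₀ * b⁻¹ * t₀⁻¹)⁻¹ := by group
      rw [e1, hcA _ (conjW ht₀N hw), hl₀ w hw, h5]
      ext
      · simp only; linear_combination ((e i w).2 * (e i w).2) * h2
      · simp only
  · obtain ⟨l, hl | hl⟩ := h.act i o (h.OT ho)
    · exact ⟨l, hlin o ho l hl, Or.inl hl⟩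
    · exact ⟨l, hl01 o ho l hl, Or.inr hl⟩

end Thr

/-- the group `N_i`. -/
structure NN {G ι : Type*} [Group G] (W Z : ι → Subgroup G) (Ps : Set ι) (i : ι) (g : G) : Prop where
  nor : ∀ j ∈ Ps, g ∈ normalizer (W j : Set G)
  cen : ∀ j ∈ Ps, j ≠ i → ∀ w ∈ W j, g * w = w * g
  out : ∀ j, j ∉ Ps → ∀ z ∈ Z j, g * z = z * g

theorem comm_inv {G : Type*} [Group G] {g w : G} (h : g * w = w * g) : g⁻¹ * w = w * g⁻¹ := by
  rw [inv_mul_eq_iff_eq_mul, ← mul_assoc, h, mul_inv_cancel_right]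

theorem comm_mul {G : Type*} [Group G] {g k w : G} (h : g * w = w * g) (h' : k * w = w * k) :
    g * k * w = w * (g * k) := by
  rw [mul_assoc, h', ← mul_assoc, h, mul_assoc]

namespace NN

variable {G ι : Type*} [Group G] {W Z : ι → Subgroup G} {Ps : Set ι} {i : ι}

theorem one : NN W Z Ps i 1 := ⟨fun _ _ => one_mem _, fun _ _ _ _ _ => by simp, fun _ _ _ _ => by simp⟩

theorem mul {g k : G} (h : NN W Z Ps i g) (h' : NN W Z Ps i k) : NN W Z Ps i (g * k) :=
  ⟨fun j hj => mul_mem (h.nor j hj) (h'.nor j hj), fun j hj hji w hw => comm_mul (h.cen j hj hji w hw) (h'.cen j hj hji w hw),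
    fun j hj z hz => comm_mul (h.out j hj z hz) (h'.out j hj z hz)⟩

theorem inv {g : G} (h : NN W Z Ps i g) : NN W Z Ps i g⁻¹ :=
  ⟨fun j hj => inv_mem (h.nor j hj), fun j hj hji w hw => comm_inv (h.cen j hj hji w hw),
    fun j hj z hz => comm_inv (h.out j hj z hz)⟩

/-- conjugation by an element which normalises all `W j` (`j ∈ Ps`) and all `Z j` (`j ∉ Ps`). -/
theorem conj {g f : G} (h : NN W Z Ps i g) (hf : ∀ j ∈ Ps, f ∈ normalizer (W j : Set G))
    (hf' : ∀ j, j ∉ Ps → f ∈ normalizer (Z j : Set G)) : NN W Z Ps i (f * g * f⁻¹) := by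
  have key : ∀ w : G, g * (f⁻¹ * w * f) = (f⁻¹ * w * f) * g → f * g * f⁻¹ * w = w * (f * g * f⁻¹) := by
    intro w hw
    calc f * g * f⁻¹ * w = f * (g * (f⁻¹ * w * f)) * f⁻¹ := by group
      _ = _ := by rw [hw]; group
  refine ⟨fun j hj => mul_mem (mul_mem (hf j hj) (h.nor j hj)) (inv_mem (hf j hj)), fun j hj hji w hw => key w ?_,
    fun j hj z hz => key z ?_⟩
  · refine h.cen j hj hji _ ?_
    have := conjW (inv_mem (hf j hj)) hw
    rwa [inv_inv] at this
  · refine h.out j hj _ ?_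
    have := conjW (inv_mem (hf' j hj)) hz
    rwa [inv_inv] at this

end NN

namespace Thr

variable {G K ι : Type*} [Group G] [Field K] [CharP K 2] {X T M : Subgroup G} {W Z : ι → Subgroup G} {u : ι → G}
  {e : ι → G → K × K} (h : Thr X T M W Z u e)
include h

/-- `T` normalises `Z i`. -/
theorem TZ [Finite G] (i : ι) : T ≤ normalizer (Z i : Set G) := by
  intro t ht
  refine mem_normalizer_of_cj_le fun v hv => ?_
  rw [mem_cj] at hv
  have h1 := h.mod_u ht hv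
  have e1 : t * (t⁻¹ * v * t) * t⁻¹ = v := by group
  rw [e1] at h1
  rcases h1 with h1 | h1
  · rw [h1]; exact hv
  · rw [h1]; exact mul_mem hv (h.co i).uZ

theorem exists_m [Finite G] {Ps : Set ι} (hP : ∀ i ∈ Ps, X ≤ normalizer (W i : Set G) ∧
    ¬ ∀ x ∈ oddGen X, ∀ z ∈ Z i, x * z = z * x) (hP' : ∀ i, i ∉ Ps → ∀ x ∈ oddGen X, ∀ z ∈ Z i, x * z = z * x)
    {f : G} (hf : f ∈ X) (ho : Odd (orderOf f)) {i : ι} (hi : i ∈ Ps) :
    ∃ g ∈ M, NN W Z Ps i g ∧ cj g (Z i) = cj f (Z i) := by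
  have hc := h.co i
  have hNi : ∀ g, NN W Z Ps i g → g ∈ normalizer (W i : Set G) := fun g hg => hg.nor i hi
  obtain ⟨⟨c, hcO, hcA⟩, ⟨t, htO, htA⟩, hall⟩ := h.four (hP i hi).1 (hP i hi).2
  have hcN := (hP i hi).1 (o2_le X hcO)
  have htN := (hP i hi).1 (o2_le X htO)
  have hfN : ∀ j ∈ Ps, f ∈ normalizer (W j : Set G) := fun j hj => (hP j hj).1 hf
  have hfZ : ∀ j, j ∉ Ps → f ∈ normalizer (Z j : Set G) := fun j hj => by
    refine mem_normalizer_of_cj_le fun v hv => ?_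
    rw [mem_cj] at hv
    have h1 := hP' j hj f (mem_oddGen hf ho) _ hv
    have e1 : f * (f⁻¹ * v * f) = v * f := by group
    rw [e1] at h1
    rw [mul_right_cancel h1]
    exact hv
  let XX : Subgroup (Equiv.Perm (K × K)) :=
    { carrier := {x | ∃ g, NN W Z Ps i g ∧ Act (W i) (e i) g x}
      one_mem' := ⟨1, NN.one, Co.act_one⟩
      mul_mem' := by
        rintro x y ⟨g, hg, hx⟩ ⟨k, hk, hy⟩
        exact ⟨g * k, hg.mul hk, Co.act_mul (hNi k hk) hx hy⟩
      inv_mem' := by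
        rintro x ⟨g, hg, hx⟩
        exact ⟨g⁻¹, hg.inv, Co.act_inv (hNi g hg) hx⟩ }
  let MM : Subgroup (Equiv.Perm (K × K)) :=
    { carrier := {x | ∃ g ∈ M, NN W Z Ps i g ∧ Act (W i) (e i) g x}
      one_mem' := ⟨1, one_mem _, NN.one, Co.act_one⟩
      mul_mem' := by
        rintro x y ⟨g, hgM, hg, hx⟩ ⟨k, hkM, hk, hy⟩
        exact ⟨g * k, mul_mem hgM hkM, hg.mul hk, Co.act_mul (hNi k hk) hx hy⟩
      inv_mem' := by
        rintro x ⟨g, hgM, hg, hx⟩
        exact ⟨g⁻¹, inv_mem hgM, hg.inv, Co.act_inv (hNi g hg) hx⟩ }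
  obtain ⟨pe, hpe⟩ := hc.exists_perm hcN
  obtain ⟨ps, hps⟩ := hc.exists_perm htN
  obtain ⟨pf, hpf⟩ := hc.exists_perm (hfN i hi)
  have hpe' : ∀ p : K × K, pe p = (p.1 + p.2, p.2) := by
    intro p
    obtain ⟨w, hw, rfl⟩ := hc.surj p
    rw [← hpe w hw, hcA w hw]
  have hps' : ∀ p : K × K, ps p = (p.1 * p.1, p.2 * p.2) := by
    intro p
    obtain ⟨w, hw, rfl⟩ := hc.surj p
    rw [← hps w hw, htA w hw]
  have h2 := two0 (K := K)
  have hpse : ∀ p : K × K, (ps * pe) p = (p.1 * p.1 + p.2 * p.2, p.2 * p.2) := by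
    intro p
    rw [Equiv.Perm.mul_apply, hpe', hps']
    ext
    · simp only; linear_combination (p.1 * p.2) * h2
    · simp only
  -- conjugates of elements of `O₂(X)`
  have hconj : ∀ o ∈ o2 X, ∀ x : Equiv.Perm (K × K), Act (W i) (e i) o x → x ≠ 1 →
      pf * x * pf⁻¹ = pe ∨ pf * x * pf⁻¹ = ps ∨ pf * x * pf⁻¹ = ps * pe := by
    intro o ho x hx hx1
    have h3 : f * o * f⁻¹ ∈ o2 X := conjW (le_normalizer_o2 X hf) ho
    have hoN := (hP i hi).1 (o2_le X ho)
    have h4 : Act (W i) (e i) (f * o * f⁻¹) (pf * x * pf⁻¹ : Equiv.Perm (K × K)) :=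
      Co.act_mul (inv_mem (hfN i hi)) (Co.act_mul hoN hpf hx) (Co.act_inv (hfN i hi) hpf)
    have h5 : ∀ (y : Equiv.Perm (K × K)) (y' : K × K → K × K), (∀ p, y p = y' p) → Act (W i) (e i) (f * o * f⁻¹) y' →
        pf * x * pf⁻¹ = y := by
      intro y y' hyy hy'
      refine hc.uniq h4 fun w hw => ?_
      rw [hy' w hw, hyy]
    obtain ⟨l, hl01, hl | hl⟩ := hall _ h3
    · rcases hl01 with h6 | h6
      · exfalso
        apply hx1
        have h7 := h5 1 _ (fun p => by rw [h6]; simp) hl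
        have h8 : x = pf⁻¹ * (pf * x * pf⁻¹) * pf := by group
        rw [h8, h7]; group
      · exact Or.inl (h5 pe _ (fun p => by rw [hpe', h6, one_mul]) hl)
    · rcases hl01 with h6 | h6
      · exact Or.inr (Or.inl (h5 ps _ (fun p => by rw [hps', h6, zero_mul, add_zero]) hl))
      · exact Or.inr (Or.inr (h5 (ps * pe) _ (fun p => by rw [hpse, h6, one_mul]) hl))
  have hpe1 : pe ≠ 1 := by
    intro h3
    have h4 := hpe' (0, 1)
    rw [h3, Equiv.Perm.one_apply] at h4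
    have h5 := congrArg Prod.fst h4
    simp at h5
  have hps1 : ps ≠ 1 := by
    obtain ⟨om, ho0, ho1⟩ := exists_om h.card
    intro h3
    have h4 := hps' (om, 0)
    rw [h3, Equiv.Perm.one_apply] at h4
    have h5 := congrArg Prod.fst h4
    simp only at h5
    rw [root h.card ho0 ho1] at h5
    exact one_ne_zero (left_eq_add.1 h5)
  have hpf1 : pf (1, 0) = (1, 0) := by
    rw [← hc.eu, ← hpf _ hc.uW]
    congr 1
    rw [h.Xu i f hf]
    group
  have k1 : ∀ x ∈ XX, (∀ z : K, (x (z, 0)).2 = 0) → x ∈ MM := by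
    rintro x ⟨g, hg, hx⟩ hxZ
    refine ⟨g, h.NM g fun j => ?_, hg, hx⟩
    by_cases hj : j ∈ Ps
    · by_cases hji : j = i
      · subst hji
        refine eq_of_le_of_card_ge (fun v hv => ?_) (by rw [card_cj])
        rw [mem_cj] at hv
        have h3 := hc.mem_cj_Z (hNi g hg) hx hxZ hv
        have e1 : g * (g⁻¹ * v * g) * g⁻¹ = v := by group
        rwa [e1] at h3
      · refine cj_eq_of_mem_normalizer (centralizer_le_normalizer _ ?_)
        exact mem_centralizer_iff.2 fun z hz => (hg.cen j hj hji z ((h.co j).ZW hz)).symm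
    · refine cj_eq_of_mem_normalizer (centralizer_le_normalizer _ ?_)
      exact mem_centralizer_iff.2 fun z hz => (hg.out j hj z hz).symm
  have k2 : ∀ a b c d : K, a * d - b * c = 1 → ∃ m ∈ MM, ∀ p : K × K, m p = (a * p.1 + b * p.2, c * p.1 + d * p.2) := by
    intro a b c d habcd
    obtain ⟨g, hgM, hgN, hgA, hgc⟩ := h.sl i a b c d habcd
    obtain ⟨x, hx⟩ := hc.exists_perm hgN
    refine ⟨x, ⟨g, hgM, ⟨fun j hj => ?_, fun j _ hji w hw => hgc j hji w hw, fun j hj z hz => ?_⟩, hx⟩, fun p => ?_⟩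
    · by_cases hji : j = i
      · rw [hji]; exact hgN
      · exact centralizer_le_normalizer _ (mem_centralizer_iff.2 fun w hw => (hgc j hji w hw).symm)
    · exact hgc j (fun e => hj (e ▸ hi)) z ((h.co j).ZW hz)
    · obtain ⟨w, hw, rfl⟩ := hc.surj p
      rw [← hx w hw, hgA w hw]
  have k3 : ∀ x ∈ MM, ps * x * ps⁻¹ ∈ MM := by
    rintro x ⟨g, hgM, hg, hx⟩
    exact ⟨t * g * t⁻¹, mul_mem (mul_mem (h.TM (h.OT htO)) hgM) (inv_mem (h.TM (h.OT htO))),
      hg.conj (fun j _ => h.TN j (h.OT htO)) (fun j _ => h.TZ j (h.OT htO)),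
      Co.act_mul (inv_mem htN) (Co.act_mul (hNi g hg) hps hx) (Co.act_inv htN hps)⟩
  have k4 : ∀ x ∈ XX, pf * x * pf⁻¹ ∈ XX := by
    rintro x ⟨g, hg, hx⟩
    exact ⟨f * g * f⁻¹, hg.conj hfN hfZ,
      Co.act_mul (inv_mem (hfN i hi)) (Co.act_mul (hNi g hg) hpf hx) (Co.act_inv (hfN i hi) hpf)⟩
  have k5 : ∀ x ∈ XX, pf⁻¹ * x * pf ∈ XX := by
    rintro x ⟨g, hg, hx⟩
    refine ⟨f⁻¹ * g * f, ?_, Co.act_mul (hfN i hi) (Co.act_mul (hNi g hg) (Co.act_inv (hfN i hi) hpf) hx) hpf⟩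
    have h3 := hg.conj (f := f⁻¹) (fun j hj => inv_mem (hfN j hj)) (fun j hj => inv_mem (hfZ j hj))
    rwa [inv_inv] at h3
  have k6 : MM ≤ XX := by
    rintro x ⟨g, hgM, hg, hx⟩
    exact ⟨g, hg, hx⟩
  have k7 : ∀ x ∈ XX, ∀ p q : K × K, x (p + q) = x p + x q := by
    rintro x ⟨g, hg, hx⟩
    exact hc.add (hNi g hg) hx
  obtain ⟨m, ⟨g, hgM, hg, hgm⟩, hm⟩ := lemAB h.card hps' hpe' k6 k7 k1 k2 k3 (hc.add (hfN i hi) hpf) k4 k5
    (hc.odd (hfN i hi) hpf ho) hpf1 (hconj c hcO pe hpe hpe1) (hconj t htO ps hps hps1)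
  refine ⟨g, hgM, hg, eq_of_le_of_card_ge ?_ (by rw [card_cj, card_cj])⟩
  intro v hv
  rw [mem_cj] at hv
  obtain ⟨hvW, hv2⟩ := (hc.memZ _).1 hv
  obtain ⟨z', hz'⟩ := hm (e i (g⁻¹ * v * g)).1
  obtain ⟨w, hw, hwe⟩ := hc.surj (z', 0)
  have h3 : v = f * w * f⁻¹ := by
    have e1 : v = g * (g⁻¹ * v * g) * g⁻¹ := by group
    rw [e1]
    refine hc.inj (conjW (hNi g hg) hvW) (conjW (hfN i hi) hw) ?_
    rw [hgm _ hvW, hpf w hw, hwe, ← hz']
    congr 1
    ext
    · rfl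
    · exact hv2
  rw [h3, mem_cj]
  have e1 : f⁻¹ * (f * w * f⁻¹) * f = w := by group
  rw [e1]
  exact (hc.memZ w).2 ⟨hw, by rw [hwe]⟩

/-- **(3')** -/
theorem le [Finite G] [Finite ι] (hor : ∀ i, X ≤ normalizer (W i : Set G) ∨ ∀ x ∈ oddGen X, ∀ z ∈ Z i, x * z = z * x) :
    X ≤ M := by
  classical
  let Ps : Set ι := {i | ¬ ∀ x ∈ oddGen X, ∀ z ∈ Z i, x * z = z * x}
  have hP' : ∀ i, i ∉ Ps → ∀ x ∈ oddGen X, ∀ z ∈ Z i, x * z = z * x := fun i hi => not_not.1 hi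
  have hP : ∀ i ∈ Ps, X ≤ normalizer (W i : Set G) ∧ ¬ ∀ x ∈ oddGen X, ∀ z ∈ Z i, x * z = z * x :=
    fun i hi => ⟨(hor i).resolve_right hi, hi⟩
  rw [← Dich.oddGen_sup_syl h.syl]
  refine sup_le ?_ h.TM
  rw [oddGen_def, closure_le]
  rintro f ⟨hf, ho⟩
  -- the product
  have key : ∀ s : Finset ι, (∀ i ∈ s, i ∈ Ps) → ∃ g ∈ M, (∀ j ∈ Ps, g ∈ normalizer (W j : Set G)) ∧
      (∀ j ∈ Ps, j ∉ s → ∀ w ∈ W j, g * w = w * g) ∧ (∀ j, j ∉ Ps → ∀ z ∈ Z j, g * z = z * g) ∧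
      ∀ j ∈ s, cj g (Z j) = cj f (Z j) := by
    intro s
    induction s using Finset.induction_on with
    | empty =>
      intro _
      exact ⟨1, one_mem _, fun _ _ => one_mem _, fun _ _ _ _ _ => by simp, fun _ _ _ _ => by simp, fun _ hj => by simp at hj⟩
    | insert i s his ih =>
      intro hs
      obtain ⟨g, hgM, g1, g2, g3, g4⟩ := ih fun j hj => hs j (Finset.mem_insert_of_mem hj)
      have hi := hs i (Finset.mem_insert_self i s)
      obtain ⟨m, hmM, hm, hm'⟩ := h.exists_m hP hP' hf ho hi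
      refine ⟨g * m, mul_mem hgM hmM, fun j hj => mul_mem (g1 j hj) (hm.nor j hj), fun j hj hjs w hw => ?_,
        fun j hj z hz => comm_mul (g3 j hj z hz) (hm.out j hj z hz), fun j hj => ?_⟩
      · rw [Finset.mem_insert, not_or] at hjs
        exact comm_mul (g2 j hj hjs.2 w hw) (hm.cen j hj hjs.1 w hw)
      · rcases Finset.mem_insert.1 hj with rfl | hjs
        · rw [← cj_cj, hm']
          refine cj_eq_of_mem_normalizer (centralizer_le_normalizer _ ?_)
          refine mem_centralizer_iff.2 fun z hz => ?_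
          refine (g2 j hi his z ?_).symm
          rw [SetLike.mem_coe, mem_cj] at hz
          have h1 := conjW ((hP j hi).1 hf) ((h.co j).ZW hz)
          have e1 : f * (f⁻¹ * z * f) * f⁻¹ = z := by group
          rwa [e1] at h1
        · have hji : j ≠ i := by
            rintro rfl
            exact his hjs
          rw [← cj_cj]
          have h1 : cj m (Z j) = Z j := by
            refine cj_eq_of_mem_normalizer (centralizer_le_normalizer _ ?_)
            exact mem_centralizer_iff.2 fun z hz =>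
              (hm.cen j (hs j (Finset.mem_insert_of_mem hjs)) hji z ((h.co j).ZW hz)).symm
          rw [h1]
          exact g4 j hjs
  have := Fintype.ofFinite ι
  obtain ⟨g, hgM, g1, g2, g3, g4⟩ := key (Finset.univ.filter (· ∈ Ps)) fun i hi => (Finset.mem_filter.1 hi).2
  have h1 : g⁻¹ * f ∈ M := by
    refine h.NM _ fun j => ?_
    by_cases hj : j ∈ Ps
    · rw [← cj_cj, ← g4 j (Finset.mem_filter.2 ⟨Finset.mem_univ _, hj⟩), cj_inv_cj]
    · refine cj_eq_of_mem_normalizer (centralizer_le_normalizer _ ?_)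
      exact mem_centralizer_iff.2 fun z hz =>
        (comm_mul (comm_inv (g3 j hj z hz)) (hP' j hj f (mem_oddGen hf ho) z hz)).symm
  have h2 := mul_mem hgM h1
  rwa [mul_inv_cancel_left] at h2

end Thr

end Cfsg.Agent.Omega.OM.FourF
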