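import Cfsg.Agent.Omega.OM.YThm.PlugA
import Cfsg.Agent.Omega.OM.FourF.Three

/-!
# THEOREM F4 (#20047): the module facts from `NatK` and the coordinates `Cn`

`MD N B ZJ W Z z₀ f₀`: `V = ⊕ W i` a sum of natural `SL₂(F)`-modules for `P` (`NatK`), the rescaled coordinates
`rs z₀ f₀ N.e` are without scalars for the Sylow group `S` (`Cn`).

* `MD.sl` : `SL₂(F)` is induced on `W i` by elements of `P` trivial on the other summands;
* `MD.full` : `B` induces all `(x + l y, y)`;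
* `MD.act` : an element of `S` which normalises `Z i` acts on `W i` as `(s x + l s y, s y)`;
* `MD.act4` : the case `|F| = 4`.
-/

set_option autoImplicit false
set_option linter.unusedSectionVars false

namespace Cfsg.Agent.Omega.OM.FourF

open Subgroup Cfsg Cfsg.Agent.ZN.ChoiceBase Cfsg.Agent.ZN.ChoiceSit
open Cfsg.Agent.ZN (o2)
open Cfsg.Agent.Lib.SL2Mat Cfsg.Agent.Omega.NatPair
open Cfsg.Agent.Omega.FFThm (NatK ActsSL)
open Cfsg.Agent.Omega.OM.YThm

/-- rescaling of a vector -/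
def dl {F : Type*} [Field F] (a b : F) (x : Fin 2 → F) : Fin 2 → F := ![a⁻¹ * x 0, b⁻¹ * x 1]

section

variable {F : Type*} [Field F] {a b : F}

theorem dl_zero' (x : Fin 2 → F) : dl a b x 0 = a⁻¹ * x 0 := rfl

theorem dl_one' (x : Fin 2 → F) : dl a b x 1 = b⁻¹ * x 1 := rfl

theorem dl_add (x y : Fin 2 → F) : dl a b (x + y) = dl a b x + dl a b y := by
  apply ext2
  · rw [dl_zero', Pi.add_apply, Pi.add_apply, dl_zero', dl_zero']; ring
  · rw [dl_one', Pi.add_apply, Pi.add_apply, dl_one', dl_one']; ring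

theorem dl_inj (ha : a ≠ 0) (hb : b ≠ 0) {x y : Fin 2 → F} (h : dl a b x = dl a b y) : x = y := by
  have h0 := congrFun h 0
  have h1 := congrFun h 1
  rw [dl_zero', dl_zero'] at h0
  rw [dl_one', dl_one'] at h1
  exact ext2 (mul_left_cancel₀ (inv_ne_zero ha) h0) (mul_left_cancel₀ (inv_ne_zero hb) h1)

theorem dl_ap (ha : a ≠ 0) (hb : b ≠ 0) (A : Matrix.SpecialLinearGroup (Fin 2) F) :
    ∃ A' : Matrix.SpecialLinearGroup (Fin 2) F, ∀ x, dl a b (ap A x) = ap A' (dl a b x) := by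
  refine ⟨mk (ent A 0 0) (a⁻¹ * ent A 0 1 * b) (b⁻¹ * ent A 1 0 * a) (ent A 1 1) ?_, fun x => ?_⟩
  · have := det_eq A
    field_simp
    linear_combination this
  · apply ext2
    · rw [dl_zero', ap_zero', ap_zero', dl_zero', dl_one', mk_00, mk_01]
      field_simp
    · rw [dl_one', ap_one', ap_one', dl_zero', dl_one', mk_10, mk_11]
      field_simp

theorem dl_ap' (ha : a ≠ 0) (hb : b ≠ 0) (A' : Matrix.SpecialLinearGroup (Fin 2) F) :
    ∃ A : Matrix.SpecialLinearGroup (Fin 2) F, ∀ x, dl a b (ap A x) = ap A' (dl a b x) := by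
  refine ⟨mk (ent A' 0 0) (a * ent A' 0 1 * b⁻¹) (b * ent A' 1 0 * a⁻¹) (ent A' 1 1) ?_, fun x => ?_⟩
  · have := det_eq A'
    field_simp
    linear_combination this
  · apply ext2
    · rw [dl_zero', ap_zero', ap_zero', dl_zero', dl_one', mk_00, mk_01]
      field_simp
    · rw [dl_one', ap_one', ap_one', dl_zero', dl_one', mk_10, mk_11]
      field_simp

end

/-- The data. -/
structure MD {G : Type*} [Group G] {F : Type} [Field F] {S P V D : Subgroup G} {k : ℕ} (N : NatK F S P V D k)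
    (B ZJ : Subgroup G) (W Z : Fin k → Subgroup G) (z₀ f₀ : Fin k → F) : Prop where
  PV : P ≤ normalizer (V : Set G)
  SP : S ≤ P
  hz : ∀ i, z₀ i ≠ 0
  hf : ∀ i, f₀ i ≠ 0
  cn : Cn F S B V ZJ k (rs z₀ f₀ N.e)
  mem_W : ∀ i v, v ∈ W i ↔ v ∈ V ∧ ∀ j, j ≠ i → N.e v j = 0
  mem_Z : ∀ i v, v ∈ Z i ↔ v ∈ W i ∧ N.e v i 1 = 0

namespace MD

variable {G : Type*} [Group G] {F : Type} [Field F] {S P V D : Subgroup G} {k : ℕ} {N : NatK F S P V D k}
    {B ZJ : Subgroup G} {W Z : Fin k → Subgroup G} {z₀ f₀ : Fin k → F}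

/-- the coordinates on `W i` -/
def co (N : NatK F S P V D k) (z₀ f₀ : Fin k → F) (i : Fin k) (v : G) : F × F := (rs z₀ f₀ N.e v i 0, rs z₀ f₀ N.e v i 1)

theorem co_fst (i : Fin k) (v : G) : (co N z₀ f₀ i v).1 = (z₀ i)⁻¹ * N.e v i 0 := rfl

theorem co_snd (i : Fin k) (v : G) : (co N z₀ f₀ i v).2 = (f₀ i)⁻¹ * N.e v i 1 := rfl

variable (h : MD N B ZJ W Z z₀ f₀)
include h

theorem WV {i : Fin k} {v : G} (hv : v ∈ W i) : v ∈ V := ((h.mem_W i v).1 hv).1

theorem inj {v w : G} (hv : v ∈ V) (hw : w ∈ V) (he : N.e v = N.e w) : v = w := by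
  refine h.cn.toCd.eq_of hv hw ?_
  funext i m
  fin_cases m
  · show (z₀ i)⁻¹ * N.e v i 0 = (z₀ i)⁻¹ * N.e w i 0
    rw [he]
  · show (f₀ i)⁻¹ * N.e v i 1 = (f₀ i)⁻¹ * N.e w i 1
    rw [he]

theorem injW {i : Fin k} {v w : G} (hv : v ∈ W i) (hw : w ∈ W i) (he : N.e v i = N.e w i) : v = w := by
  refine h.inj (h.WV hv) (h.WV hw) ?_
  funext j
  by_cases hj : j = i
  · rw [hj]; exact he
  · rw [((h.mem_W i v).1 hv).2 j hj, ((h.mem_W i w).1 hw).2 j hj]

theorem surjW (i : Fin k) (x : Fin 2 → F) : ∃ v ∈ W i, N.e v i = x := by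
  classical
  obtain ⟨v, hv, he⟩ := N.surj (Function.update 0 i x)
  refine ⟨v, (h.mem_W i v).2 ⟨hv, fun j hj => ?_⟩, ?_⟩
  · rw [he, Function.update_of_ne hj]; rfl
  · rw [he, Function.update_self]

theorem co_mul {i : Fin k} {v w : G} (hv : v ∈ V) (hw : w ∈ V) :
    co N z₀ f₀ i (v * w) = co N z₀ f₀ i v + co N z₀ f₀ i w := by
  ext
  · rw [Prod.fst_add, co_fst, co_fst, co_fst, N.mul v hv w hw]
    simp only [Pi.add_apply]
    ring
  · rw [Prod.snd_add, co_snd, co_snd, co_snd, N.mul v hv w hw]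
    simp only [Pi.add_apply]
    ring

theorem co_inj {i : Fin k} {v w : G} (hv : v ∈ W i) (hw : w ∈ W i) (he : co N z₀ f₀ i v = co N z₀ f₀ i w) : v = w := by
  refine h.injW hv hw (ext2 ?_ ?_)
  · have := congrArg Prod.fst he
    rw [co_fst, co_fst] at this
    exact mul_left_cancel₀ (inv_ne_zero (h.hz i)) this
  · have := congrArg Prod.snd he
    rw [co_snd, co_snd] at this
    exact mul_left_cancel₀ (inv_ne_zero (h.hf i)) this

theorem co_surj (i : Fin k) (p : F × F) : ∃ v ∈ W i, co N z₀ f₀ i v = p := by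
  obtain ⟨v, hv, he⟩ := h.surjW i ![z₀ i * p.1, f₀ i * p.2]
  refine ⟨v, hv, ?_⟩
  ext
  · rw [co_fst, he]
    exact inv_mul_cancel_left₀ (h.hz i) _
  · rw [co_snd, he]
    exact inv_mul_cancel_left₀ (h.hf i) _

theorem co_Z {i : Fin k} {v : G} : v ∈ Z i ↔ v ∈ W i ∧ (co N z₀ f₀ i v).2 = 0 := by
  rw [h.mem_Z, co_snd]
  refine and_congr_right fun _ => ?_
  constructor
  · intro h1; rw [h1, mul_zero]
  · intro h1
    exact (mul_eq_zero.1 h1).resolve_left (inv_ne_zero (h.hf i))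

theorem exists_u (i : Fin k) : ∃ u ∈ Z i, co N z₀ f₀ i u = (1, 0) := by
  obtain ⟨u, hu, he⟩ := h.co_surj i (1, 0)
  exact ⟨u, h.co_Z.2 ⟨hu, by rw [he]⟩, he⟩

/-- The structure `Co`. -/
theorem toCo {i : Fin k} {u : G} (hu : u ∈ Z i) (he : co N z₀ f₀ i u = (1, 0)) :
    Co (W i) (Z i) u (co N z₀ f₀ i) where
  mul := fun v hv w hw => h.co_mul (h.WV hv) (h.WV hw)
  ker := fun v hv h0 => by
    refine h.co_inj hv (one_mem _) ?_
    have h1 := h.co_mul (i := i) (one_mem V) (one_mem V)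
    rw [mul_one] at h1
    rw [h0, left_eq_add.1 h1]
  surj := h.co_surj i
  memZ := fun v => h.co_Z
  uW := ((h.mem_Z i u).1 hu).1
  eu := he

/-- elements of `P` acting on `W i` as `A`, trivially on the other summands. -/
theorem lift_one (i : Fin k) (A : Matrix.SpecialLinearGroup (Fin 2) F) : ∃ g ∈ P, g ∈ normalizer (W i : Set G) ∧
    (∀ w ∈ W i, N.e (g * w * g⁻¹) i = ap A (N.e w i)) ∧ ∀ j, j ≠ i → ∀ w ∈ W j, g * w = w * g := by
  classical
  obtain ⟨g, hg, hgA, -⟩ := N.lift (Function.update 1 i A)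
  have hgV : ∀ v ∈ V, g * v * g⁻¹ ∈ V := fun v hv => (mem_normalizer_iff.1 (h.PV hg) v).1 hv
  have hgV' : ∀ v, g * v * g⁻¹ ∈ V → v ∈ V := fun v hv => (mem_normalizer_iff.1 (h.PV hg) v).2 hv
  have hz0 : ∀ B : Matrix.SpecialLinearGroup (Fin 2) F, ap B (0 : Fin 2 → F) = 0 := by
    intro B
    apply ext2
    · rw [ap_zero']; simp
    · rw [ap_one']; simp
  refine ⟨g, hg, ?_, fun w hw => ?_, fun j hj w hw => ?_⟩
  · rw [mem_normalizer_iff]
    intro v
    rw [h.mem_W, h.mem_W]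
    constructor
    · rintro ⟨h1, h2⟩
      refine ⟨hgV v h1, fun j hj => ?_⟩
      rw [hgA v h1, h2 j hj, hz0]
    · rintro ⟨h1, h2⟩
      have h3 := hgV' v h1
      refine ⟨h3, fun j hj => ?_⟩
      have h4 := h2 j hj
      rw [hgA v h3, Function.update_of_ne hj, Pi.one_apply, ap_one] at h4
      exact h4
  · rw [hgA w (h.WV hw), Function.update_self]
  · have h1 := h.WV hw
    have h2 : g * w * g⁻¹ = w := by
      refine h.inj (hgV w h1) h1 ?_
      funext l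
      rw [hgA w h1]
      by_cases hl : l = i
      · subst hl
        rw [((h.mem_W j w).1 hw).2 l (Ne.symm hj), hz0]
      · rw [Function.update_of_ne hl, Pi.one_apply, ap_one]
    exact mul_inv_eq_iff_eq_mul.1 h2

/-- (SL) -/
theorem sl (i : Fin k) (a b c d : F) (hd : a * d - b * c = 1) : ∃ g ∈ P, g ∈ normalizer (W i : Set G) ∧
    Act (W i) (co N z₀ f₀ i) g (fun p => (a * p.1 + b * p.2, c * p.1 + d * p.2)) ∧
      ∀ j, j ≠ i → ∀ w ∈ W j, g * w = w * g := by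
  obtain ⟨A, hA⟩ := dl_ap' (h.hz i) (h.hf i) (Cfsg.Agent.Lib.SL2Mat.mk a b c d hd)
  obtain ⟨g, hg, h1, h2, h3⟩ := h.lift_one i A
  refine ⟨g, hg, h1, fun w hw => ?_, h3⟩
  have h4 := hA (N.e w i)
  rw [← h2 w hw] at h4
  have h5 := congrFun h4 0
  have h6 := congrFun h4 1
  rw [dl_zero', ap_zero', mk_00, mk_01] at h5
  rw [dl_one', ap_one', mk_10, mk_11] at h6
  ext
  · rw [co_fst]; exact h5
  · rw [co_snd]; exact h6

/-- `B` acts on `W i` as all `(x + l y, y)` -/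
theorem full (i : Fin k) (l : F) : ∃ b ∈ B, Act (W i) (co N z₀ f₀ i) b (fun p => (p.1 + l * p.2, p.2)) := by
  obtain ⟨b, hb, hc⟩ := h.cn.full fun _ => l
  refine ⟨b, hb, fun w hw => ?_⟩
  obtain ⟨h1, h2⟩ := hc w (h.WV hw) i
  ext
  · exact h1
  · exact h2

/-- an element of `S` which normalises `Z i` normalises `W i` -/
theorem nW {t : G} (ht : t ∈ S) {i : Fin k} (hZ : cj t (Z i) = Z i) : t ∈ normalizer (W i : Set G) := by
  have hV : ∀ v, t * v * t⁻¹ ∈ V ↔ v ∈ V := fun v => (mem_normalizer_iff.1 (h.PV (h.SP ht)) v).symm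
  obtain ⟨σ, hσ⟩ := N.perm t (h.SP ht)
  obtain ⟨u, hu, hue⟩ := h.exists_u i
  have huW := ((h.mem_Z i u).1 hu).1
  have hui : N.e u i ≠ 0 := by
    intro h0
    have h1 := congrArg Prod.fst hue
    rw [co_fst, h0] at h1
    simp at h1
  have htu : t * u * t⁻¹ ∈ Z i := by
    rw [← hZ]
    exact ⟨u, hu, rfl⟩
  have hσi : σ i = i := by
    by_contra hne
    apply hui
    rw [← hσ u (h.WV huW) i]
    exact ((h.mem_W i _).1 ((h.mem_Z i _).1 htu).1).2 _ hne
  rw [mem_normalizer_iff]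
  intro v
  rw [h.mem_W, h.mem_W, hV]
  refine and_congr_right fun hv => ?_
  constructor
  · intro h1 j hj
    have h2 := hσ v hv (σ.symm j)
    rw [Equiv.apply_symm_apply] at h2
    rw [h2]
    refine h1 _ fun h3 => hj ?_
    rw [← h3, Equiv.apply_symm_apply] at hσi
    exact hσi.trans h3
  · intro h1 j hj
    rw [← hσ v hv j]
    refine h1 _ fun h3 => hj ?_
    exact σ.injective (h3.trans hσi.symm)

/-- `t ∈ S` normalising `Z i` acts on `W i` semilinearly. -/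
theorem semi [Finite F] {t : G} (ht : t ∈ S) {i : Fin k} (hZ : cj t (Z i) = Z i) :
    ∃ s : F ≃+* F, ∀ (c : F) (v w : G), v ∈ W i → w ∈ W i → N.e w i = c • N.e v i →
      N.e (t * w * t⁻¹) i = s c • N.e (t * v * t⁻¹) i := by
  classical
  have hN := h.nW ht hZ
  have htP := h.SP ht
  choose f hfW hf using h.surjW i
  have hfe : ∀ v ∈ W i, f (N.e v i) = v := fun v hv => h.injW (hfW _) hv (hf _)
  let T : (Fin 2 → F) → (Fin 2 → F) := fun x => N.e (t * f x * t⁻¹) i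
  let T' : (Fin 2 → F) → (Fin 2 → F) := fun x => N.e (t⁻¹ * f x * t⁻¹⁻¹) i
  have hTe : ∀ v ∈ W i, T (N.e v i) = N.e (t * v * t⁻¹) i := fun v hv => by
    show N.e (t * f (N.e v i) * t⁻¹) i = _
    rw [hfe v hv]
  have hTe' : ∀ v ∈ W i, T' (N.e v i) = N.e (t⁻¹ * v * t⁻¹⁻¹) i := fun v hv => by
    show N.e (t⁻¹ * f (N.e v i) * t⁻¹⁻¹) i = _
    rw [hfe v hv]
  have hadd : ∀ x y, T (x + y) = T x + T y := by
    intro x y
    have h1 : f (x + y) = f x * f y := h.injW (hfW _) (mul_mem (hfW _) (hfW _)) (by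
      rw [hf, N.mul _ (h.WV (hfW x)) _ (h.WV (hfW y)), Pi.add_apply, hf, hf])
    show N.e (t * f (x + y) * t⁻¹) i = N.e (t * f x * t⁻¹) i + N.e (t * f y * t⁻¹) i
    rw [← Pi.add_apply, ← N.mul _ (h.WV (conjW hN (hfW x))) _ (h.WV (conjW hN (hfW y))), h1]
    have e3 : t * (f x * f y) * t⁻¹ = t * f x * t⁻¹ * (t * f y * t⁻¹) := by group
    rw [e3]
  have k1 : ∀ x, T' (T x) = x := by
    intro x
    have e1 : T x = N.e (t * f x * t⁻¹) i := rfl
    rw [e1, hTe' _ (conjW hN (hfW x))]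
    have e2 : t⁻¹ * (t * f x * t⁻¹) * t⁻¹⁻¹ = f x := by group
    rw [e2, hf]
  have k2 : ∀ x, T (T' x) = x := by
    intro x
    have e1 : T' x = N.e (t⁻¹ * f x * t⁻¹⁻¹) i := rfl
    rw [e1, hTe _ (conjW (inv_mem hN) (hfW x))]
    have e2 : t * (t⁻¹ * f x * t⁻¹⁻¹) * t⁻¹ = f x := by group
    rw [e2, hf]
  have k3 : ∀ A : Matrix.SpecialLinearGroup (Fin 2) F, ∃ B : Matrix.SpecialLinearGroup (Fin 2) F,
      ∀ x, T' (ap A (T x)) = ap B x := by
    intro A
    obtain ⟨g, hg, hgA, -⟩ := N.lift (Function.update 1 i A)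
    obtain ⟨B', hB'⟩ := N.norm t⁻¹ (inv_mem htP) g hg _ fun v hv j => hgA v hv j
    refine ⟨B' i, fun x => ?_⟩
    have hgW : ∀ w ∈ W i, g * w * g⁻¹ ∈ W i := by
      intro w hw
      refine (h.mem_W i _).2 ⟨(mem_normalizer_iff.1 (h.PV hg) w).1 (h.WV hw), fun j hj => ?_⟩
      rw [hgA w (h.WV hw), ((h.mem_W i w).1 hw).2 j hj]
      apply ext2
      · rw [ap_zero']; simp
      · rw [ap_one']; simp
    have e1 : T x = N.e (t * f x * t⁻¹) i := rfl
    have e2 : ap A (T x) = N.e (g * (t * f x * t⁻¹) * g⁻¹) i := by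
      rw [e1, hgA _ (h.WV (conjW hN (hfW x))), Function.update_self]
    rw [e2, hTe' _ (hgW _ (conjW hN (hfW x)))]
    have e3 := hB' (f x) (h.WV (hfW x)) i
    rw [hf] at e3
    rw [← e3]
    have e4 : t⁻¹ * (g * (t * f x * t⁻¹) * g⁻¹) * t⁻¹⁻¹ = t⁻¹ * g * t⁻¹⁻¹ * f x * (t⁻¹ * g * t⁻¹⁻¹)⁻¹ := by group
    rw [e4]
  obtain ⟨σ, hσ⟩ := exists_semi T T' hadd k1 k2 k3
  obtain ⟨s, hs⟩ := exists_ringEquiv T T' hadd k1 σ hσ
  refine ⟨s, fun c v w hv hw hvw => ?_⟩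
  rw [← hTe w hw, ← hTe v hv, hvw, hs]

/-- the action of `t ∈ S` normalising `Z i` on `W i` -/
theorem act [Finite F] {t : G} (ht : t ∈ S) {i : Fin k} (hZ : cj t (Z i) = Z i) :
    ∃ (s : F ≃+* F) (l : F), Act (W i) (co N z₀ f₀ i) t (fun p => (s p.1 + l * s p.2, s p.2)) := by
  have hN := h.nW ht hZ
  obtain ⟨s, hs⟩ := h.semi ht hZ
  obtain ⟨π, σ, hπ⟩ := h.cn.sact t ht
  have hV : ∀ v ∈ V, t * v * t⁻¹ ∈ V := fun v hv => (mem_normalizer_iff.1 (h.PV (h.SP ht)) v).1 hv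
  have hZJ : ∀ v, v ∈ Z i → v ∈ ZJ := by
    intro v hv
    obtain ⟨h1, h2⟩ := (h.mem_Z i v).1 hv
    refine (h.cn.memZ v (h.WV h1)).2 fun j => ?_
    by_cases hj : j = i
    · subst hj
      exact (h.co_Z.1 hv).2
    · show (f₀ j)⁻¹ * N.e v j 1 = 0
      rw [((h.mem_W i v).1 h1).2 j hj]
      simp
  obtain ⟨u, hu, hue⟩ := h.exists_u i
  have hue0 : rs z₀ f₀ N.e u i 0 = 1 := congrArg Prod.fst hue
  have hue1 : rs z₀ f₀ N.e u i 1 = 0 := congrArg Prod.snd hue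
  have huW := ((h.mem_Z i u).1 hu).1
  have htu : t * u * t⁻¹ ∈ Z i := by
    rw [← hZ]
    exact ⟨u, hu, rfl⟩
  have hπi : π i = i := by
    by_contra hne
    have h1 := hπ.zero u (hZJ u hu) i
    rw [hue0, Pi.one_apply, one_mul, map_one] at h1
    have h2 := ((h.mem_W i _).1 ((h.mem_Z i _).1 htu).1).2 _ hne
    rw [rs_zero, h2] at h1
    simp at h1
  -- the second basis vector
  obtain ⟨w₁, hw₁, hwe⟩ := h.co_surj i (0, 1)
  have hwe0 : rs z₀ f₀ N.e w₁ i 0 = 0 := congrArg Prod.fst hwe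
  have hwe1 : rs z₀ f₀ N.e w₁ i 1 = 1 := congrArg Prod.snd hwe
  have htw : t * w₁ * t⁻¹ ∈ W i := conjW hN hw₁
  -- multiples
  have hsm : ∀ (c : F) (v w : G), v ∈ W i → w ∈ W i → co N z₀ f₀ i w = c • co N z₀ f₀ i v →
      co N z₀ f₀ i (t * w * t⁻¹) = s c • co N z₀ f₀ i (t * v * t⁻¹) := by
    intro c v w hv hw hcw
    have h1 : N.e w i = c • N.e v i := by
      apply ext2
      · have := congrArg Prod.fst hcw
        rw [Prod.smul_fst, co_fst, co_fst, smul_eq_mul] at this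
        rw [Pi.smul_apply, smul_eq_mul]
        apply mul_left_cancel₀ (inv_ne_zero (h.hz i))
        rw [this]; ring
      · have := congrArg Prod.snd hcw
        rw [Prod.smul_snd, co_snd, co_snd, smul_eq_mul] at this
        rw [Pi.smul_apply, smul_eq_mul]
        apply mul_left_cancel₀ (inv_ne_zero (h.hf i))
        rw [this]; ring
    have h2 := hs c v w hv hw h1
    ext
    · rw [Prod.smul_fst, co_fst, co_fst, h2, Pi.smul_apply, smul_eq_mul, smul_eq_mul]; ring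
    · rw [Prod.smul_snd, co_snd, co_snd, h2, Pi.smul_apply, smul_eq_mul, smul_eq_mul]; ring
  -- images of the basis vectors
  have hu1 : co N z₀ f₀ i (t * u * t⁻¹) = (1, 0) := by
    ext
    · show rs z₀ f₀ N.e (t * u * t⁻¹) i 0 = 1
      have h1 := hπ.zero u (hZJ u hu) i
      rwa [hπi, hue0, Pi.one_apply, one_mul, map_one] at h1
    · exact (h.co_Z.1 htu).2
  have hw1 : (co N z₀ f₀ i (t * w₁ * t⁻¹)).2 = 1 := by
    show rs z₀ f₀ N.e (t * w₁ * t⁻¹) i 1 = 1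
    have h1 := hπ.one w₁ (h.WV hw₁) i
    rwa [hπi, hwe1, Pi.one_apply, one_mul, map_one] at h1
  refine ⟨s, (co N z₀ f₀ i (t * w₁ * t⁻¹)).1, fun w hw => ?_⟩
  obtain ⟨a, ha, hae⟩ := h.co_surj i ((co N z₀ f₀ i w).1, 0)
  obtain ⟨b, hb, hbe⟩ := h.co_surj i (0, (co N z₀ f₀ i w).2)
  have hab : w = a * b := by
    refine h.co_inj hw (mul_mem ha hb) ?_
    rw [h.co_mul (h.WV ha) (h.WV hb), hae, hbe]
    ext <;> simp
  have h1 := hsm (co N z₀ f₀ i w).1 u a huW ha (by rw [hae, hue]; ext <;> simp)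
  have h2 := hsm (co N z₀ f₀ i w).2 w₁ b hw₁ hb (by rw [hbe, hwe]; ext <;> simp)
  have e1 : t * w * t⁻¹ = (t * a * t⁻¹) * (t * b * t⁻¹) := by rw [hab]; group
  rw [e1, h.co_mul (hV a (h.WV ha)) (hV b (h.WV hb)), h1, h2, hu1]
  ext
  · simp only [Prod.fst_add, Prod.smul_fst, smul_eq_mul, mul_one]
    ring
  · simp only [Prod.snd_add, Prod.smul_snd, smul_eq_mul, mul_zero, zero_add, hw1, mul_one]

end MD

/-- the automorphisms of a field of order 4 -/
theorem aut4 {F : Type*} [Field F] [CharP F 2] (hF : Nat.card F = 4) (s : F ≃+* F) :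
    (∀ x, s x = x) ∨ ∀ x, s x = x * x := by
  obtain ⟨y, hy0, hy1⟩ := exists_om hF
  have hr := root hF hy0 hy1
  rcases cases4 hF hy0 hy1 (s y) with h | h | h | h
  · exact absurd ((map_eq_zero s).1 h) hy0
  · exact absurd (s.injective (h.trans (map_one s).symm)) hy1
  · left
    intro x
    rcases cases4 hF hy0 hy1 x with h1 | h1 | h1 | h1
    · rw [h1, map_zero]
    · rw [h1, map_one]
    · rw [h1, h]
    · rw [h1, map_add, h, map_one]
  · right
    intro x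
    rcases cases4 hF hy0 hy1 x with h1 | h1 | h1 | h1
    · rw [h1, map_zero, mul_zero]
    · rw [h1, map_one, mul_one]
    · rw [h1, h, hr]
    · rw [h1, map_add, h, map_one]
      linear_combination (-1 : F) * hr - y * two0 (K := F)

/-- the action on `W i` for `|F| = 4` -/
theorem MD.act4 {G : Type*} [Group G] {F : Type} [Field F] [CharP F 2] {S P V D : Subgroup G} {k : ℕ}
    {N : NatK F S P V D k} {B ZJ : Subgroup G} {W Z : Fin k → Subgroup G} {z₀ f₀ : Fin k → F}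
    (h : MD N B ZJ W Z z₀ f₀) (hF : Nat.card F = 4) {t : G} (ht : t ∈ S) {i : Fin k} (hZ : cj t (Z i) = Z i) :
    ∃ l : F, Act (W i) (MD.co N z₀ f₀ i) t (fun p => (p.1 + l * p.2, p.2)) ∨
      Act (W i) (MD.co N z₀ f₀ i) t (fun p => (p.1 * p.1 + l * (p.2 * p.2), p.2 * p.2)) := by
  have : Finite F := Nat.finite_of_card_ne_zero (by omega)
  obtain ⟨s, l, hl⟩ := h.act ht hZ
  refine ⟨l, ?_⟩
  rcases aut4 hF s with hs | hs
  · left
    intro w hw
    rw [hl w hw]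
    simp only [hs]
  · right
    intro w hw
    rw [hl w hw]
    simp only [hs]

end Cfsg.Agent.Omega.OM.FourF
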