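import Cfsg.Agent.Omega.OM.FourF.Three

/-!
# Type `K` gives (4F) (q = 4, all stages): lemma Z4 of helper880

`X` with Sylow group `T`; `W i ≅ K²`, `|K| = 4`; for every `i`, `X` normalises `W i` or `O²(X)` centralises `Z i`
(`OneF.main`).  If `X` does not normalise `Z i`, then `X ≤ N(W i)` and there is `s ∈ O₂(X)`, semilinear on `W i`, which
centralises `Z j` for all `j ≠ i`: `Thr.zero`.  So outside (4F) `X` normalises all `Z i`: `Thr.nor_of_not`.
-/

set_option autoImplicit false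
set_option linter.unusedSectionVars false

namespace Cfsg.Agent.Omega.OM.FourF

open Subgroup Cfsg Cfsg.Agent.ZN.ChoiceBase Cfsg.Agent.ZN.ChoiceSit
open Cfsg.Agent.ZN (o2)
open Cfsg.Agent.MinSimple.VModule (oddGen oddGen_le mem_oddGen oddGen_def)

/-- `X` is of type `K` at `i`, with the witness `s ∈ O₂(X)` of (4F). -/
structure TyK {G K ι : Type*} [Group G] [Field K] (X : Subgroup G) (W Z : ι → Subgroup G)
    (e : ι → G → K × K) (i : ι) (s : G) : Prop where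
  XW : X ≤ normalizer (W i : Set G)
  nZ : ¬ X ≤ normalizer (Z i : Set G)
  sO : s ∈ o2 X
  sem : ∃ l : K, (l = 0 ∨ l = 1) ∧ Act (W i) (e i) s (fun p => (p.1 * p.1 + l * (p.2 * p.2), p.2 * p.2))
  cent : ∀ j, j ≠ i → ∀ z ∈ Z j, s * z = z * s
  /-- on the `W j` which are normalised by `X` the witness is trivial -/
  centW : ∀ j, j ≠ i → X ≤ normalizer (W j : Set G) → ∀ w ∈ W j, s * w = w * s

namespace Thr

variable {G K ι : Type*} [Group G] [Field K] [CharP K 2] {X T M : Subgroup G} {W Z : ι → Subgroup G} {u : ι → G}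
  {e : ι → G → K × K} (h : Thr X T M W Z u e)
include h

/-- if `O²(X)` centralises `Z i`, then `X` normalises it. -/
theorem nor_of_odd [Finite G] {i : ι} (hi : ∀ x ∈ oddGen X, ∀ z ∈ Z i, x * z = z * x) :
    X ≤ normalizer (Z i : Set G) := by
  rw [← Dich.oddGen_sup_syl h.syl]
  refine sup_le (fun x hx => centralizer_le_normalizer _ ?_) (h.TZ i)
  exact mem_centralizer_iff.2 fun z hz => (hi x hx z hz).symm

/-- **Z4**: type `K` gives the witness of (4F). -/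
theorem zero [Finite G] (hor : ∀ i, X ≤ normalizer (W i : Set G) ∨ ∀ x ∈ oddGen X, ∀ z ∈ Z i, x * z = z * x)
    (hfull : ∀ i (l : K), ∃ t ∈ T, Act (W i) (e i) t (fun p => (p.1 + l * p.2, p.2)) ∧
      ∀ j, j ≠ i → ∀ w ∈ W j, t * w = w * t)
    {i : ι} (hi : ¬ X ≤ normalizer (Z i : Set G)) : ∃ s, TyK X W Z e i s := by
  have hc := h.co i
  have h2 := two0 (K := K)
  have hne : ¬ ∀ x ∈ oddGen X, ∀ z ∈ Z i, x * z = z * x := fun h1 => hi (h.nor_of_odd h1)
  have hW : X ≤ normalizer (W i : Set G) := (hor i).resolve_right hne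
  obtain ⟨-, ⟨t₀, ht₀, hA₀⟩, hall⟩ := h.four hW hne
  obtain ⟨om, ho0, ho1⟩ := exists_om h.card
  have hr := root h.card ho0 ho1
  obtain ⟨b, hbT, hbA, hbc⟩ := hfull i om
  have hbX : b ∈ X := h.TX hbT
  have ht₀T : t₀ ∈ T := h.OT ht₀
  -- the commutator
  set c : G := b * t₀ * b⁻¹ * t₀⁻¹ with hcdef
  have hcO : c ∈ o2 X := mul_mem (conjW (le_normalizer_o2 X hbX) ht₀) (inv_mem ht₀)
  have hcT : c ∈ T := h.OT hcO
  have hcc : ∀ j, j ≠ i → ∀ w ∈ W j, c * w = w * c := by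
    intro j hj w hw
    have hbinv : ∀ v ∈ W j, b⁻¹ * v = v * b⁻¹ := fun v hv => comm_inv (hbc j hj v hv)
    have h3 : t₀⁻¹ * w * t₀ ∈ W j := by
      have := conjW (h.TN j (inv_mem ht₀T)) hw
      rwa [inv_inv] at this
    have e1 : b * t₀ * b⁻¹ * t₀⁻¹ * w = b * t₀ * (b⁻¹ * (t₀⁻¹ * w * t₀)) * t₀⁻¹ := by group
    have e2 : b * t₀ * ((t₀⁻¹ * w * t₀) * b⁻¹) * t₀⁻¹ = (b * w) * (t₀ * b⁻¹ * t₀⁻¹) := by group
    rw [hcdef, e1, hbinv _ h3, e2, hbc j hj w hw]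
    group
  -- the action of `c` on `W i`
  have hbN := h.TN i hbT
  have ht₀N := h.TN i ht₀T
  obtain ⟨xb, hxb⟩ := hc.exists_perm hbN
  obtain ⟨xt, hxt⟩ := hc.exists_perm ht₀N
  have hxb' : ∀ p : K × K, xb p = (p.1 + om * p.2, p.2) := by
    intro p
    obtain ⟨w, hw, rfl⟩ := hc.surj p
    rw [← hxb w hw, hbA w hw]
  have hxt' : ∀ p : K × K, xt p = (p.1 * p.1, p.2 * p.2) := by
    intro p
    obtain ⟨w, hw, rfl⟩ := hc.surj p
    rw [← hxt w hw, hA₀ w hw]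
  have hcA : Act (W i) (e i) c (fun p => (p.1 + p.2, p.2)) := by
    have h3 := Co.act_mul (inv_mem ht₀N) (Co.act_mul (inv_mem hbN) (Co.act_mul ht₀N hxb hxt) (Co.act_inv hbN hxb))
      (Co.act_inv ht₀N hxt)
    intro w hw
    rw [hcdef, h3 w hw]
    have h4 : ∀ p : K × K, xb (xt p) = ((xt (xb p)).1 + (xt (xb p)).2, (xt (xb p)).2) := by
      intro p
      rw [hxb', hxt', hxb', hxt']
      ext
      · simp only
        linear_combination (-(p.2 * p.2)) * hr - (om * p.1 * p.2 + p.2 * p.2) * h2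
      · simp only
    have h5 := h4 (xb⁻¹ (xt⁻¹ (e i w)))
    have h6 : xb (xb⁻¹ (xt⁻¹ (e i w))) = xt⁻¹ (e i w) := Equiv.apply_symm_apply xb _
    have h7 : xt (xt⁻¹ (e i w)) = e i w := Equiv.apply_symm_apply xt _
    rw [h6, h7] at h5
    exact h5
  -- conjugates of `c`
  have hcO' : ∀ x ∈ X, x * c * x⁻¹ ∈ o2 X := fun x hx => conjW (le_normalizer_o2 X hx) hcO
  have key : ∀ x w : G, c * (x⁻¹ * w * x) = (x⁻¹ * w * x) * c → x * c * x⁻¹ * w = w * (x * c * x⁻¹) := by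
    intro x w hw
    calc x * c * x⁻¹ * w = x * (c * (x⁻¹ * w * x)) * x⁻¹ := by group
      _ = _ := by rw [hw]; group
  have hcW' : ∀ x ∈ X, ∀ j, j ≠ i → X ≤ normalizer (W j : Set G) → ∀ w ∈ W j,
      x * c * x⁻¹ * w = w * (x * c * x⁻¹) := by
    intro x hx j hj hXj w hw
    refine key x w (hcc j hj _ ?_)
    have := conjW (inv_mem (hXj hx)) hw
    rwa [inv_inv] at this
  have hcZ' : ∀ x ∈ X, ∀ j, j ≠ i → ∀ z ∈ Z j, x * c * x⁻¹ * z = z * (x * c * x⁻¹) := by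
    intro x hx j hj z hz
    rcases hor j with hj1 | hj1
    · exact hcW' x hx j hj hj1 z ((h.co j).ZW hz)
    · refine key x z (hcc j hj _ ((h.co j).ZW ?_))
      have := conjW (inv_mem (h.nor_of_odd hj1 hx)) hz
      rwa [inv_inv] at this
  by_contra hcon
  apply hi
  intro x hx
  refine mem_normalizer_of_cj_le fun v hv => ?_
  rw [mem_cj] at hv
  -- `c^x` is not semilinear, so it acts as `up 1`
  obtain ⟨l, hl01, hl | hl⟩ := hall _ (hcO' x hx)
  swap
  · exact absurd ⟨_, hW, hi, hcO' x hx, ⟨l, hl01, hl⟩, hcZ' x hx, hcW' x hx⟩ hcon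
  have hwW : x⁻¹ * v * x ∈ W i := hc.ZW hv
  have hvW : v ∈ W i := by
    have := conjW (hW hx) hwW
    have e1 : x * (x⁻¹ * v * x) * x⁻¹ = v := by group
    rwa [e1] at this
  -- `c^x` centralises `v`
  have hcv : x * c * x⁻¹ * v * (x * c * x⁻¹)⁻¹ = v := by
    rw [mul_inv_eq_iff_eq_mul]
    refine key x v (mul_inv_eq_iff_eq_mul.1 ?_)
    refine hc.inj (conjW (h.TN i hcT) hwW) hwW ?_
    have h15 := ((hc.memZ _).1 hv).2
    rw [hcA _ hwW]
    ext
    · simp only [h15, add_zero]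
    · rfl
  have h8 := hl v hvW
  rw [hcv] at h8
  have h9 : l * (e i v).2 = 0 := by
    have := congrArg Prod.fst h8
    exact left_eq_add.1 this
  rcases mul_eq_zero.1 h9 with h10 | h10
  · -- `l = 0`: `c^x` is trivial on `W i`, but `c` is not
    exfalso
    obtain ⟨w, hw, hwe⟩ := hc.surj (0, 1)
    have hw' := conjW (hW hx) hw
    have h11 := hl _ hw'
    have e1 : x * c * x⁻¹ * (x * w * x⁻¹) * (x * c * x⁻¹)⁻¹ = x * (c * w * c⁻¹) * x⁻¹ := by group
    rw [e1, h10] at h11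
    have h12 : x * (c * w * c⁻¹) * x⁻¹ = x * w * x⁻¹ := by
      refine hc.inj (conjW (hW hx) (conjW (h.TN i hcT) hw)) hw' ?_
      rw [h11]
      simp
    have h13 : c * w * c⁻¹ = w := mul_left_cancel (mul_right_cancel h12)
    have h14 := hcA w hw
    rw [h13, hwe] at h14
    have := congrArg Prod.fst h14
    simp at this
  · exact (hc.memZ v).2 ⟨hvW, h10⟩

/-- **outside (4F)** `X` normalises all `Z i`. -/
theorem nor_of_not [Finite G] (hor : ∀ i, X ≤ normalizer (W i : Set G) ∨ ∀ x ∈ oddGen X, ∀ z ∈ Z i, x * z = z * x)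
    (hfull : ∀ i (l : K), ∃ t ∈ T, Act (W i) (e i) t (fun p => (p.1 + l * p.2, p.2)) ∧
      ∀ j, j ≠ i → ∀ w ∈ W j, t * w = w * t)
    (hno : ∀ i, ∀ s ∈ T, (∀ j, j ≠ i → ∀ z ∈ Z j, s * z = z * s) →
      ∀ l : K, ¬ Act (W i) (e i) s (fun p => (p.1 * p.1 + l * (p.2 * p.2), p.2 * p.2))) (i : ι) :
    X ≤ normalizer (Z i : Set G) := by
  by_contra hi
  obtain ⟨s, hs⟩ := h.zero hor hfull hi
  obtain ⟨l, -, hl⟩ := hs.sem
  exact hno i s (h.OT hs.sO) hs.cent l hl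

end Thr

end Cfsg.Agent.Omega.OM.FourF
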