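import Cfsg.Agent.Omega.OM.FourF.Mod
import Cfsg.Agent.Omega.OM.FourF.Def
import Cfsg.Agent.Omega.OM.Swap.Plug
import Cfsg.Agent.Omega.OM.Swap.Base
import Cfsg.Agent.ZN.CaseTwo

/-!
# THEOREM F4 (#20047, #20067): the plug at stage `-1`

* `Pair.conj` : pairs are invariant under `N_G(B)`;
* `mdOf` : the module data from `Dt`;
* `Core D M T X` : a pair `(T, X)` with `T ≤ S` and every `Z i` has a nontrivial element centralised by `X`;
  `Core.one`, `Core.thr`, `Core.false`;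
* `le_of_four` : `C_G(η) ≤ M`;
* `noOm_of_four` : (Om) is impossible if `C_G(Z) ≤ C_G(η) N_G(Z_J)`.

`OneMain` is the CLAIM for one index (helper203).
-/

set_option autoImplicit false
set_option linter.unusedSectionVars false

namespace Cfsg.Agent.Omega.OM.FourF

open Subgroup Cfsg Cfsg.Agent.ZN.ChoiceBase Cfsg.Agent.ZN.ChoiceSit
open Cfsg.Agent.ZN (jj zj bau zc zl o2)
open Cfsg.Agent.Lib.SL2Mat Cfsg.Agent.Omega.NatPair
open Cfsg.Agent.Omega.FFThm (NatK ActsSL)
open Cfsg.Agent.Omega.FrameFF (cv)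
open Cfsg.Agent.Omega.OM.YThm
open Cfsg.Agent.Omega.OM.YThm.Plug (Dt)
open Cfsg.Agent.Omega.OM.Swap (Pair AA_two mm_two)
open Cfsg.Agent.Omega.OM.Dich (K0)
open Cfsg.Agent.Omega.OM.BlkGen (FBlk)
open Cfsg.Agent.MinSimple.MinParabolic (IsMinPar)
open Cfsg.Agent.MinSimple.VModule (oddGen oddGen_le mem_oddGen oddGen_def le_normalizer_zl)
open scoped Pointwise commutatorElement

universe u

variable {G : Type u} [Group G] [Finite G]

section line

variable {ι : Type} [Finite ι] {S : Sylow 2 G} {P : Subgroup G} {L W Z C A : ι → Subgroup G} {q : ℕ}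

/-- `Z_J = ∏ Z i` -/
theorem ZJ_le_iSup {κ : Type*} [Finite κ] {B Q V ZJ : Subgroup G} {L W Z C A : κ → Subgroup G} {q m : ℕ}
    (h : OM.Uni.Fr B Q V ZJ L W Z C A q m) : ZJ ≤ ⨆ i, Z i := by
  classical
  have : Fintype κ := Fintype.ofFinite κ
  have key : ∀ s : Finset κ, ∀ v ∈ ZJ, ∃ w ∈ (⨆ i, Z i), w ∈ ZJ ∧ ∀ i ∈ s, w⁻¹ * v ∈ C i := by
    intro s
    induction s using Finset.induction_on with
    | empty => exact fun v _ => ⟨1, one_mem _, one_mem _, fun i hi => by simp at hi⟩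
    | insert j s hj ih =>
      intro v hv
      obtain ⟨w, hw, hwV, hwC⟩ := ih v hv
      obtain ⟨a, ha, c, hc, hcZ, e⟩ := h.split_ZJ j (mul_mem (inv_mem hwV) hv)
      refine ⟨w * a, mul_mem hw ((le_iSup Z j) ha), mul_mem hwV (h.Z_le j ha), fun i hi => ?_⟩
      have e1 : (w * a)⁻¹ * v = a⁻¹ * (w⁻¹ * v) := by group
      rw [e1]
      rcases Finset.mem_insert.1 hi with rfl | hi
      · rw [e]
        have : a⁻¹ * (a * c) = c := by group
        rw [this]
        exact hc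
      · have hij : i ≠ j := fun e => hj (e ▸ hi)
        exact mul_mem (inv_mem (h.WjC i j hij ((h.blk j).ZV ha))) (hwC i hi)
  intro v hv
  obtain ⟨w, hw, hwV, hwC⟩ := key Finset.univ v hv
  have h1 := h.C0 (w⁻¹ * v) (mul_mem (inv_mem (h.ZJV hwV)) (h.ZJV hv)) fun i => hwC i (Finset.mem_univ i)
  have h2 : v = w := (inv_mul_eq_one.1 h1).symm
  rw [h2]
  exact hw

/-- pairs are invariant under `N_G(B)` -/
theorem Pair.conj (h : Line S P L W Z C A q) {M T X : Subgroup G}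
    (hN : normalizer (bau (S : Subgroup G) : Set G) ≤ M) (hp : Pair S P M T X) {n : G}
    (hn : n ∈ normalizer (bau (S : Subgroup G) : Set G)) : Pair S P M (cj n T) (cj n X) := by
  have hB : cj n (bau (S : Subgroup G)) = bau (S : Subgroup G) := cj_eq_of_mem_normalizer hn
  have hM : cj n M = M := cj_eq_of_mem_normalizer (le_normalizer (hN hn))
  have hM' : cj n⁻¹ M = M := cj_eq_of_mem_normalizer (le_normalizer (inv_mem (hN hn)))
  have hJ : cj n⁻¹ (jj (S : Subgroup G)) = jj (S : Subgroup G) := by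
    refine cj_eq_of_mem_normalizer ?_
    have h1 := normalizer_le_jj (bau (S : Subgroup G))
    rw [jj_bau] at h1
    exact h1 (inv_mem hn)
  have hz : cj n (zj (S : Subgroup G)) = zj (S : Subgroup G) := cj_eq_of_mem_normalizer (Dich.norm_zj _ hn)
  refine ⟨Cfsg.Agent.ZN.CaseTwo.syl_cj n hp.syl, ?_, fun hle => hp.nM ?_, fun K hTK hKX => ?_, fun hle => hp.nJ ?_, ?_, ?_⟩
  · rw [← hB]
    exact cj_mono n hp.BT
  · rw [cj_le_iff, hM'] at hle
    exact hle
  · have h1 : cj n⁻¹ K < X := by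
      refine lt_of_le_of_ne ?_ fun e => hKX.ne ?_
      · rw [← cj_inv_cj n X]
        exact cj_mono _ hKX.le
      · rw [← e, cj_cj_inv]
    have h2 := hp.min (cj n⁻¹ K) (by rw [← cj_inv_cj n T]; exact cj_mono _ hTK) h1
    rw [← cj_cj_inv n K, ← hM]
    exact cj_mono n h2
  · rw [pCore_cj] at hle
    have := cj_mono n⁻¹ hle
    rwa [hJ, cj_inv_cj] at this
  · rw [pCore_cj, ← (h.norm hn).1]
    exact cj_mono n hp.VO
  · rw [pCore_cj, ← cj_centralizer, ← cj_centralizer]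
    nth_rewrite 1 [← hz]
    rw [← cj_inf]
    exact cj_mono n hp.fix

/-- `V` commutes with its conjugates under `X` -/
theorem comm_of_pair (h : Line S P L W Z C A q) {M T F : Subgroup G} (hp : Pair S P M T F) {f : G} (hf : f ∈ F)
    {x y : G} (hx : x ∈ zl (S : Subgroup G) P) (hy : y ∈ zl (S : Subgroup G) P) :
    x * (f * y * f⁻¹) = f * y * f⁻¹ * x := by
  have hV := hp.VO
  have hTn := Swap.two_norm h hp.syl.2.1 hp.BT
  have hO : o2 F ≤ T := o2_le_syl hp.syl
  have hcO : cj f (o2 F) = o2 F := cj_eq_of_mem_normalizer (le_normalizer_o2 F hf)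
  have h1 : cj f (zl (S : Subgroup G) P) ≤ normalizer (zl (S : Subgroup G) P : Set G) := by
    have := cj_mono f hV
    rw [hcO] at this
    exact (this.trans hO).trans hTn
  have h2 : zl (S : Subgroup G) P ≤ normalizer ((cj f (zl (S : Subgroup G) P) : Subgroup G) : Set G) := by
    have h3 := cj_mono f ((hO.trans hTn : o2 F ≤ normalizer (zl (S : Subgroup G) P : Set G)))
    rw [hcO, cj_normalizer] at h3
    exact hV.trans h3
  by_contra hne
  refine h.hyp.noFF ⟨P, P, f, h.hyp.star, h.hyp.star, h2, h1, fun e => hne ?_⟩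
  have h4 := commutator_eq_bot_iff_le_centralizer.1 e
  exact (mem_centralizer_iff.1 (h4 hx) (f * y * f⁻¹) ⟨y, hy, rfl⟩).symm

/-- the minimal parabolic -/
theorem Pair.par (_h : Line S P L W Z C A q) {M T X : Subgroup G}
    (hN : normalizer (bau (S : Subgroup G) : Set G) ≤ M) (hp : Pair S P M T X) : IsMinPar T X := by
  have hTM : T ≤ M := (Dich.two_le S hp.syl.2.1 hp.BT).trans hN
  refine ⟨hp.syl.1, fun h1 => hp.nJ ?_, X ⊓ M, lt_of_le_of_ne inf_le_left fun e => hp.nM (inf_eq_left.1 e),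
    fun K hTK hKX => le_inf hKX.le (hp.min K hTK hKX)⟩
  have h2 : T ≤ o2 X := le_o2 hp.syl.2.1 hp.syl.1 h1
  have h3 := LemmaK.Main.jj_eq S hp.syl.2.1 hp.BT
  rw [← h3]
  exact (jj_le T).trans h2

end line

section dt

variable {S : Sylow 2 G} {P : Subgroup G} {F : Type} [Field F] [Finite F]
  [CharP F 2] {k : ℕ} {N : NatK F (S : Subgroup G) P (zl (S : Subgroup G) P) (cv (S : Subgroup G) P) k}
  {L W Z C A : Fin k → Subgroup G}

/-- the module data -/
theorem exists_md (D : Dt S P N L W Z C A) : ∃ z₀ f₀ : Fin k → F,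
    MD N (bau (S : Subgroup G)) (zj (S : Subgroup G)) W Z z₀ f₀ := by
  obtain ⟨z₀, f₀, h1, h2, h3⟩ := D.exists_cn
  exact ⟨z₀, f₀, le_normalizer_zl _ _, D.line.hyp.toHyp.syl.1, h1, h2, h3, D.mem_W, D.mem_Z⟩

variable {z₀ f₀ : Fin k → F}

/-- `N_G(Z_J)` permutes the `Z i` -/
theorem perm_Z (D : Dt S P N L W Z C A) {g : G} (hg : g ∈ normalizer (zj (S : Subgroup G) : Set G)) (i : Fin k) :
    ∃ j, cj g (Z i) = Z j := by
  obtain ⟨n, hn, hgn⟩ := Dt.frat (cj_eq_of_mem_normalizer hg)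
  obtain ⟨j, hj, -⟩ := (D.line.norm hn).2 i
  refine ⟨j, ?_⟩
  rw [← hj]
  ext x
  constructor
  · rintro ⟨z, hz, rfl⟩
    refine ⟨z, hz, ?_⟩
    exact (hgn z (D.line.fr.Z_le i hz)).symm
  · rintro ⟨z, hz, rfl⟩
    refine ⟨z, hz, ?_⟩
    exact hgn z (D.line.fr.Z_le i hz)

/-- `g` permutes the `Z i` and fixes a nontrivial element of `Z i` -/
theorem fix_Z (D : Dt S P N L W Z C A) (m : MD N (bau (S : Subgroup G)) (zj (S : Subgroup G)) W Z z₀ f₀) {g : G}
    (hg : g ∈ normalizer (zj (S : Subgroup G) : Set G)) {i : Fin k} {z : G} (hz : z ∈ Z i) (hz1 : z ≠ 1)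
    (hgz : g * z = z * g) : cj g (Z i) = Z i := by
  obtain ⟨j, hj⟩ := perm_Z D hg i
  have h1 : z ∈ Z j := by
    rw [← hj]
    refine ⟨z, hz, ?_⟩
    show g * z * g⁻¹ = z
    rw [hgz]; group
  by_cases hij : j = i
  · rw [hj, hij]
  exfalso
  apply hz1
  have hzi := (D.mem_Z i z).1 hz
  have hzj := (D.mem_Z j z).1 h1
  refine m.inj (m.WV hzi.1) (one_mem _) ?_
  have h0 : N.e 1 = 0 := by
    have := N.mul 1 (one_mem _) 1 (one_mem _)
    rw [mul_one] at this
    exact left_eq_add.1 this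
  rw [h0]
  funext l
  by_cases hl : l = i
  · rw [hl]
    exact ((D.mem_W j z).1 hzj.1).2 i (Ne.symm hij)
  · exact ((D.mem_W i z).1 hzi.1).2 l hl

/-- The situation after STEP 0. -/
structure Core (D : Dt S P N L W Z C A) (M T X : Subgroup G) : Prop where
  hF : Nat.card F = 4
  hN : normalizer (bau (S : Subgroup G) : Set G) ≤ M
  hD : centralizer (zj (S : Subgroup G) : Set G) ≤ M
  hP : P ≤ M
  hp : Pair S P M T X
  hT : T ≤ (S : Subgroup G)
  fx : ∀ i, ∃ z ∈ Z i, z ≠ 1 ∧ ∀ x ∈ X, x * z = z * x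

namespace Core

variable {D : Dt S P N L W Z C A} {M T X : Subgroup G} (c : Core D M T X)
  (m : MD N (bau (S : Subgroup G)) (zj (S : Subgroup G)) W Z z₀ f₀)

include c m

theorem TZ {t : G} (ht : t ∈ T) (i : Fin k) : cj t (Z i) = Z i := by
  obtain ⟨z, hz, hz1, hzX⟩ := c.fx i
  exact fix_Z D m (Dich.norm_zj _ (Line.S_le S (c.hT ht))) hz hz1 (hzX t (c.hp.syl.1 ht))

theorem OT : o2 X ≤ T := o2_le_syl c.hp.syl

theorem exists_u (i : Fin k) : ∃ u ∈ Z i, MD.co N z₀ f₀ i u = (1, 0) ∧ ∀ x ∈ X, x * u = u * x := by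
  obtain ⟨u, hu, hue⟩ := m.exists_u i
  refine ⟨u, hu, hue, ?_⟩
  have huW := ((D.mem_Z i u).1 hu).1
  by_cases hs : ∃ t ∈ T, ∃ l : F,
      Act (W i) (MD.co N z₀ f₀ i) t (fun p => (p.1 * p.1 + l * (p.2 * p.2), p.2 * p.2))
  · obtain ⟨t, ht, l, hl⟩ := hs
    obtain ⟨z, hz, hz1, hzX⟩ := c.fx i
    obtain ⟨hzW, hz2⟩ := (m.co_Z (z₀ := z₀) (f₀ := f₀)).1 hz
    have h1 := hl z hzW
    have h2 : t * z * t⁻¹ = z := by rw [hzX t (c.hp.syl.1 ht)]; group
    rw [h2] at h1
    have h3 := congrArg Prod.fst h1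
    simp only [hz2, mul_zero, add_zero] at h3
    have h4 : (MD.co N z₀ f₀ i z).1 ≠ 0 := by
      intro h0
      apply hz1
      refine m.co_inj hzW (one_mem _) ?_
      have h5 := m.co_mul (i := i) (one_mem (zl (S : Subgroup G) P)) (one_mem (zl (S : Subgroup G) P))
      rw [mul_one] at h5
      rw [left_eq_add.1 h5]
      exact Prod.ext h0 hz2
    have h5 : (MD.co N z₀ f₀ i z).1 = 1 := mul_left_cancel₀ h4 (by rw [mul_one]; exact h3.symm)
    have h6 : u = z := m.co_inj huW hzW (by rw [hue]; exact Prod.ext h5.symm hz2.symm)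
    rw [h6]
    exact hzX
  · push Not at hs
    have h1 : ∀ o ∈ o2 X, ∀ z ∈ Z i, o * z = z * o := by
      intro o ho z hz
      have hoT := c.OT m ho
      obtain ⟨hzW, hz2⟩ := (m.co_Z (z₀ := z₀) (f₀ := f₀)).1 hz
      obtain ⟨l, hl | hl⟩ := m.act4 c.hF (c.hT hoT) (c.TZ m hoT i)
      · have h3 : o * z * o⁻¹ = z := by
          refine m.co_inj (conjW (m.nW (c.hT hoT) (c.TZ m hoT i)) hzW) hzW ?_
          rw [hl z hzW]
          refine Prod.ext ?_ rfl
          simp [hz2]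
        exact mul_inv_eq_iff_eq_mul.1 h3
      · exact absurd hl (hs o hoT l)
    intro x hx
    have h2 : u ∈ centralizer (X : Set G) :=
      c.hp.fix ⟨D.line.fr.Z_le i hu, mem_centralizer_iff.2 fun o ho => h1 o ho u hu⟩
    exact mem_centralizer_iff.1 h2 x hx

/-- the structure `Thr` -/
theorem thr {u : Fin k → G} (hu : ∀ i, u i ∈ Z i) (hue : ∀ i, MD.co N z₀ f₀ i (u i) = (1, 0))
    (huX : ∀ i, ∀ x ∈ X, x * u i = u i * x) : Thr X T M W Z u (MD.co N z₀ f₀) where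
  card := c.hF
  syl := c.hp.syl
  TM := (Dich.two_le S c.hp.syl.2.1 c.hp.BT).trans c.hN
  co := fun i => m.toCo (hu i) (hue i)
  TN := fun i t ht => m.nW (c.hT ht) (c.TZ m ht i)
  act := fun i t ht => m.act4 c.hF (c.hT ht) (c.TZ m ht i)
  full := fun i l => by
    obtain ⟨b, hb, h1⟩ := m.full i l
    exact ⟨b, c.hp.BT hb, h1⟩
  sl := fun i a b c' d hd => by
    obtain ⟨g, hg, h1, h2, h3⟩ := m.sl i a b c' d hd
    exact ⟨g, c.hP hg, h1, h2, h3⟩
  NM := fun g hg => by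
    have h1 : g ∈ normalizer (zj (S : Subgroup G) : Set G) := by
      have h2 : zj (S : Subgroup G) = ⨆ i, Z i := by
        exact le_antisymm (ZJ_le_iSup D.line.fr) (iSup_le D.line.fr.Z_le)
      rw [mem_normalizer_iff_cj, h2, Swap.cj_iSup]
      exact iSup_congr hg
    exact ((Dich.norm_zj_le S).trans (sup_le c.hD c.hN)) h1
  Xu := huX
  fix := fun i hi x hx z hz => by
    have h2 : z ∈ centralizer (X : Set G) :=
      c.hp.fix ⟨D.line.fr.Z_le i hz, mem_centralizer_iff.2 fun o ho => hi o ho z hz⟩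
    exact mem_centralizer_iff.1 h2 x hx

/-- the conjugates of `W i` generate an elementary abelian group -/
theorem ab (i : Fin k) : (∀ x ∈ NoFF.Basic.V (W i) X, ∀ y ∈ NoFF.Basic.V (W i) X, x * y = y * x) ∧
    ∀ x ∈ NoFF.Basic.V (W i) X, x * x = 1 := by
  have hWV : ∀ w ∈ W i, w ∈ zl (S : Subgroup G) P := fun w hw => m.WV hw
  have key := Swap.elab_iSup (W := fun p : X => cj (p : G) (W i)) (fun f g x hx y hy => ?_) (fun f x hx => ?_)
  · exact key
  · have h1 := comm_of_pair D.line c.hp (mul_mem (inv_mem f.2) g.2) (hWV _ (mem_cj.1 hx)) (hWV _ (mem_cj.1 hy))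
    have e1 : (f : G)⁻¹ * g * ((g : G)⁻¹ * y * g) * ((f : G)⁻¹ * g)⁻¹ = (f : G)⁻¹ * y * f := by group
    rw [e1] at h1
    have e2 : (f : G)⁻¹ * x * f * ((f : G)⁻¹ * y * f) = (f : G)⁻¹ * (x * y) * f := by group
    have e3 : (f : G)⁻¹ * y * f * ((f : G)⁻¹ * x * f) = (f : G)⁻¹ * (y * x) * f := by group
    rw [e2, e3] at h1
    exact mul_left_cancel (mul_right_cancel h1)
  · have h1 := SQ1.Bau.elem_sq D.line.fr.el _ (hWV _ (mem_cj.1 hx))
    have e2 : ((f : G)⁻¹ * x * f) ^ 2 = (f : G)⁻¹ * (x * x) * f := by rw [pow_two]; group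
    rw [e2] at h1
    have : x * x = f * ((f : G)⁻¹ * (x * x) * f) * (f : G)⁻¹ := by group
    rw [this, h1]
    group

/-- the structure `One` for the index `i` -/
theorem one {i : Fin k} {u : G} (hu : u ∈ Z i) (hue : MD.co N z₀ f₀ i u = (1, 0))
    (huX : ∀ x ∈ X, x * u = u * x) : One F X T (W i) (Z i) u (MD.co N z₀ f₀ i) where
  cardK := c.hF
  TU := fun t ht => m.nW (c.hT ht) (c.TZ m ht i)
  Uc := fun v hv w hw => D.line.fr.Vc (m.WV hv) (m.WV hw)
  U2 := fun v hv => by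
    rw [← pow_two]
    exact SQ1.Bau.elem_sq D.line.fr.el v (m.WV hv)
  uU := ((D.mem_Z i u).1 hu).1
  eu := hue
  ZU := fun z hz => ((D.mem_Z i z).1 hz).1
  mul := fun v hv w hw => m.co_mul (m.WV hv) (m.WV hw)
  inj := (m.toCo hu hue).ker
  surj := m.co_surj i
  memZ := fun v hv => by
    rw [(m.toCo hu hue).memZ]
    exact ⟨fun h => h.2, fun h => ⟨hv, h⟩⟩
  act := fun t ht => by
    obtain ⟨l, hl | hl⟩ := m.act4 c.hF (c.hT ht) (c.TZ m ht i)
    · exact ⟨l, Or.inl hl⟩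
    · refine ⟨l, Or.inr fun v hv => ?_⟩
      rw [hl v hv]
      simp only [pow_two]
  syl := c.hp.syl
  par := Pair.par D.line c.hN c.hp
  UO := fun v hv => c.hp.VO (m.WV hv)
  comm := (c.ab m i).1
  sq := (c.ab m i).2
  uF := huX
  full := fun A' hA' => by
    have hAS := AA_two S c.hp.syl.2.1 c.hp.BT hA'
    by_cases hW : A' ≤ centralizer (W i : Set G)
    · exact Or.inl hW
    right
    have hVS : zl (S : Subgroup G) P ≤ (S : Subgroup G) := (Swap.V_le_bau D.line).trans (bau_le _)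
    have hWV : W i ≤ zl (S : Subgroup G) P := fun w hw => m.WV hw
    have hoff := FFThm.off_of_AA D.line.fr.el hVS hAS fun h1 => hW (h1.trans (centralizer_le (by exact_mod_cast hWV)))
    obtain ⟨I, hI1, hI2⟩ := N.off A' hAS.2.1 hoff
    have hup : ∀ (a : G) (b : Fin k → F), ActsSL N.e (zl (S : Subgroup G) P) (cv (S : Subgroup G) P) a (fun i => up (b i)) →
        Lin (MD.co N z₀ f₀ i) (W i) ((z₀ i)⁻¹ * b i * f₀ i) a := by
      intro a b hab v hv
      have h1 := hab.1 v (m.WV hv) i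
      have h0 := m.hf i
      refine Prod.ext ?_ ?_
      · rw [MD.co_fst, h1, ap_zero', up_00, up_01]
        show _ = (z₀ i)⁻¹ * N.e v i 0 + (z₀ i)⁻¹ * b i * f₀ i * ((f₀ i)⁻¹ * N.e v i 1)
        field_simp
      · rw [MD.co_snd, h1, ap_one', up_10, up_11, zero_mul, one_mul, zero_add]
        rfl
    have hiI : i ∈ I := by
      by_contra hi
      apply hW
      intro a ha
      obtain ⟨b, hb, hab⟩ := hI1 a ha
      have h1 := hup a b hab
      rw [hb i hi, mul_zero, zero_mul] at h1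
      refine mem_centralizer_iff.2 fun v hv => ?_
      have h2 : a * v * a⁻¹ = v := by
        refine m.co_inj ?_ hv ?_
        · exact conjW (m.nW (hAS.2.1 ha) (c.TZ m (hA'.2.1 ha) i)) hv
        · rw [h1 v hv, zero_mul, add_zero]
      exact (mul_inv_eq_iff_eq_mul.1 h2).symm
    refine ⟨fun a ha => ?_, fun l => ?_⟩
    · obtain ⟨b, hb, hab⟩ := hI1 a ha
      exact ⟨_, hup a b hab⟩
    · obtain ⟨a, ha, hab⟩ := hI2 (Pi.single i (z₀ i * l * (f₀ i)⁻¹)) fun j hj => by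
        rw [Pi.single_eq_of_ne]
        rintro rfl
        exact hj hiI
      refine ⟨a, ha, ?_⟩
      have h1 := hup a _ hab
      rw [Pi.single_eq_same] at h1
      have e1 : (z₀ i)⁻¹ * (z₀ i * l * (f₀ i)⁻¹) * f₀ i = l := by
        have := m.hz i
        have := m.hf i
        field_simp
      rwa [e1] at h1
  ex := by
    have h1 : A i ∈ AA T := by
      rw [mem_AA_iff]
      refine ⟨D.line.fr.Ael i, (D.line.fr.AB i).trans c.hp.BT, ?_⟩
      rw [mm_two S c.hp.syl.2.1 c.hp.BT, D.line.fr.Am i]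
    refine ⟨A i, h1, fun h2 => D.line.fr.Ane i fun a ha v hv => ?_⟩
    exact (mem_centralizer_iff.1 (h2 ha) v hv).symm
  nJ := by
    rintro x ⟨hx, hxJ⟩
    have h1 : x ∈ normalizer (zj (S : Subgroup G) : Set G) := by
      have h2 := LemmaK.Main.jj_eq S c.hp.syl.2.1 c.hp.BT
      rw [h2] at hxJ
      have h7 := normalizer_le_of_cj (F := zj) zj_cj (jj (S : Subgroup G))
      have h8 : zj (jj (S : Subgroup G)) = zj (S : Subgroup G) :=
        zj_congr (jj_eq_of_jj_le le_rfl (jj_le _))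
      rw [h8] at h7
      exact h7 hxJ
    rw [mem_normalizer_iff_cj]
    refine fix_Z D m h1 hu ?_ (huX x hx)
    rintro rfl
    have h2 := m.co_mul (i := i) (one_mem (zl (S : Subgroup G) P)) (one_mem (zl (S : Subgroup G) P))
    rw [mul_one] at h2
    rw [left_eq_add.1 h2] at hue
    exact zero_ne_one (congrArg Prod.fst hue)

end Core

/-- The CLAIM for one index (helper203). -/
def OneMain : Prop :=
  ∀ (K : Type) [Field K] [CharP K 2] (G : Type u) [Group G] [Finite G] (X T U Z : Subgroup G) (u : G) (e : G → K × K),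
    One K X T U Z u e → (Z ≤ centralizer (o2 X : Set G) → X ≤ centralizer (Z : Set G)) →
      X ≤ normalizer (Z : Set G) ∨ X ≤ normalizer (U : Set G)

/-- **no pair** -/
theorem Core.false (h1 : OneMain.{u}) {D : Dt S P N L W Z C A} {M T X : Subgroup G} (c : Core D M T X) : False := by
  obtain ⟨z₀, f₀, m⟩ := exists_md D
  choose u hu hue huX using c.exists_u m
  have ht := c.thr m hu hue huX
  refine c.hp.nM (ht.le fun i => ?_)
  have hfix : Z i ≤ centralizer (o2 X : Set G) → X ≤ centralizer (Z i : Set G) := by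
    intro hi x hx
    refine mem_centralizer_iff.2 fun z hz => ?_
    have h3 : z ∈ centralizer (X : Set G) := c.hp.fix ⟨D.line.fr.Z_le i hz, hi hz⟩
    exact (mem_centralizer_iff.1 h3 x hx).symm
  rcases h1 F G X T (W i) (Z i) (u i) _ (c.one m (hu i) (hue i) (huX i)) hfix with h2 | h2
  · right
    intro x hx z hz
    have h3 : oddGen X ≤ centralizer (Z i : Set G) := by
      rw [oddGen_def, closure_le]
      rintro f ⟨hf, ho⟩
      refine mem_centralizer_iff.2 fun z hz => ?_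
      exact ((ht.co i).cent_of_nor c.hF (h2 hf) (huX i f hf) ho z hz).symm
    exact (mem_centralizer_iff.1 (h3 hx) z hz).symm
  · exact Or.inl h2

/-- a 2-group over `B` lies in a Sylow group `S^g`, `g ∈ N_G(B)` -/
theorem exists_cj_S {T : Subgroup G} (hT : IsPGroup 2 T) (hB : bau (S : Subgroup G) ≤ T) :
    ∃ g ∈ normalizer (bau (S : Subgroup G) : Set G), T ≤ cj g (S : Subgroup G) := by
  obtain ⟨S', hS'⟩ := hT.exists_le_sylow
  obtain ⟨g, hg⟩ := MulAction.exists_smul_eq G S S'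
  have hg2 : (S' : Subgroup G) = cj g (S : Subgroup G) := by
    rw [← hg, Sylow.coe_subgroup_smul]
    rfl
  have h1 := LemmaK.Main.bau_eq S S'.isPGroup' (hB.trans hS')
  refine ⟨g, ?_, hg2 ▸ hS'⟩
  rw [mem_normalizer_iff_cj, ← bau_cj, ← hg2, h1]

/-- **THEOREM F4**: `C_G(η) ≤ M` for `|F| = 4`. -/
theorem le_of_four (h1 : OneMain.{u}) (hFF : FFThm.Stmt.{u}) (hA : FFBr.AStmt.{u}) (D : Dt S P N L W Z C A)
    (hF : Nat.card F = 4) {M : Subgroup G} (hK : K0 (S : Subgroup G) (FBlk (S : Subgroup G)) ≤ M)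
    (hN : normalizer (bau (S : Subgroup G) : Set G) ≤ M) (hP : P ≤ M) {E : Subgroup G}
    (hE : E ≤ zj (S : Subgroup G)) (hEi : ∀ i, ∃ z ∈ Z i, z ≠ 1 ∧ z ∈ E) : centralizer (E : Set G) ≤ M := by
  by_contra hM
  have hk : 0 < k := by have := D.two; omega
  have hS2 : IsPGroup 2 (zj (S : Subgroup G)) := S.isPGroup'.to_le ((Swap.zj_le_bau _).trans (bau_le _))
  have hE1 : E ≠ ⊥ := by
    rintro rfl
    obtain ⟨z, -, hz1, hz⟩ := hEi ⟨0, hk⟩
    exact hz1 (mem_bot.1 hz)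
  have hBE : bau (S : Subgroup G) ≤ centralizer (E : Set G) :=
    (Dich.bau_le_cent _).trans (centralizer_le (by exact_mod_cast hE))
  obtain ⟨T, X, hp, hX⟩ := Swap.exists_pair D.line hFF hA hK hN hBE
    (Swap.char2_cent D.line.hyp.ctx.char2 (hS2.to_le hE) hE1) hM
  obtain ⟨g, hg, hTg⟩ := exists_cj_S hp.syl.2.1 hp.BT
  have hp' := Pair.conj D.line hN hp (inv_mem hg)
  refine Core.false h1 (D := D) (M := M) (T := cj g⁻¹ T) (X := cj g⁻¹ X)
    ⟨hF, hN, Dich.cent_le_K0.trans hK, hP, hp', ?_, fun i => ?_⟩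
  · rw [← cj_inv_cj g (S : Subgroup G)]
    exact cj_mono _ hTg
  · obtain ⟨j, hj, -⟩ := (D.line.norm hg).2 i
    obtain ⟨z, hz, hz1, hzE⟩ := hEi j
    rw [← hj, mem_cj] at hz
    refine ⟨_, hz, fun h2 => hz1 ?_, fun x hx => ?_⟩
    · have : z = g * (g⁻¹ * z * g) * g⁻¹ := by group
      rw [this, h2]; group
    · rw [mem_cj, inv_inv] at hx
      have h3 := mem_centralizer_iff.1 (hX hx) z hzE
      calc x * (g⁻¹ * z * g) = g⁻¹ * (g * x * g⁻¹ * z) * g := by group
        _ = g⁻¹ * (z * (g * x * g⁻¹)) * g := by rw [h3]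
        _ = _ := by group

/-- **(Om) is impossible for `|F| = 4`** if `C_G(Z) ≤ C_G(η) N_G(Z_J)` (stage `-1`). -/
theorem noOm_of_four (h1 : OneMain.{u}) (hFF : FFThm.Stmt.{u}) (hA : FFBr.AStmt.{u}) (D : Dt S P N L W Z C A)
    (hF : Nat.card F = 4) (hE : ∃ E : Subgroup G, E ≤ zj (S : Subgroup G) ∧ (∀ i, ∃ z ∈ Z i, z ≠ 1 ∧ z ∈ E) ∧
      FrameNOFF.CZ (S : Subgroup G) ≤ centralizer (E : Set G) ⊔ normalizer (zj (S : Subgroup G) : Set G)) :
    ∀ R : Subgroup G, IsPGroup 2 R → K0 (S : Subgroup G) (FBlk (S : Subgroup G)) ≤ normalizer (R : Set G) →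
      R = ⊥ := by
  rcases D.line.cases hFF with hE | ⟨M, hM, ho, -, hK, hD, -, hN, hS, hP⟩
  · exact hE
  exfalso
  obtain ⟨E, hE1, hE2, hE3⟩ := hE
  have h2 : FrameNOFF.CZ (S : Subgroup G) ≤ M :=
    hE3.trans (sup_le (le_of_four h1 hFF hA D hF hK hN hP hE1 hE2) ((Dich.norm_zj_le S).trans (sup_le hD hN)))
  apply ho
  refine D.line.hyp.nonLoc _ (isPGroup_o2 _) ?_ ?_
  · rw [← hM]; exact hP
  · rw [← hM]; exact h2

end dt

end Cfsg.Agent.Omega.OM.FourF
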