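import Cfsg.Agent.Omega.OM.FourF.Main
import Cfsg.Agent.Omega.OM.FourF.Plug

/-!
# THEOREM 4F (#20047, #20067): the claim for one index, in the form used by the plug
-/

set_option autoImplicit false

namespace Cfsg.Agent.Omega.OM.FourF

open Subgroup Cfsg Cfsg.Agent.ZN

universe u

theorem oneMain : OneMain.{u} := fun _K _ _ _G _ _ _X _T _U _Z _u _e h hfix =>
  h.main fun hO => (hfix (le_centralizer_iff.1 hO)).trans (centralizer_le_normalizer _)

end Cfsg.Agent.Omega.OM.FourF
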