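import Mathlib

/-!
# THEOREM F4 (#20047), the algebra of `SL₂(4)`

`K` a field of order 4, `s (x, y) = (x², y²)`, `e (x, y) = (x + y, y)` on `K × K`.

* `lemA` : line preserving `M`, `f` of order 3 permuting `e, s, s e` is impossible;
* `lemB` : if some element of `M ≥ SL₂(4)` does not preserve the lines, then every line `C(s)`, `C(s e)` is the image of
  `Z = {(z, 0)}` under `M`;
* `lemAB` : `f` of odd order, fixing `(1, 0)` and normalising `⟨e, s⟩`: `f Z = m Z` for some `m ∈ M`.
-/

set_option autoImplicit false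

namespace Cfsg.Agent.Omega.OM.FourF

variable {K : Type*} [Field K] [CharP K 2]

/-! ### The field of order four -/

omit [CharP K 2] in
theorem pow4 (hK : Nat.card K = 4) (x : K) : x * x * (x * x) = x := by
  have : Finite K := Nat.finite_of_card_ne_zero (by omega)
  have := Fintype.ofFinite K
  have h := FiniteField.pow_card x
  rw [← Nat.card_eq_fintype_card, hK] at h
  linear_combination h

theorem two0 : (2 : K) = 0 := CharTwo.two_eq_zero

theorem root (hK : Nat.card K = 4) {y : K} (h0 : y ≠ 0) (h1 : y ≠ 1) : y * y = y + 1 := by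
  have h := pow4 hK y
  have e : y * (y - 1) * (y * y + y + 1) = 0 := by linear_combination h
  rcases mul_eq_zero.1 e with h2 | h2
  · rcases mul_eq_zero.1 h2 with h3 | h3
    · exact absurd h3 h0
    · exact absurd (sub_eq_zero.1 h3) h1
  · linear_combination h2 - (y + 1) * two0 (K := K)

theorem cases4 (hK : Nat.card K = 4) {y : K} (h0 : y ≠ 0) (h1 : y ≠ 1) (x : K) :
    x = 0 ∨ x = 1 ∨ x = y ∨ x = y + 1 := by
  by_cases hx0 : x = 0
  · exact Or.inl hx0
  by_cases hx1 : x = 1
  · exact Or.inr (Or.inl hx1)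
  have hx := root hK hx0 hx1
  have hy := root hK h0 h1
  have e : (x - y) * (x - (y + 1)) = 0 := by
    linear_combination hx + hy + (1 + y - x * y) * two0 (K := K)
  rcases mul_eq_zero.1 e with h2 | h2
  · exact Or.inr (Or.inr (Or.inl (sub_eq_zero.1 h2)))
  · exact Or.inr (Or.inr (Or.inr (sub_eq_zero.1 h2)))

theorem add_self0 (x : K) : x + x = 0 := CharTwo.add_self_eq_zero x

omit [CharP K 2] in
theorem exists_om (hK : Nat.card K = 4) : ∃ y : K, y ≠ 0 ∧ y ≠ 1 := by
  classical
  have : Finite K := Nat.finite_of_card_ne_zero (by omega)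
  have := Fintype.ofFinite K
  by_contra hcon
  push Not at hcon
  have h1 : (Finset.univ : Finset K) ⊆ {0, 1} := by
    intro y _
    by_cases h : y = 0
    · simp [h]
    · simp [hcon y h]
  have h2 := Finset.card_le_card h1
  rw [Finset.card_univ, ← Nat.card_eq_fintype_card, hK] at h2
  have h3 : ({0, 1} : Finset K).card ≤ 2 := Finset.card_le_two
  omega

/-- additive maps of order 3 of a field of order 4 are multiplications. -/
theorem phi_mul (hK : Nat.card K = 4) (φ : K → K) (hadd : ∀ x y, φ (x + y) = φ x + φ y)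
    (h3 : ∀ x, φ (φ (φ x)) = x) (c : K) : φ c = φ 1 * c := by
  have h0 : φ 0 = 0 := by
    have := hadd 0 0
    rw [add_zero] at this
    exact left_eq_add.1 this
  have hinj : ∀ x y, φ x = φ y → x = y := by
    intro x y h
    rw [← h3 x, h, h3 y]
  have hne : φ 1 ≠ 0 := fun h => one_ne_zero (hinj _ _ (h.trans h0.symm))
  by_cases h1 : φ 1 = 1
  · obtain ⟨y, hy0, hy1⟩ := exists_om hK
    have hφy : φ y = y := by
      rcases cases4 hK hy0 hy1 (φ y) with h | h | h | h
      · exact absurd (hinj _ _ (h.trans h0.symm)) hy0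
      · exact absurd (hinj _ _ (h.trans h1.symm)) hy1
      · exact h
      · exfalso
        have h4 : φ (y + 1) = y := by
          rw [hadd, h, h1, add_assoc, add_self0, add_zero]
        have h5 := h3 y
        rw [h, h4, h] at h5
        exact one_ne_zero (add_eq_left.1 h5)
    rw [h1, one_mul]
    rcases cases4 hK hy0 hy1 c with h | h | h | h
    · rw [h, h0]
    · rw [h, h1]
    · rw [h, hφy]
    · rw [h, hadd, hφy, h1]
  · set l := φ 1 with hl
    have hr := root hK hne h1
    have hφl : φ l = l + 1 := by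
      rcases cases4 hK hne h1 (φ l) with h | h | h | h
      · exact absurd (hinj _ _ (h.trans h0.symm)) hne
      · exfalso
        have h5 := h3 1
        rw [← hl, h, ← hl] at h5
        exact h1 h5
      · exact absurd (hinj _ _ h) h1
      · exact h
    rcases cases4 hK hne h1 c with h | h | h | h
    · rw [h, h0, mul_zero]
    · rw [h, ← hl, mul_one]
    · rw [h, hφl, hr]
    · rw [h, hadd, hφl, ← hl, mul_add, hr, mul_one]

/-- additive injections of a field of order 4 which fix 1 are involutions. -/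
theorem phi_invol (hK : Nat.card K = 4) (φ : K → K) (hadd : ∀ x y, φ (x + y) = φ x + φ y)
    (hinj : ∀ x y, φ x = φ y → x = y) (h1 : φ 1 = 1) (c : K) : φ (φ c) = c := by
  have h0 : φ 0 = 0 := by
    have := hadd 0 0
    rw [add_zero] at this
    exact left_eq_add.1 this
  obtain ⟨y, hy0, hy1⟩ := exists_om hK
  have hφy : φ (φ y) = y := by
    rcases cases4 hK hy0 hy1 (φ y) with h | h | h | h
    · exact absurd (hinj _ _ (h.trans h0.symm)) hy0
    · exact absurd (hinj _ _ (h.trans h1.symm)) hy1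
    · rw [h, h]
    · rw [h, hadd, h, h1, add_assoc, add_self0, add_zero]
  rcases cases4 hK hy0 hy1 c with h | h | h | h
  · rw [h, h0, h0]
  · rw [h, h1, h1]
  · rw [h, hφy]
  · rw [h, hadd, hadd, hφy, h1, h1]

/-- a line preserving additive map of order 3 which commutes with `e` is a scalar. -/
theorem scalar (hK : Nat.card K = 4) (w : K × K → K × K) (hadd : ∀ p q, w (p + q) = w p + w q) (hwe : ∀ p : K × K, w (p.1 + p.2, p.2) = ((w p).1 + (w p).2, (w p).2))
    (h3 : ∀ p, w (w (w p)) = p) (hl : ∀ (c : K) p, ∃ c' : K, w (c • p) = c' • w p) :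
    ∃ l : K, ∀ p, w p = (l * p.1, l * p.2) := by
  -- `w (y, 0) = (second coordinate, 0)`
  have hz : ∀ x y : K, w (y, 0) = ((w (x, y)).2, 0) := by
    intro x y
    have h1 := hwe (x, y)
    simp only at h1
    have e : ((x + y, y) : K × K) = (x, y) + (y, 0) := by simp
    rw [e, hadd] at h1
    have h2 : w (y, 0) = ((w (x, y)).1 + (w (x, y)).2, (w (x, y)).2) - w (x, y) := by
      rw [← h1]; abel
    rw [h2]
    ext
    · simp
    · simp
  set φ : K → K := fun y => (w (y, 0)).1 with hφ
  have hwz : ∀ y, w (y, 0) = (φ y, 0) := by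
    intro y
    have := hz 0 y
    rw [this]
    rw [hφ]
    simp only
    rw [this]
  have hw2 : ∀ x y, (w (x, y)).2 = φ y := by
    intro x y
    rw [hφ]
    simp only
    rw [hz x y]
  have hφa : ∀ x y, φ (x + y) = φ x + φ y := by
    intro x y
    have h1 := hadd (x, 0) (y, 0)
    rw [hwz, hwz] at h1
    have e : ((x, 0) : K × K) + (y, 0) = (x + y, 0) := by simp
    rw [e, hwz] at h1
    exact congrArg Prod.fst h1
  have hφ3 : ∀ x, φ (φ (φ x)) = x := by
    intro x
    have h1 := h3 (x, 0)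
    rw [hwz, hwz, hwz] at h1
    exact congrArg Prod.fst h1
  have hφm := phi_mul hK φ hφa hφ3
  set l := φ 1 with hl'
  have hl0 : l ≠ 0 := by
    intro h
    have h1 := hφ3 1
    rw [← hl', h, hφm 0, mul_zero, hφm 0, mul_zero] at h1
    exact zero_ne_one h1
  -- the other coordinate
  set ψ : K → K := fun y => (w (0, y)).1 with hψ
  have hw01 : ∀ y, w (0, y) = (ψ y, l * y) := by
    intro y
    ext
    · rfl
    · rw [hw2, hφm]
  have hψc : ∀ c, ψ c = c * ψ 1 := by
    intro c
    obtain ⟨c', hc'⟩ := hl c (0, 1)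
    have e : c • ((0, 1) : K × K) = (0, c) := by simp
    rw [e, hw01, hw01] at hc'
    have h1 := congrArg Prod.fst hc'
    have h2 := congrArg Prod.snd hc'
    simp only [Prod.smul_mk, smul_eq_mul] at h1 h2
    have h4 : c = c' := by
      apply mul_left_cancel₀ hl0
      linear_combination h2
    rw [h1, ← h4]
  have hw : ∀ x y, w (x, y) = (l * x + y * ψ 1, l * y) := by
    intro x y
    have e : ((x, y) : K × K) = (x, 0) + (0, y) := by simp
    rw [e, hadd, hwz, hw01, hφm, hψc]
    simp
  have hψ1 : ψ 1 = 0 := by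
    have h1 := h3 (0, 1)
    rw [hw, hw, hw] at h1
    have h2 := congrArg Prod.fst h1
    simp only at h2
    have h4 : l * l * ψ 1 = 0 := by linear_combination h2 - (l * l * ψ 1) * two0 (K := K)
    rcases mul_eq_zero.1 h4 with h5 | h5
    · exact absurd (mul_self_eq_zero.1 h5) hl0
    · exact h5
  refine ⟨l, fun p => ?_⟩
  obtain ⟨x, y⟩ := p
  rw [hw, hψ1]
  simp

/-! ### LEMMA A -/

section

variable {s e : Equiv.Perm (K × K)}

/-- the involution `s` or `s e` centralised by an element of order three of `SL₂(4)` -/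
theorem lemA (hK : Nat.card K = 4) (hs : ∀ p : K × K, s p = (p.1 * p.1, p.2 * p.2))
    (he : ∀ p : K × K, e p = (p.1 + p.2, p.2)) {X M : Subgroup (Equiv.Perm (K × K))} (hMX : M ≤ X)
    (hadd : ∀ x ∈ X, ∀ p q : K × K, x (p + q) = x p + x q)
    (hZ : ∀ x ∈ X, (∀ z : K, (x (z, 0)).2 = 0) → x ∈ M)
    (hl : ∀ m ∈ M, ∀ (c : K) p, ∃ c' : K, m (c • p) = c' • m p)
    (hSL : ∀ a b c d : K, a * d - b * c = 1 → ∃ m ∈ M, ∀ p : K × K, m p = (a * p.1 + b * p.2, c * p.1 + d * p.2))
    {f : Equiv.Perm (K × K)} (hfX : ∀ x ∈ X, f * x * f⁻¹ ∈ X) (hfX' : ∀ x ∈ X, f⁻¹ * x * f ∈ X)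
    (h1 : f * e * f⁻¹ = s) (h3 : f * (s * e) * f⁻¹ = e) (hf3 : f * f * f = 1) : False := by
  obtain ⟨om, ho0, ho1⟩ := exists_om hK
  have hr := root hK ho0 ho1
  have h2 := two0 (K := K)
  obtain ⟨u, huM, hu⟩ := hSL 0 1 1 1 (by linear_combination (-1 : K) * h2)
  -- `u₂ = up(om) u up(om)⁻¹`
  obtain ⟨u', huM', hu'⟩ := hSL om 0 1 (om + 1) (by linear_combination hr + om * h2)
  have key : ∀ w ∈ X, w * e = e * w → w * w * w = 1 → w ∈ M ∧ ∃ l : K, ∀ p, w p = (l * p.1, l * p.2) := by
    intro w hwX hwe hw3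
    have hwe' : ∀ p : K × K, w (p.1 + p.2, p.2) = ((w p).1 + (w p).2, (w p).2) := by
      intro p
      have := DFunLike.congr_fun hwe p
      rw [Equiv.Perm.mul_apply, Equiv.Perm.mul_apply, he, he] at this
      exact this
    have hwM : w ∈ M := by
      refine hZ w hwX fun z => ?_
      have h4 := hwe' (z, 0)
      simp only [add_zero] at h4
      have h5 := congrArg Prod.fst h4
      simp only at h5
      exact left_eq_add.1 h5
    refine ⟨hwM, scalar hK w (hadd w hwX) hwe' (fun p => ?_) (hl w hwM)⟩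
    have := DFunLike.congr_fun hw3 p
    rwa [Equiv.Perm.mul_apply, Equiv.Perm.mul_apply, Equiv.Perm.one_apply] at this
  -- `u`, `u'`
  have hus : u * s = s * u := by
    ext p : 1
    rw [Equiv.Perm.mul_apply, Equiv.Perm.mul_apply, hu, hs, hs, hu]
    ext
    · simp only; ring
    · simp only; linear_combination (-(p.1 * p.2)) * h2
  have hu's : u' * (s * e) = s * e * u' := by
    ext p : 1
    rw [Equiv.Perm.mul_apply, Equiv.Perm.mul_apply, Equiv.Perm.mul_apply, Equiv.Perm.mul_apply, hu', he, hs, hs, he, hu']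
    ext
    · simp only
      linear_combination (-(p.1 + p.2) * (p.1 + p.2)) * hr - (om + 1) * (p.1 + p.2) ^ 2 * h2
    · simp only
      linear_combination (-(p.2 * p.2)) * hr - om * (p.1 * p.2 + p.2 * p.2) * h2
  have hu3 : u * u * u = 1 := by
    ext p : 1
    rw [Equiv.Perm.mul_apply, Equiv.Perm.mul_apply, Equiv.Perm.one_apply, hu, hu, hu]
    ext
    · simp only; linear_combination p.2 * h2
    · simp only; linear_combination (p.1 + p.2) * h2
  have hu'3 : u' * u' * u' = 1 := by
    ext p : 1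
    rw [Equiv.Perm.mul_apply, Equiv.Perm.mul_apply, Equiv.Perm.one_apply, hu', hu', hu']
    ext
    · simp only
      linear_combination (om + 1) * p.1 * hr + om * p.1 * h2
    · simp only
      linear_combination (3 * p.1 + om * p.2) * hr + (p.1 * (3 * om + 2) + p.2 * (2 * om * om + 2 * om)) * h2
  -- `w`, `w'`
  have hwe : f⁻¹ * u * f * e = e * (f⁻¹ * u * f) := by
    have h4 : f * e = s * f := by rw [← h1]; group
    have h5 : f⁻¹ * s = e * f⁻¹ := by rw [← h1]; group
    calc f⁻¹ * u * f * e = f⁻¹ * u * (f * e) := by group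
      _ = f⁻¹ * (u * s) * f := by rw [h4]; group
      _ = (f⁻¹ * s) * u * f := by rw [hus]; group
      _ = _ := by rw [h5]; group
  have hwe' : f * u' * f⁻¹ * e = e * (f * u' * f⁻¹) := by
    have h4 : f⁻¹ * e = s * e * f⁻¹ := by
      nth_rewrite 1 [← h3]
      group
    have h5 : f * (s * e) = e * f := by
      nth_rewrite 2 [← h3]
      group
    calc f * u' * f⁻¹ * e = f * u' * (f⁻¹ * e) := by group
      _ = f * (u' * (s * e)) * f⁻¹ := by rw [h4]; group
      _ = (f * (s * e)) * u' * f⁻¹ := by rw [hu's]; group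
      _ = _ := by rw [h5]; group
  obtain ⟨w, hwd⟩ : ∃ w, w = f⁻¹ * u * f := ⟨_, rfl⟩
  obtain ⟨w', hw'd⟩ : ∃ w', w' = f * u' * f⁻¹ := ⟨_, rfl⟩
  obtain ⟨-, l, hw⟩ := key _ (hfX' u (hMX huM)) hwe (by
    calc f⁻¹ * u * f * (f⁻¹ * u * f) * (f⁻¹ * u * f) = f⁻¹ * (u * u * u) * f := by group
      _ = 1 := by rw [hu3]; group)
  obtain ⟨-, l', hw'⟩ := key _ (hfX u' (hMX huM')) hwe' (by
    calc f * u' * f⁻¹ * (f * u' * f⁻¹) * (f * u' * f⁻¹) = f * (u' * u' * u') * f⁻¹ := by group
      _ = 1 := by rw [hu'3]; group)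
  rw [← hwd] at hw
  rw [← hw'd] at hw'
  -- `u` commutes with `w`
  have huw : u * w = w * u := by
    ext p : 1
    rw [Equiv.Perm.mul_apply, Equiv.Perm.mul_apply, hw, hu, hu, hw]
    ext
    · simp only; ring
    · simp only; ring
  have hffu : f * u * f⁻¹ * u = u * (f * u * f⁻¹) := by
    have h4 : f * (u * w) * f⁻¹ = f * (w * u) * f⁻¹ := by rw [huw]
    rw [hwd] at h4
    have e1 : f * (u * (f⁻¹ * u * f)) * f⁻¹ = f * u * f⁻¹ * u := by group
    have e2 : f * (f⁻¹ * u * f * u) * f⁻¹ = u * (f * u * f⁻¹) := by group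
    rwa [e1, e2] at h4
  have hl0 : l ≠ 0 := by
    intro h0
    have h4 := hw (1, 0)
    rw [h0, zero_mul, zero_mul] at h4
    have h5 := hw (0, 0)
    rw [mul_zero] at h5
    have h6 := w.injective (h4.trans h5.symm)
    exact one_ne_zero (congrArg Prod.fst h6)
  have hl1 : l ≠ 1 := by
    intro h0
    have h4 : w = 1 := by
      ext p : 1
      rw [hw, h0, one_mul, one_mul, Equiv.Perm.one_apply]
    have h5 : u = 1 := by
      have : u = f * (f⁻¹ * u * f) * f⁻¹ := by group
      rw [this, ← hwd, h4]; group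
    have h6 := hu (1, 0)
    rw [h5, Equiv.Perm.one_apply] at h6
    have h7 := congrArg Prod.snd h6
    simp at h7
  have hl'0 : l' ≠ 0 := by
    intro h0
    have h4 := hw' (1, 0)
    rw [h0, zero_mul, zero_mul] at h4
    have h5 := hw' (0, 0)
    rw [mul_zero] at h5
    have h6 := w'.injective (h4.trans h5.symm)
    exact one_ne_zero (congrArg Prod.fst h6)
  have hl'1 : l' ≠ 1 := by
    intro h0
    have h4 : w' = 1 := by
      ext p : 1
      rw [hw', h0, one_mul, one_mul, Equiv.Perm.one_apply]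
    have h5 : u' = 1 := by
      have : u' = f⁻¹ * (f * u' * f⁻¹) * f := by group
      rw [this, ← hw'd, h4]; group
    have h6 := hu' (1, 0)
    rw [h5, Equiv.Perm.one_apply] at h6
    have h7 := congrArg Prod.snd h6
    simp at h7
  have hcomm : u * u' = u' * u := by
    have hf2 : f⁻¹ * f⁻¹ = f := by
      calc f⁻¹ * f⁻¹ = f⁻¹ * f⁻¹ * f⁻¹ * f := by group
        _ = (f * f * f)⁻¹ * f := by group
        _ = f := by rw [hf3]; group
    have hf2' : f * f = f⁻¹ := by
      calc f * f = (f * f * f) * f⁻¹ := by group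
        _ = f⁻¹ := by rw [hf3]; group
    rcases cases4 hK hl0 hl1 l' with h | h | h | h
    · exact absurd h hl'0
    · exact absurd h hl'1
    · have h4 : f * u' * f⁻¹ = f⁻¹ * u * f := by
        rw [← hwd, ← hw'd]
        ext p : 1
        rw [hw', hw, h]
      have h5 : u' = f * u * f⁻¹ := by
        calc u' = f⁻¹ * (f * u' * f⁻¹) * f := by group
          _ = (f⁻¹ * f⁻¹) * u * (f * f) := by rw [h4]; group
          _ = _ := by rw [hf2, hf2']
      rw [h5]
      exact hffu.symm
    · have h4 : f * u' * f⁻¹ = f⁻¹ * u * f * (f⁻¹ * u * f) := by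
        rw [← hwd, ← hw'd]
        ext p : 1
        rw [Equiv.Perm.mul_apply, hw', hw, hw, h]
        have h6 := root hK hl0 hl1
        ext
        · simp only; linear_combination (-p.1) * h6
        · simp only; linear_combination (-p.2) * h6
      have h5 : u' = f * u * f⁻¹ * (f * u * f⁻¹) := by
        calc u' = f⁻¹ * (f * u' * f⁻¹) * f := by group
          _ = (f⁻¹ * f⁻¹) * u * (f * f) * ((f⁻¹ * f⁻¹) * u * (f * f)) := by rw [h4]; group
          _ = _ := by rw [hf2, hf2']
      rw [h5, ← mul_assoc, ← hffu, mul_assoc, ← hffu, ← mul_assoc]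
  have h4 := DFunLike.congr_fun hcomm (1, 0)
  rw [Equiv.Perm.mul_apply, Equiv.Perm.mul_apply, hu', hu, hu, hu'] at h4
  have h5 := congrArg Prod.fst h4
  simp at h5

/-! ### LEMMA B -/

theorem lemB (hK : Nat.card K = 4) (hs : ∀ p : K × K, s p = (p.1 * p.1, p.2 * p.2)) {M : Subgroup (Equiv.Perm (K × K))}
    (hadd : ∀ x ∈ M, ∀ p q : K × K, x (p + q) = x p + x q)
    (hSL : ∀ a b c d : K, a * d - b * c = 1 → ∃ m ∈ M, ∀ p : K × K, m p = (a * p.1 + b * p.2, c * p.1 + d * p.2))
    (hsM : ∀ m ∈ M, s * m * s⁻¹ ∈ M)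
    (hnl : ∃ m ∈ M, ∃ (c : K) (p : K × K), ∀ c' : K, m (c • p) ≠ c' • m p) (x₀ : K) :
    ∃ m ∈ M, m (1, 0) = (1, 0) ∧ ∃ z, m (z, 0) = (x₀, 1) := by
  by_contra hcon
  push Not at hcon
  -- the set `R`
  let R : K × K → Prop := fun v => ∃ m ∈ M, m (1, 0) = (1, 0) ∧ ∃ z, m (z, 0) = v
  have hR1 : ∀ g ∈ M, g (1, 0) = (1, 0) → ∀ v, R v → R (g v) := by
    rintro g hg hg1 v ⟨m, hm, hm1, z, hz⟩
    refine ⟨g * m, mul_mem hg hm, ?_, z, ?_⟩
    · rw [Equiv.Perm.mul_apply, hm1, hg1]
    · rw [Equiv.Perm.mul_apply, hz]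
  have hR2 : ∀ x y x', y ≠ 0 → R (x, y) → R (x', y) := by
    intro x y x' hy h
    obtain ⟨m, hm, hm'⟩ := hSL 1 ((x' - x) / y) 0 1 (by ring)
    have h1 := hR1 m hm (by rw [hm']; simp) _ h
    rw [hm'] at h1
    have e : (1 * x + (x' - x) / y * y, 0 * x + 1 * y) = (x', y) := by
      ext
      · simp only; rw [div_mul_cancel₀ _ hy]; ring
      · simp only; ring
    rwa [e] at h1
  have hR3 : ∀ v, R v → R (s v) := by
    rintro v ⟨m, hm, hm1, z, hz⟩
    refine ⟨s * m * s⁻¹, hsM m hm, ?_, z * z, ?_⟩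
    · have e : s⁻¹ (1, 0) = (1, 0) := by
        rw [Equiv.Perm.inv_eq_iff_eq, hs]; simp
      rw [Equiv.Perm.mul_apply, Equiv.Perm.mul_apply, e, hm1, hs]; simp
    · have e : s⁻¹ (z * z, 0) = (z, 0) := by
        rw [Equiv.Perm.inv_eq_iff_eq, hs]; simp
      rw [Equiv.Perm.mul_apply, Equiv.Perm.mul_apply, e, hz]
  have hR0 : ∀ z, R (z, 0) := fun z => ⟨1, one_mem _, rfl, z, rfl⟩
  have hR4 : ∀ x, ¬ R (x, 1) := by
    intro x h
    obtain ⟨m, hm, hm1, z, hz⟩ := hR2 x 1 x₀ one_ne_zero h
    exact hcon m hm hm1 z hz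
  -- all elements of `M` which fix `(1, 0)` normalise `Z`
  have hZ : ∀ g ∈ M, g (1, 0) = (1, 0) → ∀ z, (g (z, 0)).2 = 0 := by
    intro g hg hg1 z
    by_contra hy
    set y := (g (z, 0)).2 with hyd
    have hRy : ∀ x, R (x, y) := fun x =>
      hR2 (g (z, 0)).1 y x hy (hR1 g hg hg1 _ (hR0 z))
    have hy1 : y ≠ 1 := fun h => hR4 0 (h ▸ hRy 0)
    have hRy2 : ∀ x, R (x, y + 1) := by
      intro x
      have h1 := hR3 _ (hRy 0)
      rw [hs] at h1
      simp only at h1
      rw [root hK hy hy1] at h1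
      refine hR2 _ _ x (fun h => hy1 ?_) h1
      linear_combination h - two0 (K := K)
    -- `R` is the complement of `{(x, 1)}`
    have hRiff : ∀ v : K × K, v.2 ≠ 1 → R v := by
      rintro ⟨a, b⟩ hb
      simp only at hb
      rcases cases4 hK hy hy1 b with h | h | h | h
      · rw [h]; exact hR0 a
      · exact absurd h hb
      · rw [h]; exact hRy a
      · rw [h]; exact hRy2 a
    have hg' : ∀ v : K × K, v.2 = 1 → (g v).2 = 1 := by
      intro v hv
      by_contra h
      have h1 := hR1 g⁻¹ (inv_mem hg) (by rw [Equiv.Perm.inv_eq_iff_eq, hg1]) _ (hRiff _ h)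
      have e5 : g⁻¹ (g v) = v := Equiv.symm_apply_apply g v
      rw [e5] at h1
      have e : v = (v.1, 1) := by rw [← hv]
      rw [e] at h1
      exact hR4 _ h1
    have h1 := hg' (z, 1) rfl
    have h2 := hg' (0, 1) rfl
    have e : ((z, 1) : K × K) = (z, 0) + (0, 1) := by simp
    rw [e, hadd g hg, Prod.snd_add, h2] at h1
    exact hy (add_eq_right.1 h1)
  -- transitivity
  have htr : ∀ v : K × K, v ≠ 0 → ∃ m ∈ M, m (1, 0) = v ∧ ∀ (c : K) p, m (c • p) = c • m p := by
    rintro ⟨a, c⟩ hv
    have hlin : ∀ m : Equiv.Perm (K × K), ∀ a b c d : K, (∀ p : K × K, m p = (a * p.1 + b * p.2, c * p.1 + d * p.2)) →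
        ∀ (k : K) p, m (k • p) = k • m p := by
      intro m a b c d hm k p
      rw [hm, hm]
      ext
      · simp only [Prod.smul_fst, Prod.smul_snd, smul_eq_mul]; ring
      · simp only [Prod.smul_fst, Prod.smul_snd, smul_eq_mul]; ring
    by_cases ha : a = 0
    · have hc : c ≠ 0 := by
        rintro rfl
        exact hv (by rw [ha]; rfl)
      obtain ⟨m, hm, hm'⟩ := hSL a (-c⁻¹) c 0 (by field_simp; ring)
      exact ⟨m, hm, by rw [hm']; simp, hlin m _ _ _ _ hm'⟩
    · obtain ⟨m, hm, hm'⟩ := hSL a 0 c a⁻¹ (by field_simp; ring)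
      exact ⟨m, hm, by rw [hm']; simp, hlin m _ _ _ _ hm'⟩
  obtain ⟨m₀, hm₀, c, p, hnl⟩ := hnl
  have h00 : m₀ 0 = 0 := by
    have h1 := hadd m₀ hm₀ 0 0
    rw [add_zero] at h1
    exact left_eq_add.1 h1
  have hp : p ≠ 0 := by
    rintro rfl
    refine hnl 0 ?_
    rw [smul_zero, h00, smul_zero]
  have hmp : m₀ p ≠ 0 := fun h => hp (m₀.injective (h.trans h00.symm))
  obtain ⟨a, ha, ha1, ha2⟩ := htr p hp
  obtain ⟨b, hb, hb1, hb2⟩ := htr (m₀ p) hmp
  have h1 := hZ (b⁻¹ * m₀ * a) (mul_mem (mul_mem (inv_mem hb) hm₀) ha) (by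
    rw [Equiv.Perm.mul_apply, Equiv.Perm.mul_apply, ha1, Equiv.Perm.inv_eq_iff_eq, hb1]) c
  rw [Equiv.Perm.mul_apply, Equiv.Perm.mul_apply] at h1
  have e1 : a (c, 0) = c • p := by
    have : ((c, 0) : K × K) = c • (1, 0) := by simp
    rw [this, ha2, ha1]
  rw [e1] at h1
  set t := b⁻¹ (m₀ (c • p)) with ht
  have h2 : m₀ (c • p) = b t := (Equiv.apply_symm_apply b _).symm
  have h3 : t = t.1 • ((1, 0) : K × K) := by
    ext
    · simp
    · simp [h1]
  refine hnl t.1 ?_
  rw [h2]
  nth_rewrite 1 [h3]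
  rw [hb2, hb1]

/-! ### LEMMA AB -/

theorem cent4 (hK : Nat.card K = 4) (hs : ∀ p : K × K, s p = (p.1 * p.1, p.2 * p.2))
    (he : ∀ p : K × K, e p = (p.1 + p.2, p.2)) {g : Equiv.Perm (K × K)} (hadd : ∀ p q : K × K, g (p + q) = g p + g q)
    (hg1 : g (1, 0) = (1, 0)) (hge : g * e = e * g) (hgs : g * s = s * g) : g * g * (g * g) = 1 := by
  have h2 := two0 (K := K)
  have hge' : ∀ p : K × K, g (p.1 + p.2, p.2) = ((g p).1 + (g p).2, (g p).2) := by
    intro p
    have := DFunLike.congr_fun hge p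
    rw [Equiv.Perm.mul_apply, Equiv.Perm.mul_apply, he, he] at this
    exact this
  have hgs' : ∀ p : K × K, g (p.1 * p.1, p.2 * p.2) = ((g p).1 * (g p).1, (g p).2 * (g p).2) := by
    intro p
    have := DFunLike.congr_fun hgs p
    rw [Equiv.Perm.mul_apply, Equiv.Perm.mul_apply, hs, hs] at this
    exact this
  have h0 : g 0 = 0 := by
    have := hadd 0 0
    rw [add_zero] at this
    exact left_eq_add.1 this
  have hz : ∀ x y : K, g (y, 0) = ((g (x, y)).2, 0) := by
    intro x y
    have h1 := hge' (x, y)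
    simp only at h1
    have e : ((x + y, y) : K × K) = (x, y) + (y, 0) := by simp
    rw [e, hadd] at h1
    have h2 : g (y, 0) = ((g (x, y)).1 + (g (x, y)).2, (g (x, y)).2) - g (x, y) := by
      rw [← h1]; abel
    rw [h2]
    ext
    · simp
    · simp
  set φ : K → K := fun y => (g (y, 0)).1 with hφ
  have hgz : ∀ y, g (y, 0) = (φ y, 0) := by
    intro y
    have := hz 0 y
    rw [this]
    rw [hφ]
    simp only
    rw [this]
  have hg2 : ∀ x y, (g (x, y)).2 = φ y := by
    intro x y
    rw [hφ]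
    simp only
    rw [hz x y]
  have hφa : ∀ x y, φ (x + y) = φ x + φ y := by
    intro x y
    have h1 := hadd (x, 0) (y, 0)
    rw [hgz, hgz] at h1
    have e : ((x, 0) : K × K) + (y, 0) = (x + y, 0) := by simp
    rw [e, hgz] at h1
    exact congrArg Prod.fst h1
  have hφ1 : φ 1 = 1 := by
    have h1 := hgz 1
    rw [hg1] at h1
    exact (congrArg Prod.fst h1).symm
  have hφ0 : φ 0 = 0 := by
    have h1 := hgz 0
    have h3 : ((0, 0) : K × K) = 0 := rfl
    rw [h3, h0] at h1
    exact (congrArg Prod.fst h1).symm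
  have hφs : ∀ x, φ (x * x) = φ x * φ x := by
    intro x
    have h1 := hgs' (x, 0)
    simp only [mul_zero] at h1
    rw [hgz, hgz] at h1
    exact congrArg Prod.fst h1
  have hφinj : ∀ x y, φ x = φ y → x = y := by
    intro x y h
    have h1 : g (x, 0) = g (y, 0) := by rw [hgz, hgz, h]
    exact congrArg Prod.fst (g.injective h1)
  have hφφ : ∀ c, φ (φ c) = c := by
    obtain ⟨y, hy0, hy1⟩ := exists_om hK
    have hφy : φ (φ y) = y := by
      rcases cases4 hK hy0 hy1 (φ y) with h | h | h | h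
      · exact absurd (hφinj _ _ (h.trans hφ0.symm)) hy0
      · exact absurd (hφinj _ _ (h.trans hφ1.symm)) hy1
      · rw [h, h]
      · rw [h, hφa, h, hφ1, add_assoc, add_self0, add_zero]
    intro c
    rcases cases4 hK hy0 hy1 c with h | h | h | h
    · rw [h, hφ0, hφ0]
    · rw [h, hφ1, hφ1]
    · rw [h, hφy]
    · rw [h, hφa, hφa, hφy, hφ1, hφ1]
  have hgg : ∀ p : K × K, ∃ d : K, g (g p) = p + (d, 0) := by
    rintro ⟨x, y⟩
    refine ⟨(g (g (x, y))).1 - x, ?_⟩
    ext
    · simp
    · have h1 : (g (g (x, y))).2 = φ (g (x, y)).2 := by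
        rw [← hg2 (g (x, y)).1 (g (x, y)).2]
      rw [h1, hg2, hφφ]
      simp
  ext p : 1
  rw [Equiv.Perm.mul_apply, Equiv.Perm.mul_apply, Equiv.Perm.mul_apply, Equiv.Perm.one_apply]
  obtain ⟨d, hd⟩ := hgg p
  rw [hd, hadd, hadd, hd, hgz, hgz, hφφ]
  ext
  · simp only [Prod.fst_add]; linear_combination d * h2
  · simp

/-- If `f` is of odd order and `f² ` centralises `a`, then `f` does. -/
theorem comm_of_sq {H : Type*} [Group H] {f a : H} (hf : Odd (orderOf f)) (h : f * f * a = a * (f * f)) : f * a = a * f := by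
  obtain ⟨n, hn⟩ := hf
  have h1 : (f * f) ^ (n + 1) = f := by
    have h2 : f ^ orderOf f = 1 := pow_orderOf_eq_one f
    rw [hn] at h2
    calc (f * f) ^ (n + 1) = f ^ (2 * n + 1) * f := by
          rw [← pow_two, ← pow_mul, ← pow_succ]; ring_nf
      _ = f := by rw [h2, one_mul]
  have h3 : Commute (f * f) a := h
  have h4 := h3.pow_left (n + 1)
  rw [h1] at h4
  exact h4

theorem lemAB (hK : Nat.card K = 4) (hs : ∀ p : K × K, s p = (p.1 * p.1, p.2 * p.2))
    (he : ∀ p : K × K, e p = (p.1 + p.2, p.2)) {X M : Subgroup (Equiv.Perm (K × K))} (hMX : M ≤ X)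
    (hadd : ∀ x ∈ X, ∀ p q : K × K, x (p + q) = x p + x q)
    (hZ : ∀ x ∈ X, (∀ z : K, (x (z, 0)).2 = 0) → x ∈ M)
    (hSL : ∀ a b c d : K, a * d - b * c = 1 → ∃ m ∈ M, ∀ p : K × K, m p = (a * p.1 + b * p.2, c * p.1 + d * p.2))
    (hsM : ∀ m ∈ M, s * m * s⁻¹ ∈ M)
    {f : Equiv.Perm (K × K)} (hfadd : ∀ p q : K × K, f (p + q) = f p + f q)
    (hfX : ∀ x ∈ X, f * x * f⁻¹ ∈ X) (hfX' : ∀ x ∈ X, f⁻¹ * x * f ∈ X) (hodd : Odd (orderOf f))
    (hf1 : f (1, 0) = (1, 0)) (hfe : f * e * f⁻¹ = e ∨ f * e * f⁻¹ = s ∨ f * e * f⁻¹ = s * e)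
    (hfs : f * s * f⁻¹ = e ∨ f * s * f⁻¹ = s ∨ f * s * f⁻¹ = s * e) :
    ∃ m ∈ M, ∀ z, ∃ z', m (z, 0) = f (z', 0) := by
  have h2 := two0 (K := K)
  have hes : e * s = s * e := by
    ext p : 1
    rw [Equiv.Perm.mul_apply, Equiv.Perm.mul_apply, hs, he, he, hs]
    ext
    · simp only; linear_combination (-(p.1 * p.2)) * h2
    · simp only
  have hee : e * e = 1 := by
    ext p : 1
    rw [Equiv.Perm.mul_apply, he, he, Equiv.Perm.one_apply]
    ext
    · simp only; linear_combination p.2 * h2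
    · simp only
  have hss : s * s = 1 := by
    ext p : 1
    rw [Equiv.Perm.mul_apply, hs, hs, Equiv.Perm.one_apply]
    ext
    · exact pow4 hK p.1
    · exact pow4 hK p.2
  obtain ⟨om, ho0, ho1⟩ := exists_om hK
  -- distinctness
  have hne1 : s ≠ e := by
    intro h
    have h1 := DFunLike.congr_fun h (om, 0)
    rw [hs, he] at h1
    have h3 := congrArg Prod.fst h1
    simp only [add_zero] at h3
    rw [root hK ho0 ho1] at h3
    exact one_ne_zero (add_eq_left.1 h3)
  have hne2 : s * e ≠ e := by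
    intro h
    have h1 : s = 1 := mul_eq_right.1 h
    have h4 := DFunLike.congr_fun h1 (om, 0)
    rw [hs, Equiv.Perm.one_apply] at h4
    have h3 := congrArg Prod.fst h4
    simp only at h3
    rw [root hK ho0 ho1] at h3
    exact one_ne_zero (add_eq_left.1 h3)
  have hne3 : s * e ≠ s := by
    intro h
    have h1 : e = 1 := mul_eq_left.1 h
    have h4 := DFunLike.congr_fun h1 (0, 1)
    rw [he, Equiv.Perm.one_apply] at h4
    have h3 := congrArg Prod.fst h4
    simp at h3
  -- the second part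
  have hB : ∀ t : Equiv.Perm (K × K), f * e * f⁻¹ = t → (t = s ∨ t = s * e) →
      (∃ m ∈ M, ∃ (c : K) (p : K × K), ∀ c' : K, m (c • p) ≠ c' • m p) → ∃ m ∈ M, ∀ z, ∃ z', m (z, 0) = f (z', 0) := by
    intro t ht htc hnl
    -- a point outside `Z` fixed by `t`
    obtain ⟨x, hx⟩ : ∃ x : K, t (x, 1) = (x, 1) := by
      rcases htc with h | h
      · exact ⟨0, by rw [h, hs]; simp⟩
      · refine ⟨om, ?_⟩
        rw [h, Equiv.Perm.mul_apply, he, hs]
        ext
        · simp only; linear_combination root hK ho0 ho1 + (om + 1) * h2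
        · simp only; ring
    have ht1 : t (1, 0) = (1, 0) := by
      rcases htc with h | h
      · rw [h, hs]; simp
      · rw [h, Equiv.Perm.mul_apply, he, hs]; simp
    have htadd : ∀ p q, t (p + q) = t p + t q := by
      have hsadd : ∀ p q, s (p + q) = s p + s q := by
        intro p q
        rw [hs, hs, hs]
        ext
        · simp only [Prod.fst_add]; linear_combination (p.1 * q.1) * h2
        · simp only [Prod.snd_add]; linear_combination (p.2 * q.2) * h2
      rcases htc with h | h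
      · rw [h]; exact hsadd
      · intro p q
        have headd : e (p + q) = e p + e q := by
          rw [he, he, he]
          ext
          · simp only [Prod.fst_add, Prod.snd_add]; ring
          · simp only [Prod.snd_add]
        rw [h, Equiv.Perm.mul_apply, Equiv.Perm.mul_apply, Equiv.Perm.mul_apply, headd, hsadd]
    obtain ⟨m, hm, hm1, z₁, hz₁⟩ := lemB hK hs (fun x hx => hadd x (hMX hx)) hSL hsM hnl x
    have hmadd := hadd m (hMX hm)
    have hm0 : m 0 = 0 := by
      have := hmadd 0 0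
      rw [add_zero] at this
      exact left_eq_add.1 this
    have ht0 : t 0 = 0 := by
      have := htadd 0 0
      rw [add_zero] at this
      exact left_eq_add.1 this
    have hz0 : z₁ ≠ 0 := by
      rintro rfl
      have h3 : ((0, 0) : K × K) = 0 := rfl
      rw [h3, hm0] at hz₁
      exact one_ne_zero (congrArg Prod.snd hz₁).symm
    have hz1 : z₁ ≠ 1 := by
      rintro rfl
      rw [hm1] at hz₁
      exact one_ne_zero (congrArg Prod.snd hz₁).symm
    refine ⟨m, hm, fun z => ?_⟩
    have hfix : t (m (z, 0)) = m (z, 0) := by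
      have h3 : ((0, 0) : K × K) = 0 := rfl
      rcases cases4 hK hz0 hz1 z with h | h | h | h
      · rw [h, h3, hm0, ht0]
      · rw [h, hm1, ht1]
      · rw [h, hz₁, hx]
      · have h4 : ((z₁ + 1, 0) : K × K) = (z₁, 0) + (1, 0) := by simp
        rw [h, h4, hmadd, htadd, hz₁, hm1, hx, ht1]
    have h5 : e (f⁻¹ (m (z, 0))) = f⁻¹ (m (z, 0)) := by
      have h6 : e * f⁻¹ = f⁻¹ * t := by rw [← ht]; group
      have h7 := DFunLike.congr_fun h6 (m (z, 0))
      rw [Equiv.Perm.mul_apply, Equiv.Perm.mul_apply, hfix] at h7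
      exact h7
    rw [he] at h5
    have h6 := congrArg Prod.fst h5
    simp only at h6
    have h7 := add_eq_left.1 h6
    refine ⟨(f⁻¹ (m (z, 0))).1, ?_⟩
    have h8 : (((f⁻¹ (m (z, 0))).1, 0) : K × K) = f⁻¹ (m (z, 0)) := by
      ext
      · rfl
      · exact h7.symm
    rw [h8]
    exact (Equiv.apply_symm_apply f _).symm
  -- `f³ = 1` if `f³` centralises `e`, `s`
  have hf3 : f * f * f * e = e * (f * f * f) → f * f * f * s = s * (f * f * f) → f * f * f = 1 := by
    intro h3 h4
    have h5 : f * f * f * (f * f * f) * (f * f * f * (f * f * f)) = 1 :=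
      cent4 hK hs he (fun p q => by simp only [Equiv.Perm.mul_apply, hfadd]) (by simp only [Equiv.Perm.mul_apply, hf1]) h3 h4
    have h6 : orderOf (f * f * f) ∣ 4 := by
      apply orderOf_dvd_of_pow_eq_one
      rw [← h5]
      simp only [pow_succ, pow_zero, one_mul, mul_assoc]
    have h7 : orderOf (f * f * f) ∣ orderOf f := by
      have e : f * f * f = f ^ 3 := by rw [pow_succ, pow_two]
      rw [e]
      exact orderOf_pow_dvd 3
    have h8 : Odd (orderOf (f * f * f)) := hodd.of_dvd_nat h7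
    have h9 : Nat.Coprime (orderOf (f * f * f)) 4 := by
      have : Nat.Coprime (orderOf (f * f * f)) (2 ^ 2) := (Nat.Coprime.pow_right 2 (Nat.coprime_two_right.2 h8))
      exact this
    rw [← orderOf_eq_one_iff]
    exact Nat.Coprime.eq_one_of_dvd h9 h6
  rcases hfe with hfe | hfe | hfe
  · refine ⟨1, one_mem _, fun z => ⟨(f⁻¹ (z, 0)).1, ?_⟩⟩
    have h5 : e (f⁻¹ (z, 0)) = f⁻¹ (z, 0) := by
      have h6 : e * f⁻¹ = f⁻¹ * e := by
        nth_rewrite 2 [← hfe]
        group
      have h7 := DFunLike.congr_fun h6 (z, 0)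
      rw [Equiv.Perm.mul_apply, Equiv.Perm.mul_apply, he (z, 0)] at h7
      simp only [add_zero] at h7
      exact h7
    rw [he] at h5
    have h6 := congrArg Prod.fst h5
    simp only at h6
    have h7 := add_eq_left.1 h6
    have h8 : (((f⁻¹ (z, 0)).1, 0) : K × K) = f⁻¹ (z, 0) := by
      ext
      · rfl
      · exact h7.symm
    rw [h8]
    exact (Equiv.apply_symm_apply f _).symm
  · by_cases hnl : ∃ m ∈ M, ∃ (c : K) (p : K × K), ∀ c' : K, m (c • p) ≠ c' • m p
    · exact hB s hfe (Or.inl rfl) hnl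
    exfalso
    push Not at hnl
    have k1 : f * e = s * f := by rw [← hfe]; group
    rcases hfs with hfs | hfs | hfs
    · have k2 : f * s = e * f := by rw [← hfs]; group
      have k3 : f * f * e = e * (f * f) := by
        calc f * f * e = f * (f * e) := by group
          _ = (f * s) * f := by rw [k1]; group
          _ = _ := by rw [k2]; group
      have k4 := comm_of_sq hodd k3
      rw [k1] at k4
      exact hne1 (mul_right_cancel k4)
    · have k2 : f * s = s * f := by
        nth_rewrite 2 [← hfs]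
        group
      exact hne1 (mul_left_cancel (k2.trans k1.symm))
    · have k2 : f * s = s * e * f := by rw [← hfs]; group
      have k3 : f * (s * e) = e * f := by
        calc f * (s * e) = (f * s) * e := by group
          _ = s * e * (f * e) := by rw [k2]; group
          _ = s * (e * s) * f := by rw [k1]; group
          _ = (s * s) * e * f := by rw [hes]; group
          _ = _ := by rw [hss, one_mul]
      refine lemA hK hs he hMX hadd hZ hnl hSL hfX hfX' hfe ?_ (hf3 ?_ ?_)
      · rw [k3]; group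
      · calc f * f * f * e = f * f * (f * e) := by group
          _ = f * (f * s) * f := by rw [k1]; group
          _ = (f * (s * e)) * f * f := by rw [k2]; group
          _ = _ := by rw [k3]; group
      · calc f * f * f * s = f * f * (f * s) := by group
          _ = f * (f * (s * e)) * f := by rw [k2]; group
          _ = (f * e) * f * f := by rw [k3]; group
          _ = _ := by rw [k1]; group
  · by_cases hnl : ∃ m ∈ M, ∃ (c : K) (p : K × K), ∀ c' : K, m (c • p) ≠ c' • m p
    · exact hB (s * e) hfe (Or.inr rfl) hnl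
    exfalso
    push Not at hnl
    have k1 : f * e = s * e * f := by rw [← hfe]; group
    rcases hfs with hfs | hfs | hfs
    · have k2 : f * s = e * f := by rw [← hfs]; group
      have k3 : f * (s * e) = s * f := by
        calc f * (s * e) = (f * s) * e := by group
          _ = e * (f * e) := by rw [k2]; group
          _ = (e * s) * e * f := by rw [k1]; group
          _ = s * (e * e) * f := by rw [hes]; group
          _ = _ := by rw [hee, mul_one]
      have k1' : f⁻¹ * (s * e) = e * f⁻¹ := by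
        have : e = f⁻¹ * (s * e * f) := by rw [← k1]; group
        nth_rewrite 2 [this]
        group
      have k2' : f⁻¹ * e = s * f⁻¹ := by
        have : s = f⁻¹ * (e * f) := by rw [← k2]; group
        nth_rewrite 1 [this]
        group
      have hff : f⁻¹ * f⁻¹ * f⁻¹ = 1 := by
        have h5 : f * f * f = 1 := by
          refine hf3 ?_ ?_
          · calc f * f * f * e = f * f * (f * e) := by group
              _ = f * (f * (s * e)) * f := by rw [k1]; group
              _ = (f * s) * f * f := by rw [k3]; group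
              _ = _ := by rw [k2]; group
          · calc f * f * f * s = f * f * (f * s) := by group
              _ = f * (f * e) * f := by rw [k2]; group
              _ = (f * (s * e)) * f * f := by rw [k1]; group
              _ = _ := by rw [k3]; group
        calc f⁻¹ * f⁻¹ * f⁻¹ = (f * f * f)⁻¹ := by group
          _ = 1 := by rw [h5, inv_one]
      refine lemA hK hs he hMX hadd hZ hnl hSL (f := f⁻¹) ?_ ?_ ?_ ?_ hff
      · intro x hx
        rw [inv_inv]
        exact hfX' x hx
      · intro x hx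
        rw [inv_inv]
        exact hfX x hx
      · rw [k2']; group
      · rw [k1']; group
    · have k2 : f * s = s * f := by
        nth_rewrite 2 [← hfs]
        group
      have k3 : f * (s * e) = e * f := by
        calc f * (s * e) = (f * s) * e := by group
          _ = s * (f * e) := by rw [k2]; group
          _ = (s * s) * e * f := by rw [k1]; group
          _ = _ := by rw [hss, one_mul]
      have k4 : f * f * e = e * (f * f) := by
        calc f * f * e = f * (f * e) := by group
          _ = (f * (s * e)) * f := by rw [k1]; group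
          _ = _ := by rw [k3]; group
      have k5 := comm_of_sq hodd k4
      rw [k1] at k5
      exact hne2 (mul_right_cancel k5)
    · have k2 : f * s = s * e * f := by rw [← hfs]; group
      exact hne1 (mul_left_cancel (k2.trans k1.symm))

end

end Cfsg.Agent.Omega.OM.FourF
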