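import Cfsg.Agent.Omega.OM.YThm.MW
import Cfsg.Agent.Omega.OM.YThm.FfRep

/-!
# THEOREM 4F (#20067): the family `𝒜(F) W` on the module `W`

`W ≤ F ≤ N(W)`, `W` elementary abelian. `Fam F W` : the subgroups `A` of `↥F` with `A W = A₀ W` for some `A₀ ∈ 𝒜(F)`.

* `ffF`, `repF` : 359's `ffG`, `repG` for members of `𝒜(F)`;
* `Fam.cjA`, `Fam.el`, `Fam.ff`, `Fam.rep`, `Fam.syl` : the fields of `YS0`.
-/

set_option autoImplicit false

namespace Cfsg.Agent.Omega.OM.FourF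

open Subgroup Cfsg Cfsg.Agent.ZN Cfsg.Agent.ZN.ChoiceBase Cfsg.Agent.ZN.ChoiceSit Cfsg.Agent.Omega.OM.Swap
open Cfsg.Agent.Omega.OM.YThm Cfsg.Agent.Omega.OM.YThm.FfRep
open Cfsg.Agent.Omega.OM.YThm.MW (vl vl_mem vl_mk vl_add vl_zero vl_inj vl_smul vl_sub ad mem_ad gp mem_gp vl_mem_gp upc
  mem_upc coe_mem_upc)
open scoped Pointwise commutatorElement

universe u

variable {G : Type u} [Group G] {F W : Subgroup G}

section grp

variable {A₀ A X : Subgroup G}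

theorem AA_sup (hA₀ : A₀ ∈ AA F) (hWF : W ≤ F) : A₀ ∈ AA (A₀ ⊔ W) :=
  ⟨hA₀.1, le_sup_left, fun B hB hBF => hA₀.2.2 B hB (hBF.trans (sup_le hA₀.2.1 hWF))⟩

theorem ffF [Finite G] (hA₀ : A₀ ∈ AA F) (hWF : W ≤ F) (hW : IsElementaryAbelian 2 W)
    (h1 : A ≤ A₀ ⊔ W) (h2 : A₀ ≤ A ⊔ W) (hX : X ≤ W) (hAX : A ≤ normalizer (X : Set G)) :
    Nat.card X * Nat.card ↥(A ⊓ centralizer (X : Set G)) ≤ Nat.card A * Nat.card ↥(X ⊓ centralizer (A : Set G)) := by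
  have hnr := le_nrm (A₀ := A₀) hW h2 hX hAX
  have hWC := W_cent hW hX
  have k1 := relIndex_le (AA_sup hA₀ hWF) (elab_mono hW hX) (hX.trans le_sup_right)
  have k2 : (centralizer (X : Set G)).relIndex A₀ = (centralizer (X : Set G)).relIndex A := by
    rw [← relIndex_sup_nm ((le_sup_left.trans hnr).trans nrm_cent), ← relIndex_sup_nm (hAX.trans nrm_cent)]
    congr 1
    apply le_antisymm
    · exact sup_le (h2.trans (sup_le_sup_left hWC _)) le_sup_right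
    · exact sup_le (h1.trans (sup_le_sup_left hWC _)) le_sup_right
  rw [k2] at k1
  have h6 : Nat.card ↥(X ⊓ centralizer (A₀ : Set G)) * (centralizer (A₀ : Set G)).relIndex X = Nat.card X := by
    rw [inf_comm, ← inf_relIndex_right]
    exact card_mul_relIndex inf_le_right
  have h7 : Nat.card ↥(A ⊓ centralizer (X : Set G)) * (centralizer (X : Set G)).relIndex A = Nat.card A := by
    rw [inf_comm, ← inf_relIndex_right]
    exact card_mul_relIndex inf_le_right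
  have h5 := Subgroup.card_le_of_le (cent_eq (A₀ := A₀) hW h1 hX)
  calc Nat.card X * Nat.card ↥(A ⊓ centralizer (X : Set G))
      = Nat.card ↥(X ⊓ centralizer (A₀ : Set G)) * (centralizer (A₀ : Set G)).relIndex X *
          Nat.card ↥(A ⊓ centralizer (X : Set G)) := by rw [h6]
    _ ≤ Nat.card ↥(X ⊓ centralizer (A : Set G)) * (centralizer (X : Set G)).relIndex A *
          Nat.card ↥(A ⊓ centralizer (X : Set G)) := Nat.mul_le_mul_right _ (Nat.mul_le_mul h5 k1)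
    _ = Nat.card ↥(A ⊓ centralizer (X : Set G)) * (centralizer (X : Set G)).relIndex A *
          Nat.card ↥(X ⊓ centralizer (A : Set G)) := by ring
    _ = _ := by rw [h7]

theorem repF [Finite G] (hA₀ : A₀ ∈ AA F) (hWF : W ≤ F) (hW : IsElementaryAbelian 2 W)
    (hFW : F ≤ normalizer (W : Set G)) (h1 : A ≤ A₀ ⊔ W) (h2 : A₀ ≤ A ⊔ W) (hX : X ≤ W)
    (hAX : A ≤ normalizer (X : Set G)) (hne : ¬ A ≤ centralizer (X : Set G)) :
    ∃ A' : Subgroup G, ∃ A₀' ∈ AA F, A' ≤ A ∧ A' ≤ A₀' ⊔ W ∧ A₀' ≤ A' ⊔ W ∧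
      ¬ A' ≤ centralizer (X : Set G) ∧
      ∀ a ∈ A', ∀ b ∈ A', ∀ x ∈ X, a * (b * x * b⁻¹ * x⁻¹) * a⁻¹ = b * x * b⁻¹ * x⁻¹ := by
  have hAW : A₀ ≤ normalizer (W : Set G) := hA₀.2.1.trans hFW
  have hnr := le_nrm (A₀ := A₀) hW h2 hX hAX
  have hWC := W_cent hW hX
  have hAA := AA_sup hA₀ hWF
  have hXe := elab_mono hW hX
  have hXF : X ≤ A₀ ⊔ W := hX.trans le_sup_right
  obtain ⟨r1, r2⟩ := rep hAA hXe hXF hnr (le_refl X)
  have r3 := rep_cent hAA hXe hXF hnr (le_refl X)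
  set B : Subgroup G := A₀ ⊓ centralizer ((⁅X, A₀⁆ : Subgroup G) : Set G) with hB
  set C : Subgroup G := X ⊓ centralizer (B : Set G) with hC
  have hWF' : A₀ ⊔ W ≤ normalizer (W : Set G) := sup_le hAW le_normalizer
  have hAF : A ≤ normalizer (W : Set G) := h1.trans hWF'
  -- `A W = A₀ W`
  have hF : A ⊔ W = A₀ ⊔ W := le_antisymm (sup_le h1 le_sup_right) (sup_le h2 le_sup_right)
  have hBF : B ⊔ C ≤ A₀ ⊔ W := r2.2.1
  have hBCW : B ⊔ C ≤ normalizer (W : Set G) := hBF.trans hWF'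
  refine ⟨A ⊓ ((B ⊔ C) ⊔ W), B ⊔ C, ⟨r2.1, hBF.trans (sup_le hA₀.2.1 hWF), fun E hE hEF => ?_⟩, inf_le_left,
    inf_le_right, ?_, ?_, ?_⟩
  · exact (hA₀.2.2 E hE hEF).trans (r2.2.2 _ hA₀.1 le_sup_left)
  · intro y hy
    have hy1 : y ∈ A ⊔ W := by rw [hF]; exact hBF hy
    obtain ⟨a, ha, w, hw, rfl⟩ := mem_sup_nm hAF hy1
    refine mul_mem (mem_sup_left ⟨ha, ?_⟩) (mem_sup_right hw)
    have : a = a * w * w⁻¹ := by group
    rw [this]
    exact mul_mem (mem_sup_left hy) (mem_sup_right (inv_mem hw))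
  · intro hcon
    apply hne
    -- `B` centralises `X`
    have hBX : ∀ b ∈ B, ∀ u ∈ X, b * u = u * b := by
      intro b hb u hu
      have hb1 : b ∈ A ⊔ W := by rw [hF]; exact hBF (mem_sup_left hb)
      obtain ⟨a, ha, w, hw, e⟩ := mem_sup_nm hAF hb1
      have ha' : a ∈ A ⊓ ((B ⊔ C) ⊔ W) := by
        refine ⟨ha, ?_⟩
        have : a = b * w⁻¹ := by rw [e]; group
        rw [this]
        exact mul_mem (mem_sup_left (mem_sup_left hb)) (mem_sup_right (inv_mem hw))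
      have h3 := mem_centralizer_iff.1 (hcon ha') u hu
      have h4 := mem_centralizer_iff.1 (hWC hw) u hu
      rw [e, mul_assoc, ← h4, ← mul_assoc, ← h3, mul_assoc]
    have h3 := r3 hBX
    refine h1.trans (sup_le ?_ hWC)
    rwa [le_centralizer_iff]
  · -- quadratic
    have hstr : ∀ b ∈ A ⊓ ((B ⊔ C) ⊔ W), ∃ c ∈ B, ∃ w ∈ W, b = c * w := by
      intro b hb
      obtain ⟨y, hy, w, hw, rfl⟩ := mem_sup_nm hBCW hb.2
      have hBC : ∀ x ∈ B, ∀ y ∈ C, x * y = y * x := fun x hx y hy => mem_centralizer_iff.1 hy.2 x hx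
      obtain ⟨c, hc, x, hx, rfl⟩ := mem_sup_cm hBC hy
      exact ⟨c, hc, x * w, mul_mem (hX hx.1) hw, by group⟩
    intro a ha b hb x hx
    obtain ⟨c, hc, w, hw, rfl⟩ := hstr b hb
    obtain ⟨c', hc', w', hw', rfl⟩ := hstr a ha
    have e1 : c * w * x * (c * w)⁻¹ * x⁻¹ = ⁅c, x⁆ := by
      rw [commutatorElement_def]
      have : w * x = x * w := elab_comm hW w hw x (hX hx)
      calc c * w * x * (c * w)⁻¹ * x⁻¹ = c * (w * x) * w⁻¹ * c⁻¹ * x⁻¹ := by group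
        _ = c * (x * w) * w⁻¹ * c⁻¹ * x⁻¹ := by rw [this]
        _ = c * x * c⁻¹ * x⁻¹ := by group
    rw [e1]
    have hmem : ⁅c, x⁆ ∈ ⁅X, A₀⁆ := by
      rw [commutator_comm]
      exact commutator_mem_commutator hc.1 hx
    have hmX : ⁅c, x⁆ ∈ X := by
      rw [commutatorElement_def]
      exact mul_mem ((mem_normalizer_iff.1 (hnr (mem_sup_left hc.1)) x).1 hx) (inv_mem hx)
    have f1 : c' * ⁅c, x⁆ = ⁅c, x⁆ * c' := (mem_centralizer_iff.1 hc'.2 _ hmem).symm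
    have f2 : w' * ⁅c, x⁆ = ⁅c, x⁆ * w' := elab_comm hW w' hw' _ (hX hmX)
    calc c' * w' * ⁅c, x⁆ * (c' * w')⁻¹ = c' * (w' * ⁅c, x⁆) * (c' * w')⁻¹ := by group
      _ = c' * ⁅c, x⁆ * c'⁻¹ := by rw [f2]; group
      _ = ⁅c, x⁆ := by rw [f1]; group

end grp

/-- `A W = A₀ W` for a member `A₀` of `𝒜(F)` -/
def Fam (F W : Subgroup G) : Set (Subgroup F) := {A | ∃ A₀ ∈ AA F, upc A ≤ A₀ ⊔ W ∧ A₀ ≤ upc A ⊔ W}

namespace Fam

theorem of_AA {A₀ : Subgroup G} (hA₀ : A₀ ∈ AA F) : A₀.subgroupOf F ∈ Fam F W := by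
  refine ⟨A₀, hA₀, ?_, ?_⟩
  · rw [MW.upc_subgroupOf hA₀.2.1]
    exact le_sup_left
  · rw [MW.upc_subgroupOf hA₀.2.1]
    exact le_sup_left

theorem cj_sup (g : G) (A B : Subgroup G) : cj g (A ⊔ B) = cj g A ⊔ cj g B := Subgroup.map_sup _ _ _

theorem cj_AA {g : G} (hg : g ∈ F) {A : Subgroup G} (hA : A ∈ AA F) : cj g A ∈ AA F := by
  refine ⟨Cfsg.Agent.PLocal.ThompsonJ.isElementaryAbelian_map hA.1 _, ?_, fun B hB hBF => ?_⟩
  · rintro _ ⟨a, ha, rfl⟩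
    exact mul_mem (mul_mem hg (hA.2.1 ha)) (inv_mem hg)
  · rw [Cfsg.Agent.PLocal.ThompsonJ.card_map_injective _ (MulEquiv.injective (MulAut.conj g))]
    exact hA.2.2 B hB hBF

variable (h : WD F W)

include h in
theorem cjA (A : Subgroup F) (hA : A ∈ Fam F W) (g : F) : cj g A ∈ Fam F W := by
  obtain ⟨A₀, h0, h1, h2⟩ := hA
  have hW : cj (g : G) W = W := cj_eq_of_mem_normalizer (h.nrm g.2)
  refine ⟨cj (g : G) A₀, cj_AA g.2 h0, ?_, ?_⟩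
  · rw [MW.upc_cj]
    have := cj_mono (g : G) h1
    rwa [cj_sup, hW] at this
  · rw [MW.upc_cj]
    have := cj_mono (g : G) h2
    rwa [cj_sup, hW] at this

include h in
/-- an element of `A` acts as an element of `A₀` -/
theorem exists_eq {A : Subgroup F} {A₀ : Subgroup G} (h0 : A₀ ∈ AA F) (h1 : upc A ≤ A₀ ⊔ W) {a : F} (ha : a ∈ A) :
    ∃ b ∈ A₀, ∀ x ∈ W, (a : G) * x * (a : G)⁻¹ = b * x * b⁻¹ := by
  obtain ⟨b, hb, w, hw, e⟩ := mem_sup_nm (h0.2.1.trans h.nrm) (h1 (coe_mem_upc.2 ha))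
  refine ⟨b, hb, fun x hx => ?_⟩
  rw [e]
  have : w * x = x * w := h.comm hw hx
  calc b * w * x * (b * w)⁻¹ = b * (w * x) * w⁻¹ * b⁻¹ := by group
    _ = b * x * b⁻¹ := by rw [this]; group

theorem el [Finite G] {A : Subgroup F} (hA : A ∈ Fam F W) : El (MW h) A := by
  obtain ⟨A₀, h0, h1, h2⟩ := hA
  refine ⟨?_, fun a ha b hb x => ?_, fun a ha x => ?_⟩
  · rw [← MW.isPGroup_upc]
    have h3 : IsPGroup 2 (A₀ ⊔ W : Subgroup G) :=
      (isPGroup_of_elab h0.1).to_sup_of_normal_right' (isPGroup_of_elab h.el) (h0.2.1.trans h.nrm)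
    exact h3.to_le h1
  · obtain ⟨a', ha', ea⟩ := exists_eq h h0 h1 ha
    obtain ⟨b', hb', eb⟩ := exists_eq h h0 h1 hb
    apply vl_inj
    rw [vl_smul, vl_smul, vl_smul, vl_smul]
    have k1 := h.cn b.2 (vl_mem x)
    have k2 := h.cn a.2 (vl_mem x)
    rw [ea _ k1, eb _ (vl_mem x), eb _ k2, ea _ (vl_mem x)]
    have := elab_comm h0.1 a' ha' b' hb'
    calc a' * (b' * vl x * b'⁻¹) * a'⁻¹ = a' * b' * vl x * (a' * b')⁻¹ := by group
      _ = b' * a' * vl x * (b' * a')⁻¹ := by rw [this]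
      _ = _ := by group
  · obtain ⟨a', ha', ea⟩ := exists_eq h h0 h1 ha
    apply vl_inj
    rw [vl_smul, vl_smul, ea _ (h.cn a.2 (vl_mem x)), ea _ (vl_mem x)]
    have := elab_sq h0.1 a' ha'
    calc a' * (a' * vl x * a'⁻¹) * a'⁻¹ = a' * a' * vl x * (a' * a')⁻¹ := by group
      _ = vl x := by rw [this]; group

/-- an invariant submodule -/
theorem upc_nor {A : Subgroup F} {X : AddSubgroup (MW h)} (hX : ∀ a ∈ A, ∀ x ∈ X, a • x ∈ X) :
    upc A ≤ normalizer (gp X : Set G) := by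
  intro g hg
  obtain ⟨hgF, hgA⟩ := mem_upc.1 hg
  have key : ∀ a ∈ A, ∀ y ∈ gp X, (a : G) * y * (a : G)⁻¹ ∈ gp X := by
    rintro a ha y hy
    obtain ⟨x, hx, rfl⟩ := mem_gp.1 hy
    rw [← vl_smul]
    exact vl_mem_gp.2 (hX a ha x hx)
  rw [mem_normalizer_iff]
  intro y
  refine ⟨key _ hgA y, fun h3 => ?_⟩
  have h4 := key _ (inv_mem hgA) _ h3
  simp only [InvMemClass.coe_inv] at h4
  have h5 : g⁻¹ * (g * y * g⁻¹) * g⁻¹⁻¹ = y := by group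
  rwa [h5] at h4

theorem ff [Finite G] (hWF : W ≤ F) {A : Subgroup F} (hA : A ∈ Fam F W) (X : AddSubgroup (MW h))
    (hX : ∀ a ∈ A, ∀ x ∈ X, a • x ∈ X) :
    Nat.card X * Nat.card (ct A X) ≤ Nat.card A * Nat.card (fx X A) := by
  obtain ⟨A₀, h0, h1, h2⟩ := hA
  rw [MW.gp_ct, MW.gp_fx, ← MW.card_gp, ← MW.card_upc]
  exact ffF h0 hWF h.el h1 h2 (MW.gp_le X) (upc_nor h hX)

theorem rep [Finite G] (hWF : W ≤ F) {A : Subgroup F} (hA : A ∈ Fam F W) (X : AddSubgroup (MW h))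
    (hX : ∀ a ∈ A, ∀ x ∈ X, a • x ∈ X) (hne : ∃ a ∈ A, ∃ x ∈ X, a • x ≠ x) :
    ∃ A' ∈ Fam F W, A' ≤ A ∧ (∃ a ∈ A', ∃ x ∈ X, a • x ≠ x) ∧
      ∀ a ∈ A', ∀ b ∈ A', ∀ x ∈ X, a • (b • x - x) = b • x - x := by
  obtain ⟨A₀, h0, h1, h2⟩ := hA
  obtain ⟨A', A₀', k0, k1, k2, k3, k4, k5⟩ := repF h0 hWF h.el h.nrm h1 h2 (MW.gp_le X) (upc_nor h hX) (fun hc => by
    obtain ⟨a, ha, x, hx, hne⟩ := hne
    apply hne
    rw [MW.smul_eq_iff]
    exact (mem_centralizer_iff.1 (hc (coe_mem_upc.2 ha)) _ (vl_mem_gp.2 hx)).symm)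
  have hA'F : A' ≤ F := k1.trans (MW.upc_le A)
  have e := MW.upc_subgroupOf hA'F
  refine ⟨A'.subgroupOf F, ⟨A₀', k0, by rw [e]; exact k2, by rw [e]; exact k3⟩, ?_, ?_, ?_⟩
  · rw [← MW.upc_le_iff, e]
    exact k1
  · by_contra hcon
    push Not at hcon
    apply k4
    intro a ha
    rw [mem_centralizer_iff]
    intro y hy
    obtain ⟨x, hx, rfl⟩ := mem_gp.1 hy
    have h3 := hcon ⟨a, hA'F ha⟩ (mem_subgroupOf.2 ha) x hx
    rw [MW.smul_eq_iff] at h3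
    exact h3.symm
  · intro a ha b hb x hx
    apply vl_inj
    rw [vl_smul, vl_sub, vl_smul]
    exact k5 a (mem_subgroupOf.1 ha) b (mem_subgroupOf.1 hb) _ (vl_mem_gp.2 hx)

theorem syl {T : Subgroup G} (hT : Syl T F) : Syl (T.subgroupOf F) ⊤ := by
  refine ⟨le_top, ?_, fun Q _ hQ hTQ => ?_⟩
  · rw [← MW.isPGroup_upc, MW.upc_subgroupOf hT.1]
    exact hT.2.1
  · apply MW.upc_inj
    rw [MW.upc_subgroupOf hT.1]
    refine hT.2.2 _ (MW.upc_le Q) (MW.isPGroup_upc.2 hQ) ?_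
    rw [← MW.upc_subgroupOf hT.1]
    exact MW.upc_le_iff.2 hTQ

end Fam

end Cfsg.Agent.Omega.OM.FourF
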