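import Cfsg.Agent.Omega.OM.FourF.OneMain

/-!
# THEOREM F4 / (4F): final form

* `cent_le` : `C_G(η) ≤ M`;
* `noOm` : (Om) is impossible for `|F| = 4` if `C_G(Z) ≤ C_G(η) N_G(Z_J)` (stage `-1`).
-/

set_option autoImplicit false
set_option linter.unusedSectionVars false

namespace Cfsg.Agent.Omega.OM.FourF

open Subgroup Cfsg Cfsg.Agent.ZN.ChoiceBase Cfsg.Agent.ZN.ChoiceSit
open Cfsg.Agent.ZN (jj zj bau zc zl o2)
open Cfsg.Agent.Omega.FFThm (NatK)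
open Cfsg.Agent.Omega.FrameFF (cv)
open Cfsg.Agent.Omega.OM.YThm
open Cfsg.Agent.Omega.OM.YThm.Plug (Dt)
open Cfsg.Agent.Omega.OM.Dich (K0)
open Cfsg.Agent.Omega.OM.BlkGen (FBlk)

universe u

variable {G : Type u} [Group G] [Finite G] {S : Sylow 2 G} {P : Subgroup G} {F : Type} [Field F] [Finite F]
  [CharP F 2] {k : ℕ} {N : NatK F (S : Subgroup G) P (zl (S : Subgroup G) P) (cv (S : Subgroup G) P) k}
  {L W Z C A : Fin k → Subgroup G}

/-- **THEOREM F4**: `C_G(η) ≤ M` for `|F| = 4`. -/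
theorem cent_le (hFF : FFThm.Stmt.{u}) (hA : FFBr.AStmt.{u}) (D : Dt S P N L W Z C A)
    (hF : Nat.card F = 4) {M : Subgroup G} (hK : K0 (S : Subgroup G) (FBlk (S : Subgroup G)) ≤ M)
    (hN : normalizer (bau (S : Subgroup G) : Set G) ≤ M) (hP : P ≤ M) {E : Subgroup G}
    (hE : E ≤ zj (S : Subgroup G)) (hEi : ∀ i, ∃ z ∈ Z i, z ≠ 1 ∧ z ∈ E) : centralizer (E : Set G) ≤ M :=
  le_of_four oneMain hFF hA D hF hK hN hP hE hEi

/-- **(Om) is impossible for `|F| = 4`** if `C_G(Z) ≤ C_G(η) N_G(Z_J)` (stage `-1`). -/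
theorem noOm (hFF : FFThm.Stmt.{u}) (hA : FFBr.AStmt.{u}) (D : Dt S P N L W Z C A)
    (hF : Nat.card F = 4) (hE : ∃ E : Subgroup G, E ≤ zj (S : Subgroup G) ∧ (∀ i, ∃ z ∈ Z i, z ≠ 1 ∧ z ∈ E) ∧
      FrameNOFF.CZ (S : Subgroup G) ≤ centralizer (E : Set G) ⊔ normalizer (zj (S : Subgroup G) : Set G)) :
    ∀ R : Subgroup G, IsPGroup 2 R → K0 (S : Subgroup G) (FBlk (S : Subgroup G)) ≤ normalizer (R : Set G) →
      R = ⊥ :=
  noOm_of_four oneMain hFF hA D hF hE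

end Cfsg.Agent.Omega.OM.FourF
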