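import Cfsg.Agent.Omega.OM.Swap.Two

/-!
# THEOREM 4F (#20067), (2): type `K`

`F` a minimal parabolic over its Sylow 2-subgroup `T`, `O = O₂(F)`, `U ≤ O` normalised by `T`, `W = ⟨U^F⟩` elementary
abelian, `D ≤ [U, O]`. If every elementary abelian `B ≤ O` satisfies `|B : C_B(U)| ≤ |D : C_D(B)|` (the count) and some
`A ∈ 𝒜(F)` satisfies `[U, A] ≤ D`, `|A : C_A(U)| ≤ |U : C_U(A)|` and `A ∩ O` does not induce all of `A` on `U`, then `F`
normalises `U`:  `KS.false`.

With `W₁ = ⟨D^F⟩`, `B = C_A(U)`: `|W : C_W(A)| = |A : C_A(W)|` (order of `A`, no over-offender on `W / W₁`, the count);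
`C_W(B) = U C_W(A)`; so `|A : A ∩ O| = |W : W₁ U C_W(A)| = |W : W₁ C_W(B)| = |B : B ∩ O|`.
-/

set_option autoImplicit false

namespace Cfsg.Agent.Omega.OM.FourF

open Subgroup Cfsg Cfsg.Agent.ZN Cfsg.Agent.ZN.ChoiceBase Cfsg.Agent.ZN.ChoiceSit Cfsg.Agent.Omega.NoFF.Basic
  Cfsg.Agent.MinSimple.VModule Cfsg.Agent.Omega.OmThm Cfsg.Agent.Omega.OM.Swap
open Cfsg.Agent.MinSimple.MinParabolic (IsMinPar)
open scoped Pointwise commutatorElement

universe u

variable {G : Type u} [Group G]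

theorem cj_relIndex (g : G) (H K : Subgroup G) : (cj g H).relIndex (cj g K) = H.relIndex K :=
  relIndex_map_map_of_injective H K (MulEquiv.injective (MulAut.conj g))

/-- the situation of (2) -/
structure KS (F T U D : Subgroup G) : Prop where
  syl : Syl T F
  par : IsMinPar T F
  TU : T ≤ normalizer (U : Set G)
  UO : U ≤ o2 F
  comm : ∀ x ∈ V U F, ∀ y ∈ V U F, x * y = y * x
  sq : ∀ x ∈ V U F, x * x = 1
  nU : ¬ F ≤ normalizer (U : Set G)
  DO : D ≤ ⁅U, o2 F⁆
  kc : ∀ B : Subgroup G, B ≤ o2 F → (∀ b ∈ B, ∀ b' ∈ B, b * b' = b' * b) → (∀ b ∈ B, b * b = 1) →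
    (centralizer (U : Set G)).relIndex B ≤ (centralizer (B : Set G)).relIndex D
  off : ∃ A ∈ AA F, (centralizer (U : Set G)).relIndex A ≤ (centralizer (A : Set G)).relIndex U ∧
    ⁅U, A⁆ ≤ D ∧ (centralizer (U : Set G)).relIndex (A ⊓ o2 F) < (centralizer (U : Set G)).relIndex A

namespace KS

variable {F T U D : Subgroup G}

theorem xd [Finite G] (h : KS F T U D) : XD T F U where
  S2 := h.syl.2.1
  SX := h.syl.1
  gen := (Dich.oddGen_sup_syl h.syl).ge
  QS := o2_le_syl h.syl
  SU := h.TU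
  comm := h.comm
  sq := h.sq
  nU := h.nU

theorem F_W (_ : KS F T U D) : F ≤ normalizer (V U F : Set G) := XD.X_le_normalizer_W

theorem F_W1 (_ : KS F T U D) : F ≤ normalizer (V D F : Set G) := XD.X_le_normalizer_W

theorem V_le_O (h : KS F T U D) : V U F ≤ o2 F := V_le fun p hp => by
  have h1 : cj p U ≤ cj p (o2 F) := cj_mono p h.UO
  rw [cj_o2_self hp] at h1
  exact h1

theorem V_le_F (h : KS F T U D) : V U F ≤ F := h.V_le_O.trans (ChoiceSit.o2_le F)

theorem isElab (h : KS F T U D) : IsElementaryAbelian 2 (V U F) := elab_of h.comm h.sq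

theorem W1_le_comm (h : KS F T U D) : V D F ≤ ⁅V U F, o2 F⁆ := V_le fun p hp => by
  have h1 : D ≤ ⁅V U F, o2 F⁆ := h.DO.trans (commutator_mono XD.U_le_W le_rfl)
  have h2 := cj_mono p h1
  have h3 : cj p ⁅V U F, o2 F⁆ = ⁅V U F, o2 F⁆ :=
    cj_eq_of_mem_normalizer (XD.X_le_normalizer_comm hp)
  rw [h3] at h2
  exact h2

theorem W1_le [Finite G] (h : KS F T U D) : V D F ≤ V U F := h.W1_le_comm.trans (XD.comm_le_W h.xd)

/-- The count, carried to `⟨D^F⟩`. -/
theorem chain [Finite G] (h : KS F T U D) (B : Subgroup G) (hB : B ≤ o2 F) (hc : ∀ b ∈ B, ∀ b' ∈ B, b * b' = b' * b)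
    (h2 : ∀ b ∈ B, b * b = 1) :
    (centralizer (V U F : Set G)).relIndex B ≤ (centralizer (B : Set G)).relIndex (V D F) := by
  induction hn : Nat.card B using Nat.strong_induction_on generalizing B with
  | _ n IH =>
    by_cases h1 : B ≤ centralizer (V U F : Set G)
    · rw [relIndex_eq_one.2 h1]
      exact Two.pos_relIndex _ _
    -- a moved conjugate
    obtain ⟨y, hy, hyB⟩ : ∃ y ∈ F, ¬ B ≤ centralizer ((cj y U : Subgroup G) : Set G) := by
      by_contra hcon
      push Not at hcon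
      apply h1
      rw [le_centralizer_iff]
      exact V_le fun y hy => le_centralizer_iff.1 (hcon y hy)
    set B₁ : Subgroup G := B ⊓ centralizer ((cj y U : Subgroup G) : Set G) with hB₁
    have hlt : B₁ < B := lt_of_le_of_ne inf_le_left fun h3 => hyB (h3 ▸ inf_le_right)
    have hcard : Nat.card B₁ < n := by
      rw [← hn]
      refine lt_of_le_of_ne (Subgroup.card_le_of_le hlt.le) fun h5 => ?_
      exact hlt.ne (eq_of_le_of_card_ge hlt.le h5.ge)
    have ih := IH _ hcard B₁ (hlt.le.trans hB) (fun b hb b' hb' => hc b (hlt.le hb) b' (hlt.le hb'))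
      (fun b hb => h2 b (hlt.le hb)) rfl
    -- the step
    have hst : B₁.relIndex B ≤ (centralizer (B : Set G)).relIndex (cj y D) := by
      have h3 : B₁.relIndex B = (centralizer ((cj y U : Subgroup G) : Set G)).relIndex B := by
        rw [hB₁, inf_relIndex_left]
      have h4 : (centralizer ((cj y U : Subgroup G) : Set G)).relIndex B =
          (centralizer (U : Set G)).relIndex (cj y⁻¹ B) := by
        rw [← cj_relIndex y⁻¹, cj_centralizer, cj_inv_cj]
      have h5 : (centralizer (B : Set G)).relIndex (cj y D) =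
          (centralizer ((cj y⁻¹ B : Subgroup G) : Set G)).relIndex D := by
        rw [← cj_relIndex y⁻¹, cj_centralizer, cj_inv_cj]
      rw [h3, h4, h5]
      refine h.kc _ ?_ ?_ ?_
      · have h6 := cj_mono y⁻¹ hB
        rwa [cj_o2_self (inv_mem hy)] at h6
      · rintro _ ⟨b, hb, rfl⟩ _ ⟨b', hb', rfl⟩
        rw [← map_mul, hc b hb b' hb', map_mul]
      · rintro _ ⟨b, hb, rfl⟩
        rw [← map_mul, h2 b hb, map_one]
    -- multiply
    set C₀ : Subgroup G := centralizer (B : Set G) ⊓ V D F with hC₀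
    set C₁ : Subgroup G := centralizer (B₁ : Set G) ⊓ V D F with hC₁
    have hCC : C₀ ≤ C₁ := inf_le_inf_right _ (centralizer_le hlt.le)
    have hyD : cj y D ≤ C₁ := by
      refine le_inf ?_ (Z_le_V (Z := D) (P := F) hy)
      have h3 : cj y D ≤ cj y U := cj_mono y (h.DO.trans (h.xd.SU.trans' (o2_le_syl h.syl) |>
        fun h4 => (le_normalizer_iff_commutator_le_left).1 h4))
      refine h3.trans ?_
      rw [le_centralizer_iff]
      exact inf_le_right
    have e1 : (centralizer (B : Set G)).relIndex (V D F) = C₀.relIndex C₁ * C₁.relIndex (V D F) := by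
      rw [relIndex_mul_relIndex C₀ C₁ (V D F) hCC inf_le_right, hC₀, inf_relIndex_right]
    have e2 : (centralizer (B₁ : Set G)).relIndex (V D F) = C₁.relIndex (V D F) := by
      rw [hC₁, inf_relIndex_right]
    have e3 : (centralizer (B : Set G)).relIndex (cj y D) ≤ C₀.relIndex C₁ := by
      have h3 : C₀.relIndex C₁ = (centralizer (B : Set G)).relIndex C₁ := by
        rw [← inf_relIndex_right (centralizer (B : Set G)) C₁, hC₀]
        congr 1
        rw [hC₁, ← inf_assoc, inf_eq_left.2 (centralizer_le hlt.le)]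
      rw [h3]
      exact relIndex_le_of_le_right hyD (relIndex_ne _ _)
    have e4 : (centralizer (V U F : Set G)).relIndex B =
        (centralizer (V U F : Set G)).relIndex B₁ * B₁.relIndex B := by
      have h7 : B ⊓ centralizer (V U F : Set G) ≤ B₁ := inf_le_inf_left _ (centralizer_le (Z_le_V hy))
      rw [← inf_relIndex_right (centralizer (V U F : Set G)) B, ← relIndex_mul_relIndex _ B₁ B (by
        rw [inf_comm]; exact h7) hlt.le]
      congr 1
      rw [← inf_relIndex_right (centralizer (V U F : Set G)) B₁]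
      rw [← inf_relIndex_right (centralizer (V U F : Set G) ⊓ B) B₁, inf_assoc, inf_eq_right.2 hlt.le]
    rw [e1, e4, mul_comm]
    rw [e2] at ih
    exact Nat.mul_le_mul (hst.trans e3) ih

/-- the elements `b` of `W` with `[b, E] ≤ ⟨D^F⟩` -/
def cc [Finite G] (h : KS F T U D) {E : Subgroup G} (_hE : E ≤ F) : Subgroup G where
  carrier := {b | b ∈ V U F ∧ ∀ e ∈ E, b * e * b⁻¹ * e⁻¹ ∈ V D F}
  one_mem' := ⟨one_mem _, fun e _ => by simp [one_mem]⟩
  mul_mem' := by
    rintro a b ⟨ha, ha'⟩ ⟨hb, hb'⟩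
    refine ⟨mul_mem ha hb, fun e he => ?_⟩
    have h1 : a * b * e * (a * b)⁻¹ * e⁻¹ = (a * (b * e * b⁻¹ * e⁻¹) * a⁻¹) * (a * e * a⁻¹ * e⁻¹) := by group
    have h2 := h.W1_le (hb' e he)
    rw [h1, h.comm a ha _ h2, mul_inv_cancel_right]
    exact mul_mem (hb' e he) (ha' e he)
  inv_mem' := by
    rintro a ⟨ha, ha'⟩
    have : a⁻¹ = a := inv_eq_of_mul_eq_one_left (h.sq a ha)
    rw [this]
    exact ⟨ha, ha'⟩

/-- No over-offender on `W / ⟨D^F⟩`. -/
theorem noover [Finite G] (h : KS F T U D) {E K : Subgroup G} (hE : E ≤ F) (hE2 : ∀ e ∈ E, e * e = 1) (hK : K ≤ V U F)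
    (hDK : V D F ≤ K) (hKE : ∀ b ∈ K, ∀ e ∈ E, b * e * b⁻¹ * e⁻¹ ∈ V D F) :
    (o2 F).relIndex E ≤ K.relIndex (V U F) := by
  refine noOv h.syl h.par h.comm h.sq (V D F) (V U F) K E hDK hK le_rfl h.F_W1 h.F_W ?_ hE hE2 hKE
  obtain ⟨c, hc, x, hx, hne⟩ := h.xd.one
  exact ⟨c, hc, x, hx, fun h1 => hne (h.W1_le_comm h1)⟩

/-- **(2)** -/
theorem false [Finite G] (h : KS F T U D) : False := by
  obtain ⟨A, hA, hm, hUA, hlt⟩ := h.off
  set W := V U F with hW
  set W₁ := V D F with hW₁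
  have hAF : A ≤ F := hA.2.1
  have hA2 := elab_sq hA.1
  have hAc := elab_comm hA.1
  have hUW : U ≤ W := XD.U_le_W
  have hW₁W : W₁ ≤ W := h.W1_le
  set B : Subgroup G := A ⊓ centralizer (U : Set G) with hB
  have hBA : B ≤ A := inf_le_left
  set C : Subgroup G := centralizer (A : Set G) ⊓ W with hC
  set CB : Subgroup G := centralizer (B : Set G) ⊓ W with hCB
  have hCW : C ≤ W := inf_le_right
  have hCBW : CB ≤ W := inf_le_right
  have hUCB : U ≤ CB := le_inf (le_centralizer_iff.1 inf_le_right) hUW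
  have hCCB : C ≤ CB := inf_le_inf_right _ (centralizer_le hBA)
  -- the subgroups `cc`
  have k1 : ∀ {E : Subgroup G} (hE : E ≤ F), W₁ ≤ h.cc hE := fun {E} hE x hx => by
    refine ⟨hW₁W hx, fun e he => ?_⟩
    have h1 : x * e * x⁻¹ * e⁻¹ = x * (e * x⁻¹ * e⁻¹) := by group
    rw [h1]
    exact mul_mem hx ((mem_normalizer_iff.1 (h.F_W1 (hE he)) _).1 (inv_mem hx))
  have k2 : ∀ {E : Subgroup G} (hE : E ≤ F), centralizer (E : Set G) ⊓ W ≤ h.cc hE := fun {E} hE x hx => by
    refine ⟨hx.2, fun e he => ?_⟩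
    have h1 : x * e * x⁻¹ * e⁻¹ = 1 := by
      rw [← mem_centralizer_iff.1 hx.1 e he]; group
    rw [h1]
    exact one_mem _
  have k3 : U ≤ h.cc hAF := fun x hx => by
    refine ⟨hUW hx, fun e he => ?_⟩
    have h1 : ⁅x, e⁆ ∈ D := hUA (commutator_mem_commutator hx he)
    rw [commutatorElement_def] at h1
    exact XD.U_le_W h1
  -- the numbers
  set a := (o2 F).relIndex A with ha
  set b := (o2 F).relIndex B with hb
  set n := (centralizer (U : Set G)).relIndex A with hn
  set c := (centralizer (W : Set G)).relIndex (A ⊓ o2 F) with hc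
  set c' := (centralizer (W : Set G)).relIndex (B ⊓ o2 F) with hc'
  set x := (centralizer (U : Set G)).relIndex (A ⊓ o2 F) with hx
  have i2 : a ≤ (C ⊔ W₁ ⊔ U).relIndex W := by
    have hle : C ⊔ W₁ ⊔ U ≤ h.cc hAF := sup_le (sup_le (k2 hAF) (k1 hAF)) k3
    exact h.noover hAF hA2 (sup_le (sup_le hCW hW₁W) hUW) (le_sup_right.trans le_sup_left)
      fun b hb e he => (hle hb).2 e he
  have i4 : b ≤ (CB ⊔ W₁).relIndex W := by
    have hle : CB ⊔ W₁ ≤ h.cc (hBA.trans hAF) := sup_le (k2 _) (k1 _)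
    exact h.noover (hBA.trans hAF) (fun e he => hA2 e (hBA he)) (sup_le hCBW hW₁W) le_sup_right
      fun b hb e he => (hle hb).2 e he
  have i3 : c ≤ C.relIndex (C ⊔ W₁) := by
    have h1 := h.chain (A ⊓ o2 F) inf_le_right (fun b hb b' hb' => hAc b hb.1 b' hb'.1) fun b hb => hA2 b hb.1
    have h2 : (centralizer ((A ⊓ o2 F : Subgroup G) : Set G)).relIndex W₁ ≤ (centralizer (A : Set G)).relIndex W₁ :=
      relIndex_le_of_le_left (centralizer_le inf_le_left) (relIndex_ne _ _)
    have h3 : (centralizer (A : Set G)).relIndex W₁ = C.relIndex W₁ := by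
      rw [← inf_relIndex_right (centralizer (A : Set G)) W₁, ← inf_relIndex_right C W₁, hC, inf_assoc,
        inf_eq_right.2 hW₁W]
    exact (h1.trans h2).trans (h3.le.trans (relIndex_le_of_le_right le_sup_right (relIndex_ne _ _)))
  have i5 : c' ≤ CB.relIndex (CB ⊔ W₁) := by
    have h1 := h.chain (B ⊓ o2 F) inf_le_right (fun b hb b' hb' => hAc b (hBA hb.1) b' (hBA hb'.1))
      fun b hb => hA2 b (hBA hb.1)
    have h2 : (centralizer ((B ⊓ o2 F : Subgroup G) : Set G)).relIndex W₁ ≤ (centralizer (B : Set G)).relIndex W₁ :=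
      relIndex_le_of_le_left (centralizer_le inf_le_left) (relIndex_ne _ _)
    have h3 : (centralizer (B : Set G)).relIndex W₁ = CB.relIndex W₁ := by
      rw [← inf_relIndex_right (centralizer (B : Set G)) W₁, ← inf_relIndex_right CB W₁, hCB, inf_assoc,
        inf_eq_right.2 hW₁W]
    exact (h1.trans h2).trans (h3.le.trans (relIndex_le_of_le_right le_sup_right (relIndex_ne _ _)))
  have i6 : n ≤ C.relIndex (C ⊔ U) := by
    have h3 : (centralizer (A : Set G)).relIndex U = C.relIndex U := by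
      rw [← inf_relIndex_right (centralizer (A : Set G)) U, ← inf_relIndex_right C U, hC, inf_assoc,
        inf_eq_right.2 hUW]
    exact hm.trans (h3.le.trans (relIndex_le_of_le_right le_sup_right (relIndex_ne _ _)))
  -- `C_A(W) ≤ O`
  have hO : A ⊓ centralizer (W : Set G) ≤ o2 F := by
    have h1 := h.noover (E := A ⊓ centralizer (W : Set G)) (K := W) (inf_le_left.trans hAF)
      (fun e he => hA2 e he.1) le_rfl hW₁W (fun b hb e he => by
        have h1 : b * e * b⁻¹ * e⁻¹ = 1 := by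
          rw [mem_centralizer_iff.1 he.2 b hb]; group
        rw [h1]
        exact one_mem _)
    rw [relIndex_self] at h1
    exact relIndex_eq_one.1 (le_antisymm h1 (Two.pos_relIndex _ _))
  have hWU : centralizer (W : Set G) ≤ centralizer (U : Set G) := centralizer_le hUW
  have step : ∀ {H K L : Subgroup G}, L ⊓ H ≤ K → K ≤ L → H.relIndex L = H.relIndex K * K.relIndex L :=
    fun {H K L} h1 h2 => by
      rw [← inf_relIndex_right H L, ← relIndex_mul_relIndex (H ⊓ L) K L (by rwa [inf_comm]) h2]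
      congr 1
      rw [← inf_relIndex_right H K, ← inf_relIndex_right (H ⊓ L) K, inf_assoc, inf_eq_right.2 h2]
  have e1 : (centralizer (W : Set G)).relIndex A = c * a := by
    rw [step (K := A ⊓ o2 F) (le_inf inf_le_left hO) inf_le_left, inf_relIndex_left]
  have e2 : (centralizer (W : Set G)).relIndex A = (centralizer (W : Set G)).relIndex B * n := by
    rw [step (K := B) (inf_le_inf_left _ hWU) inf_le_left, hB, inf_relIndex_left]
  have e3 : (centralizer (W : Set G)).relIndex B = c' * b := by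
    rw [step (K := B ⊓ o2 F) (le_inf inf_le_left ((inf_le_inf_right _ hBA).trans hO)) inf_le_left,
      inf_relIndex_left]
  have e4 : c = c' * x := by
    have h1 : B ⊓ o2 F = A ⊓ o2 F ⊓ centralizer (U : Set G) := by
      rw [hB, inf_assoc, inf_assoc, inf_comm (centralizer (U : Set G))]
    rw [hc, step (K := B ⊓ o2 F) (by rw [h1]; exact inf_le_inf_left _ hWU) (inf_le_inf_right _ hBA), hc', hx]
    congr 1
    rw [h1, inf_relIndex_left]
  have up : C.relIndex W ≤ (centralizer (W : Set G)).relIndex A := by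
    have h1 := relIndex_le hA h.isElab h.V_le_F
    rwa [← inf_relIndex_right (centralizer (A : Set G)) W] at h1
  have d1 : C.relIndex W = C.relIndex (C ⊔ W₁) * ((C ⊔ W₁).relIndex (C ⊔ W₁ ⊔ U) * (C ⊔ W₁ ⊔ U).relIndex W) := by
    rw [relIndex_mul_relIndex _ _ _ le_sup_left (sup_le (sup_le hCW hW₁W) hUW),
      relIndex_mul_relIndex _ _ _ le_sup_left (sup_le hCW hW₁W)]
  have d2 : C.relIndex W = C.relIndex (C ⊔ U) * ((C ⊔ U).relIndex CB *
      (CB.relIndex (CB ⊔ W₁) * (CB ⊔ W₁).relIndex W)) := by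
    rw [relIndex_mul_relIndex _ _ _ le_sup_left (sup_le hCBW hW₁W),
      relIndex_mul_relIndex _ _ _ (sup_le hCCB hUCB) hCBW, relIndex_mul_relIndex _ _ _ le_sup_left (sup_le hCW hUW)]
  have pa : 0 < a := Two.pos_relIndex _ _
  have pb : 0 < b := Two.pos_relIndex _ _
  have pc' : 0 < c' := Two.pos_relIndex _ _
  have pn : 0 < n := Two.pos_relIndex _ _
  have pc : 0 < c := Two.pos_relIndex _ _
  have q1 := Two.pos_relIndex (C ⊔ W₁) (C ⊔ W₁ ⊔ U)
  have q2 := Two.pos_relIndex (C ⊔ U) CB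
  -- equality in `d1`
  have r1 : (C ⊔ W₁ ⊔ U).relIndex W = a := by
    refine le_antisymm ?_ i2
    have h1 : C.relIndex (C ⊔ W₁) * ((C ⊔ W₁).relIndex (C ⊔ W₁ ⊔ U) * (C ⊔ W₁ ⊔ U).relIndex W) ≤ c * a := by
      rw [← d1, ← e1]; exact up
    have h2 : c * (C ⊔ W₁ ⊔ U).relIndex W ≤ c * a := by
      refine le_trans (Nat.mul_le_mul i3 ?_) h1
      exact Nat.le_mul_of_pos_left _ q1
    exact Nat.le_of_mul_le_mul_left h2 pc
  have h0 : C.relIndex (C ⊔ U) * ((C ⊔ U).relIndex CB * (CB.relIndex (CB ⊔ W₁) * (CB ⊔ W₁).relIndex W)) ≤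
      n * (c' * b) := by
    rw [← d2, mul_comm n, ← e3, ← e2]; exact up
  have r2 : (CB ⊔ W₁).relIndex W = b := by
    refine le_antisymm ?_ i4
    have h2 : n * (c' * (CB ⊔ W₁).relIndex W) ≤ n * (c' * b) := by
      refine le_trans (Nat.mul_le_mul i6 ?_) h0
      exact (Nat.mul_le_mul i5 le_rfl).trans (Nat.le_mul_of_pos_left _ q2)
    exact Nat.le_of_mul_le_mul_left (Nat.le_of_mul_le_mul_left h2 pn) pc'
  have r3 : (C ⊔ U).relIndex CB = 1 := by
    refine le_antisymm ?_ q2
    have h2 : (n * (c' * b)) * (C ⊔ U).relIndex CB ≤ (n * (c' * b)) * 1 := by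
      rw [mul_one]
      calc n * (c' * b) * (C ⊔ U).relIndex CB = n * ((C ⊔ U).relIndex CB * (c' * b)) := by ring
        _ ≤ _ := Nat.mul_le_mul i6 (Nat.mul_le_mul le_rfl (Nat.mul_le_mul i5 i4))
        _ ≤ _ := h0
    exact Nat.le_of_mul_le_mul_left h2 (Nat.mul_pos pn (Nat.mul_pos pc' pb))
  have r4 : CB = C ⊔ U := le_antisymm (relIndex_eq_one.1 r3) (sup_le hCCB hUCB)
  have r5 : a = b := by
    rw [← r1, ← r2, r4, sup_assoc, sup_comm W₁ U, ← sup_assoc]
  -- the end
  have h1 : c' * x * a = c' * a * n := by rw [← e4, ← e1, e2, e3, ← r5]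
  have h2 : x = n := by
    have h3 : (c' * a) * x = (c' * a) * n := by rw [← h1]; ring
    exact Nat.eq_of_mul_eq_mul_left (Nat.mul_pos pc' pa) h3
  omega

end KS

end Cfsg.Agent.Omega.OM.FourF
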