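import Cfsg.Agent.Omega.OM.YThm.Two
import Cfsg.Agent.Omega.OM.YThm.End
import Cfsg.Agent.Omega.OM.YThm.Min

/-!
# THEOREM 4F (#20067), (1): the uniserial case, abstractly

`H` acts on the elementary abelian 2-group `M`; `YS0 𝒜 S (fun _ => Z) Z` (THEOREM Y with one component `Z` of order 4,
`u ∈ Z` fixed by `H`); `Z ≤ V`, `|V| = 16`, `S` normalises `V`; `Q` a normal 2-subgroup of `H` such that every `Q`-invariant
subgroup of `V` of order `> 2` contains `Z`. Then `H` fixes `Z`:  `US.main`.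
-/

set_option autoImplicit false

namespace Cfsg.Agent.Omega.OM.FourF

open Subgroup Cfsg.Agent.ZN Cfsg.Agent.ZN.ChoiceBase Cfsg.Agent.ZN.ChoiceSit
open Cfsg.Agent.Omega.OM.YThm Cfsg.Agent.Omega.OM.YThm.EndC
open scoped Pointwise

universe u

/-- the situation of (1) -/
structure US {H : Type u} [Group H] {M : Type*} [AddCommGroup M] [DistribMulAction H M] (𝒜 : Set (Subgroup H))
    (S Q : Subgroup H) (Z V : AddSubgroup M) (u : M) : Prop extends YS0 𝒜 S (fun _ : Unit => Z) Z where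
  uZ : u ∈ Z
  u0 : u ≠ 0
  uH : ∀ g : H, g • u = u
  cardZ : Nat.card Z = 4
  cardV : Nat.card V = 16
  SV : ∀ s ∈ S, s • V = V
  Q2 : IsPGroup 2 Q
  Qn : ∀ g : H, cj g Q = Q
  /-- `V` is uniserial for `Q` -/
  ser : ∀ X : AddSubgroup M, X ≤ V → (∀ q ∈ Q, ∀ x ∈ X, q • x ∈ X) → 2 < Nat.card X → Z ≤ X
  el4 : ∀ E : Subgroup H, E ≤ S → El M E → Nat.card E ≤ 4 * Nat.card (ct E V)
  el4' : ∀ E : Subgroup H, E ≤ S → El M E → Nat.card E = 4 * Nat.card (ct E V) →
    ∀ X : AddSubgroup M, (∀ e ∈ E, ∀ v ∈ V, e • v - v ∈ X) → Z ≤ X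

/-- In a group of order 4. -/
theorem diff_four {M : Type*} [AddCommGroup M] [Finite M] (two : ∀ x : M, x + x = 0) {Z : AddSubgroup M}
    (hZ : Nat.card Z = 4) {u z w : M} (hu : u ∈ Z) (hz : z ∈ Z) (hw : w ∈ Z) (u0 : u ≠ 0) (z0 : z ≠ 0) (zu : z ≠ u)
    (w0 : w ≠ 0) (wu : w ≠ u) : w = z ∨ w = z + u := by
  classical
  by_contra hcon
  push Not at hcon
  obtain ⟨h1, h2⟩ := hcon
  have : Fintype Z := Fintype.ofFinite Z
  have hzu0 : z + u ≠ 0 := fun h => zu (by
    have := congrArg (· + u) h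
    simpa [add_assoc, two] using this)
  have hzuu : z + u ≠ u := fun h => z0 (by simpa using h)
  have hzuz : z + u ≠ z := fun h => u0 (by simpa using h)
  let s : Finset Z := {⟨0, zero_mem _⟩, ⟨u, hu⟩, ⟨z, hz⟩, ⟨z + u, add_mem hz hu⟩, ⟨w, hw⟩}
  have hs : s.card = 5 := by
    simp only [s]
    rw [Finset.card_insert_of_notMem, Finset.card_insert_of_notMem, Finset.card_insert_of_notMem,
      Finset.card_insert_of_notMem, Finset.card_singleton]
    all_goals
      simp only [Finset.mem_insert, Finset.mem_singleton, Subtype.mk.injEq, not_or]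
    · exact h2.symm
    · exact ⟨hzuz.symm, h1.symm⟩
    · exact ⟨zu.symm, hzuu.symm, wu.symm⟩
    · exact ⟨u0.symm, z0.symm, hzu0.symm, w0.symm⟩
  have h3 : s.card ≤ Fintype.card Z := Finset.card_le_univ s
  rw [← Nat.card_eq_fintype_card, hZ, hs] at h3
  omega

namespace US

variable {H : Type u} [Group H] [Finite H] {M : Type*} [AddCommGroup M] [Finite M] [DistribMulAction H M]
  {𝒜 : Set (Subgroup H)} {S Q : Subgroup H} {Z V : AddSubgroup M} {u : M}

include H in
omit [Finite M] in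
theorem Q_le (h : US 𝒜 S Q Z V u) (c : H) : Q ≤ cj c S := by
  obtain ⟨d, hd⟩ := Min.exists_cjS h.toYS0 h.Q2
  have h1 := cj_mono (c * d⁻¹) hd
  rw [h.Qn, cj_cj] at h1
  have h2 : c * d⁻¹ * d = c := by group
  rwa [h2] at h1

omit [Finite H] in
theorem card_eq [Finite H] (h : US 𝒜 S Q Z V u) {A J₀ L : Subgroup H} {Z₁ : AddSubgroup M}
    (d : LD 𝒜 S Z A J₀ L Z₁) : Nat.card A = 2 * Nat.card (kA A L Z₁) := by
  by_contra hne
  obtain ⟨g, hg⟩ := Two.exists_smul_eq h.toYS0 d
  have huZ : u ∈ Z₁ := by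
    rw [← hg, mem_smul, h.uH]
    exact h.uZ
  have huR : u ∈ fx Z₁ L := ⟨huZ, fun l _ => h.uH l⟩
  have hZ₁ : Nat.card Z₁ = 4 := by rw [← hg, card_smul, h.cardZ]
  have hle : kA A L Z₁ ≤ A := kA_le _ _ _
  have h1 : Nat.card (kA A L Z₁) * (kA A L Z₁).relIndex A = Nat.card A := by
    rw [← Subgroup.relIndex_bot_left, ← Subgroup.relIndex_bot_left,
      Subgroup.relIndex_mul_relIndex _ _ _ bot_le hle]
  obtain ⟨n, hn⟩ : ∃ n, (kA A L Z₁).relIndex A = 2 ^ n := (h.el A d.mem).pg.index _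
  rw [hn] at h1
  rcases n with _ | _ | n
  · rw [pow_zero, mul_one] at h1
    exact d.not_le_kA (Subgroup.eq_of_le_of_card_ge hle h1.ge).ge
  · apply hne
    rw [← h1]
    ring
  · have h4 : 4 * Nat.card (kA A L Z₁) ≤ Nat.card A := by
      rw [← h1, pow_add, mul_comm 4]
      refine Nat.mul_le_mul_left _ ?_
      have : 1 ≤ 2 ^ n := Nat.one_le_two_pow
      omega
    -- all of `Z₁` is fixed by `L`
    have key : ∀ z ∈ Z₁, z ∈ fx Z₁ L := fun z hz => by
      refine Sum.sum_mem h.two (h.el A d.mem) d (fun a ha x hx hx' h5 => d.ti ha hx hx' h5) h4 hz fun l hl hlZ => ?_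
      by_cases hz0 : z = 0
      · rw [hz0, smul_zero, sub_zero]; exact zero_mem _
      by_cases hzu : z = u
      · rw [hzu, h.uH, sub_self]; exact zero_mem _
      have hlz : l • z ∈ Z₁ := by
        rw [← hlZ]
        exact smul_mem.2 hz
      have hlz0 : l • z ≠ 0 := fun h5 => hz0 (by
        have := congrArg (l⁻¹ • ·) h5
        simpa using this)
      have hlzu : l • z ≠ u := fun h5 => hzu (by
        have := congrArg (l⁻¹ • ·) h5
        simpa [h.uH] using this)
      rcases diff_four h.two hZ₁ huZ hz hlz h.u0 hz0 hzu hlz0 hlzu with h5 | h5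
      · rw [h5, sub_self]; exact zero_mem _
      · rw [h5, add_sub_cancel_left]; exact huR
    obtain ⟨x, hx, hx'⟩ := d.ne
    apply hx'
    exact Min.smul_eq_of_fix fun z hz => (key z hz).2 x hx

/-- **(1)** -/
theorem main (h : US 𝒜 S Q Z V u) (g : H) : g • Z = Z := by
  by_contra hg
  obtain ⟨A, J₀, L, Z₁, d⟩ := h.toYS0.exists_ld ⟨g, hg⟩
  have hα := h.card_eq d
  obtain ⟨g₀, hg₀⟩ := Two.exists_smul_eq h.toYS0 d
  have elA := h.el A d.mem
  set K := kA A L Z₁ with hK
  have hKA : K ≤ A := kA_le _ _ _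
  have elK : El M K := El.mono elA hKA
  obtain ⟨x, hx, hx'⟩ := d.ne
  obtain ⟨a, ha, haK⟩ : ∃ a ∈ A, a ∉ K := by
    by_contra hcon
    push Not at hcon
    exact d.not_le_kA hcon
  have hap : a • x • Z₁ ≠ x • Z₁ := fun h1 => haK (d.ti ha hx hx' h1)
  set p : AddSubgroup M := x • Z₁ with hp
  have hpZ : p = (x * g₀) • Z := by rw [hp, ← hg₀, mul_smul]
  -- the Sylow group `S^y ≥ K Q` of the stabiliser of `p`
  obtain ⟨y, hyp, hKy⟩ : ∃ y : H, y • Z = p ∧ K ≤ cj y S := by
    let B : Subgroup H := MulAction.stabilizer H p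
    have hcB : ∀ c : H, c • Z = p → cj c S ≤ B := by
      intro c hc s hs
      have h1 := Min.fixS h.toYS0 (mem_cj.1 hs)
      rw [MulAction.mem_stabilizer_iff, ← hc]
      calc s • c • Z = c • (c⁻¹ * s * c) • Z := by rw [← mul_smul, ← mul_smul]; congr 1; group
        _ = c • Z := by rw [h1]
    have hsy : Syl (cj (x * g₀) S) B := by
      refine ⟨hcB _ hpZ.symm, isPGroup_cj _ h.syl.2.1, fun R _ hR hle => ?_⟩
      have h1 := h.syl.2.2 (cj (x * g₀)⁻¹ R) le_top (isPGroup_cj _ hR) (by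
        rw [← cj_le_iff]; exact hle)
      rw [← h1, cj_cj_inv]
    have hKB : K ≤ B := fun k hk => MulAction.mem_stabilizer_iff.2 (hk.2 x hx)
    obtain ⟨T', hT', hKT⟩ := exists_syl elK.pg hKB
    obtain ⟨s, hs, hsT⟩ := syl_conj hsy hT'
    refine ⟨s * (x * g₀), ?_, ?_⟩
    · rw [mul_smul, ← hpZ]
      exact MulAction.mem_stabilizer_iff.1 hs
    · rw [← cj_cj, hsT]
      exact hKT
  set V' : AddSubgroup M := y • V with hV'
  have hSV : ∀ c : H, ∀ s ∈ cj c S, s • c • V = c • V := by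
    intro c s hs
    calc s • c • V = c • (c⁻¹ * s * c) • V := by rw [← mul_smul, ← mul_smul]; congr 1; group
      _ = c • V := by rw [h.SV _ (mem_cj.1 hs)]
  have hSZ : ∀ c : H, ∀ s ∈ cj c S, s • c • Z = c • Z := by
    intro c s hs
    calc s • c • Z = c • (c⁻¹ * s * c) • Z := by rw [← mul_smul, ← mul_smul]; congr 1; group
      _ = c • Z := by rw [Min.fixS h.toYS0 (mem_cj.1 hs)]
  set I : AddSubgroup M := V' ⊓ a • V' with hI
  have hIQ : ∀ q ∈ Q, ∀ w ∈ I, q • w ∈ I := by
    intro q hq w hw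
    refine ⟨?_, ?_⟩
    · have h1 := hSV y q (h.Q_le y hq)
      have h2 : q • w ∈ q • y • V := smul_mem.2 hw.1
      rwa [h1] at h2
    · have h1 := hSV (a * y) q (h.Q_le _ hq)
      rw [mul_smul] at h1
      have h2 : q • w ∈ q • a • y • V := smul_mem.2 hw.2
      rwa [h1] at h2
  -- `uni` for `c • V`
  have uni : ∀ (c : H) (X : AddSubgroup M), X ≤ c • V → (∀ q ∈ Q, ∀ w ∈ X, q • w ∈ X) → 2 < Nat.card X →
      c • Z ≤ X := by
    intro c X hX hQX h2
    have h1 : Z ≤ c⁻¹ • X := by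
      refine h.ser _ ?_ ?_ (by rwa [card_smul])
      · intro w hw
        rw [mem_smul, inv_inv] at hw
        exact smul_mem.1 (hX hw)
      · intro q hq w hw
        rw [mem_smul, inv_inv] at hw ⊢
        have h3 : c * q * c⁻¹ ∈ Q := by
          rw [← h.Qn c]
          exact ⟨q, hq, rfl⟩
        have h4 := hQX _ h3 _ hw
        rw [← mul_smul] at h4 ⊢
        have h5 : c * q * c⁻¹ * c = c * q := by group
        rwa [h5] at h4
    intro w hw
    rw [mem_smul] at hw
    have h2 := h1 hw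
    rwa [mem_smul, inv_inv, smul_inv_smul] at h2
  have hcard : Nat.card I ≤ 2 := by
    by_contra hc
    push Not at hc
    have h1 : a • p ≤ I := by
      rw [← hyp, ← mul_smul]
      refine uni (a * y) I ?_ hIQ hc
      rw [mul_smul]
      exact inf_le_right
    have h2 : y • Z ≤ a • p := by
      refine uni y (a • p) (h1.trans inf_le_left) ?_ ?_
      · intro q hq w hw
        have h3 := hSZ (a * y) q (h.Q_le _ hq)
        rw [mul_smul, hyp] at h3
        have h4 : q • w ∈ q • a • p := smul_mem.2 hw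
        rwa [h3] at h4
      · rw [card_smul, ← hyp, card_smul, h.cardZ]
        norm_num
    rw [hyp] at h2
    have h3 : Nat.card (a • p : AddSubgroup M) ≤ Nat.card p := by rw [card_smul]
    exact hap (AddSubgroup.eq_of_le_of_card_ge h2 h3).symm
  -- the order count on `Y = ⟨V'^A⟩`
  set Y : AddSubgroup M := orb A V' with hY
  have hV'Y : V' ≤ Y := le_orb A V'
  have hYA : ∀ b ∈ A, ∀ w ∈ Y, b • w ∈ Y := fun b hb w hw => orb_smul hb hw
  have hff := h.ff A d.mem Y hYA
  have hct : ct K V' ≤ ct A Y := by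
    rintro k ⟨hk, hkV⟩
    refine ⟨hKA hk, fun w hw => ?_⟩
    let N : AddSubgroup M :=
      { carrier := {w | k • w = w}
        zero_mem' := smul_zero k
        add_mem' := fun {v w} hv hw => by
          change k • (v + w) = v + w
          rw [smul_add, show k • v = v from hv, show k • w = w from hw]
        neg_mem' := fun {v} hv => by
          change k • (-v) = -v
          rw [smul_neg, show k • v = v from hv] }
    have h1 : Y ≤ N := orb_le fun b hb w hw => by
      change k • w = w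
      have h2 := hkV _ (mem_smul.1 hw)
      have h3 := elA.comm k (hKA hk) b hb (b⁻¹ • w)
      rw [h2, smul_inv_smul] at h3
      exact h3
    exact h1 hw
  have hc1 : Nat.card (ct K V') ≤ Nat.card (ct A Y) := Subgroup.card_le_of_le hct
  -- `el4` for `K`, `V'`
  set K' : Subgroup H := cj y⁻¹ K with hK'
  have hK'S : K' ≤ S := by
    have h1 := cj_mono y⁻¹ hKy
    rwa [cj_inv_cj] at h1
  have elK' : El M K' := El.cj elK y⁻¹
  have hctK : Nat.card (ct K V') = Nat.card (ct K' V) := by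
    have h1 := ct_cj y V K'
    rw [hK', cj_cj_inv] at h1
    rw [hV', h1, card_cj]
  have hcK : Nat.card K = Nat.card K' := (card_cj _ _).symm
  have h4 : Nat.card K ≤ 4 * Nat.card (ct K V') := by
    rw [hctK, hcK]
    exact h.el4 K' hK'S elK'
  set f := Nat.card (fx Y A) with hf
  have pf : 0 < f := Nat.card_pos
  have pc : 0 < Nat.card (ct A Y) := Nat.card_pos
  have hY8 : Nat.card Y ≤ 8 * f := by
    refine Nat.le_of_mul_le_mul_right ?_ pc
    calc Nat.card Y * Nat.card (ct A Y) ≤ Nat.card A * f := hff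
      _ = 2 * Nat.card K * f := by rw [hα]
      _ ≤ 2 * (4 * Nat.card (ct A Y)) * f := by
          refine Nat.mul_le_mul_right _ (Nat.mul_le_mul_left _ (h4.trans (Nat.mul_le_mul_left _ hc1)))
      _ = 8 * f * Nat.card (ct A Y) := by ring
  have hcV' : Nat.card V' = 16 := by rw [hV', card_smul, h.cardV]
  have hfI : Nat.card (V' ⊓ fx Y A : AddSubgroup M) ≤ 2 := by
    refine le_trans ?_ hcard
    refine Nat.card_le_card_of_injective (AddSubgroup.inclusion (?_ : V' ⊓ fx Y A ≤ I))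
      (AddSubgroup.inclusion_injective _)
    intro w hw
    refine ⟨hw.1, ?_⟩
    have h1 : a • w = w := hw.2.2 a ha
    rw [← h1]
    exact smul_mem.2 hw.1
  have hsup : V' ⊔ fx Y A ≤ Y := sup_le hV'Y (fx_le _ _)
  have h5 : 16 * f ≤ Nat.card (V' ⊔ fx Y A : AddSubgroup M) * 2 := by
    rw [← hcV']
    exact (card_mul_le le_sup_left le_sup_right).trans (Nat.mul_le_mul_left _ hfI)
  have hle : Nat.card (V' ⊔ fx Y A : AddSubgroup M) ≤ Nat.card Y :=
    Nat.card_le_card_of_injective (AddSubgroup.inclusion hsup) (AddSubgroup.inclusion_injective _)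
  have hYeq : V' ⊔ fx Y A = Y := AddSubgroup.eq_of_le_of_card_ge hsup (by omega)
  have hYc : Nat.card Y = 8 * f := by omega
  have hK4 : Nat.card K = 4 * Nat.card (ct K V') := by
    refine le_antisymm h4 ((Nat.mul_le_mul_left _ hc1).trans ?_)
    have h6 : 8 * f * Nat.card (ct A Y) ≤ 2 * Nat.card K * f := by rw [← hYc, ← hα]; exact hff
    have h7 : (2 * f) * (4 * Nat.card (ct A Y)) ≤ (2 * f) * Nat.card K := by
      calc _ = 8 * f * Nat.card (ct A Y) := by ring
        _ ≤ _ := h6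
        _ = _ := by ring
    exact Nat.le_of_mul_le_mul_left h7 (by omega)
  -- `[V', K] ≤ I`
  have hKI : ∀ e ∈ K, ∀ v ∈ V', e • v - v ∈ I := by
    intro e he v hv
    have hKV' : ∀ w ∈ V', e • w - w ∈ V' := fun w hw => by
      refine sub_mem ?_ hw
      have h1 := hSV y e (hKy he)
      have h2 : e • w ∈ e • y • V := smul_mem.2 hw
      rwa [h1] at h2
    have hw : a • v ∈ Y := hYA a ha v (hV'Y hv)
    rw [← hYeq, AddSubgroup.mem_sup] at hw
    obtain ⟨v', hv', w, hw, e1⟩ := hw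
    have e2 : e • a • v - a • v = e • v' - v' := by
      rw [← e1, smul_add, hw.2 e (hKA he)]
      abel
    have e3 : e • a • v - a • v = a • (e • v - v) := by
      rw [elA.comm e (hKA he) a ha, smul_sub]
    have h1 : a • (e • v - v) ∈ V' := by
      rw [← e3, e2]
      exact hKV' v' hv'
    refine ⟨hKV' v hv, ?_⟩
    change e • v - v ∈ a • V'
    rw [mem_smul]
    have h2 : a⁻¹ • (e • v - v) = a • (e • v - v) := by
      rw [inv_smul_eq_iff, elA.sq a ha]
    rw [h2]
    exact h1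
  have h6 : Z ≤ y⁻¹ • I := by
    refine h.el4' K' hK'S elK' (by rw [← hcK, hK4, hctK]) _ fun e he v hv => ?_
    rw [mem_smul, inv_inv]
    have h7 : y * e * y⁻¹ ∈ K := by
      have := mem_cj.1 he
      rwa [inv_inv] at this
    have h8 := hKI _ h7 (y • v) (smul_mem.2 hv)
    have h9 : y • (e • v - v) = (y * e * y⁻¹) • y • v - y • v := by
      rw [smul_sub, ← mul_smul, ← mul_smul]
      congr 2
      group
    rw [h9]
    exact h8
  have h7 : Nat.card Z ≤ Nat.card I := by
    have h8 := Nat.card_le_card_of_injective (AddSubgroup.inclusion h6) (AddSubgroup.inclusion_injective _)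
    rwa [card_smul] at h8
  rw [h.cardZ] at h7
  omega

end US

end Cfsg.Agent.Omega.OM.FourF
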