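import Cfsg.Agent.Omega.OM.FourF.TypeK
import Cfsg.Agent.Omega.OM.FourF.Uni
import Cfsg.Agent.Omega.OM.FourF.Fam

/-!
# THEOREM 4F (#20067), (1): the uniserial case, for one index

If some `c ∈ O = O₂(F)` acts as `Sem l` with `l` not in the prime field, then `F` normalises `Z`:  `One.F_le_Z`.
-/

set_option autoImplicit false

namespace Cfsg.Agent.Omega.OM.FourF

open Subgroup Cfsg Cfsg.Agent.ZN Cfsg.Agent.ZN.ChoiceBase Cfsg.Agent.ZN.ChoiceSit Cfsg.Agent.Omega.NoFF.Basic
  Cfsg.Agent.Omega.OmThm Cfsg.Agent.Omega.OM.Swap Cfsg.Agent.Omega.OM.YThm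
open Cfsg.Agent.Omega.OM.YThm.MW (vl vl_mem vl_mk vl_add vl_zero vl_inj vl_smul vl_sub ad mem_ad gp mem_gp vl_mem_gp upc
  mem_upc coe_mem_upc smul_ad_eq_iff smul_eq_iff)
open Cfsg.Agent.MinSimple.MinParabolic (IsMinPar)
open scoped Pointwise commutatorElement

universe u

variable {K : Type} [Field K] {G : Type u} [Group G] {F T U Z : Subgroup G} {u : G} {e : G → K × K}

namespace Crd

section counts

variable (h : Crd K T U Z u e) {B : Subgroup G} (hBT : B ≤ T)

include h hBT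

/-- two elements of the same type -/
theorem same {a b : G} (ha : a ∈ B) (hb : b ∈ B) {l m : K} (hl : Lin e U l a ∧ Lin e U m b ∨ Sem e U l a ∧ Sem e U m b)
    (hlm : l = m) : a⁻¹ * b ∈ centralizer (U : Set G) := by
  subst hlm
  rcases hl with ⟨h1, h2⟩ | ⟨h1, h2⟩
  · exact h.LL_cent (hBT ha) (hBT hb) h1 h2
  · exact h.SS_cent (hBT ha) (hBT hb) h1 h2

theorem le_four (h0 : ∀ t ∈ B, ∀ l, Lin e U l t ∨ Sem e U l t → l ^ 2 = l) :
    (centralizer (U : Set G)).relIndex B ≤ 4 := by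
  classical
  have h01 : ∀ b ∈ B, ∀ l, Lin e U l b ∨ Sem e U l b → l = 0 ∨ l = 1 := fun b hb l hl => eq_of_sq_eq l (h0 b hb l hl)
  have c1 := relIndex_le_card (H := centralizer (U : Set G)) (L := B)
    (fun t => ((decide (∃ l, Sem e U l t), decide (Lin e U 0 t ∨ Sem e U 0 t)) : Bool × Bool)) (fun a ha b hb hab => by
      obtain ⟨e1, e2⟩ := Prod.ext_iff.1 hab
      simp only [decide_eq_decide] at e1 e2
      obtain ⟨l, hl⟩ := h.act a (hBT ha)
      obtain ⟨m, hm⟩ := h.act b (hBT hb)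
      rcases hl with hl | hl <;> rcases hm with hm | hm
      · refine h.same hBT ha hb (Or.inl ⟨hl, hm⟩) ?_
        rcases h01 a ha l (Or.inl hl) with h4 | h4 <;> rcases h01 b hb m (Or.inl hm) with h5 | h5
        · rw [h4, h5]
        · rcases e2.1 (Or.inl (h4 ▸ hl)) with h6 | h6
          · exact absurd ((h.uniq_L hm h6).symm.trans h5) (by simp)
          · exact (h.not_LS hm h6).elim
        · rcases e2.2 (Or.inl (h5 ▸ hm)) with h6 | h6
          · exact absurd ((h.uniq_L hl h6).symm.trans h4) (by simp)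
          · exact (h.not_LS hl h6).elim
        · rw [h4, h5]
      · obtain ⟨n, hn⟩ := e1.2 ⟨m, hm⟩
        exact (h.not_LS hl hn).elim
      · obtain ⟨n, hn⟩ := e1.1 ⟨l, hl⟩
        exact (h.not_LS hm hn).elim
      · refine h.same hBT ha hb (Or.inr ⟨hl, hm⟩) ?_
        rcases h01 a ha l (Or.inr hl) with h4 | h4 <;> rcases h01 b hb m (Or.inr hm) with h5 | h5
        · rw [h4, h5]
        · rcases e2.1 (Or.inr (h4 ▸ hl)) with h6 | h6
          · exact (h.not_LS h6 hm).elim
          · exact absurd ((h.uniq_S hm h6).symm.trans h5) (by simp)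
        · rcases e2.2 (Or.inr (h5 ▸ hm)) with h6 | h6
          · exact (h.not_LS h6 hl).elim
          · exact absurd ((h.uniq_S hl h6).symm.trans h4) (by simp)
        · rw [h4, h5])
  simpa using c1

theorem le_two (h3 : ∀ c ∈ B, ∀ m, m ≠ 0 → ¬ Lin e U m c) : (centralizer (U : Set G)).relIndex B ≤ 2 := by
  classical
  have := relIndex_le_card (H := centralizer (U : Set G)) (L := B)
    (fun t => decide (∃ l, Sem e U l t)) (fun a ha b hb hab => by
    simp only [decide_eq_decide] at hab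
    have hab' : a⁻¹ * b ∈ B := mul_mem (inv_mem ha) hb
    obtain ⟨n, hn⟩ := h.act _ (hBT hab')
    rcases hn with hn | hn
    · by_cases hn0 : n = 0
      · rw [hn0] at hn
        exact (h.lin_zero (hBT hab')).1 hn
      · exact (h3 _ hab' n hn0 hn).elim
    · exfalso
      have k0 : a * (a⁻¹ * b) = b := by group
      by_cases hS : ∃ l, Sem e U l a
      · obtain ⟨l₁, hl₁⟩ := hS
        obtain ⟨l₂, hl₂⟩ := hab.1 ⟨l₁, hl₁⟩
        have k1 := h.mul_SS hl₁ hn (hBT hab')
        rw [k0] at k1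
        exact h.not_LS k1 hl₂
      · obtain ⟨l₁, hl₁⟩ := h.act a (hBT ha)
        rcases hl₁ with hl₁ | hl₁
        · have k1 := h.mul_LS hl₁ hn (hBT hab')
          rw [k0] at k1
          exact hS (hab.2 ⟨_, k1⟩)
        · exact hS ⟨_, hl₁⟩)
  simpa using this

/-- if all elements are linear -/
theorem le_card (h2 : ∀ a ∈ B, ∃ l, Lin e U l a) : (centralizer (U : Set G)).relIndex B ≤ 4 := by
  classical
  have := finite_of_card h.cardK
  have h1 := relIndex_le_card (H := centralizer (U : Set G)) (L := B)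
    (fun t => if h' : ∃ l, Lin e U l t then h'.choose else 0) (fun a ha b hb hab => by
    have k1 := (h2 a ha).choose_spec
    have k2 := (h2 b hb).choose_spec
    simp only [dif_pos (h2 a ha), dif_pos (h2 b hb)] at hab
    rw [hab] at k1
    exact h.LL_cent (hBT ha) (hBT hb) k1 k2)
  rwa [h.cardK] at h1

/-- if the squares act trivially -/
theorem el_four (h2 : ∀ t ∈ B, t * t ∈ centralizer (U : Set G)) : (centralizer (U : Set G)).relIndex B ≤ 4 := by
  by_cases hs : ∃ s ∈ B, ∃ l, Sem e U l s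
  · have k1 : ∀ s ∈ B, ∀ l, Sem e U l s → l ^ 2 = l := by
      intro s hs l hl
      have h3 := h.mul_SS hl hl (hBT hs)
      have h4 := (h.lin_zero (mul_mem (hBT hs) (hBT hs))).2 (h2 s hs)
      have h5 := h.uniq_L h3 h4
      have := two_eq h.cardK l
      linear_combination h5 - this
    obtain ⟨s, hs, l, hl⟩ := hs
    refine h.le_four hBT fun t ht m hm => ?_
    rcases hm with hm | hm
    · have h3 := k1 _ (mul_mem ht hs) _ (h.mul_LS hm hl (hBT hs))
      rw [sq_add h.cardK, k1 s hs l hl] at h3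
      linear_combination h3
    · exact k1 t ht m hm
  · push Not at hs
    refine h.le_card hBT fun a ha => ?_
    obtain ⟨l, hl⟩ := h.act a (hBT ha)
    exact ⟨l, hl.resolve_right (hs a ha l)⟩

end counts

section shapes

variable (h : Crd K T U Z u e)

include h

/-- `Z = [U, a]` -/
theorem exists_comm {a : G} {m : K} (ha : a ∈ T) (hm : Lin e U m a) (hm0 : m ≠ 0) {z : G} (hz : z ∈ Z) :
    ∃ v ∈ U, a * v * a⁻¹ * v⁻¹ = z := by
  obtain ⟨v, hv, e1⟩ := h.surj (0, m⁻¹ * (e z).1)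
  refine ⟨v, hv, ?_⟩
  have hcn := h.cn ha hv
  rw [h.inv_eq hv]
  refine h.eq_of (mul_mem hcn hv) (h.ZU hz) ?_
  rw [h.mul _ hcn v hv, hm v hv, e1]
  refine Prod.ext ?_ ?_
  · simp only [Prod.fst_add]
    rw [← mul_assoc, mul_inv_cancel₀ hm0]
    ring
  · simp only [Prod.snd_add]
    rw [(h.memZ z (h.ZU hz)).1 hz]
    exact two_eq h.cardK _

/-- the key of uniseriality -/
theorem Z_le {c : G} {l : K} (hcT : c ∈ T) (hc : Sem e U l c) {X : Subgroup G}
    (hX : ∀ x ∈ X, c * x * c⁻¹ ∈ X) {v : G} (hv : v ∈ X) (hvZ : v ∈ Z) (hne : (e v).1 ^ 2 ≠ (e v).1) : Z ≤ X := by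
  have hvU := h.ZU hvZ
  have hv2 := (h.memZ v hvU).1 hvZ
  have hcv := hX v hv
  have hcU := h.cn hcT hvU
  have e1 := hc v hvU
  rw [hv2] at e1
  have e2 : e (v * (c * v * c⁻¹)) = (1, 0) := by
    rw [h.mul _ hvU _ hcU, e1]
    refine Prod.ext ?_ ?_
    · simp only [Prod.fst_add]
      rcases tr_cases h.cardK (e v).1 with h3 | h3
      · exfalso
        apply hne
        have := two_eq h.cardK (e v).1
        linear_combination h3 - this
      · linear_combination h3
    · simp [hv2]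
  have hw : v * (c * v * c⁻¹) ∈ X := mul_mem hv hcv
  have hwU : v * (c * v * c⁻¹) ∈ U := mul_mem hvU hcU
  set w := v * (c * v * c⁻¹) with hwd
  intro z hz
  have hzU := h.ZU hz
  have hz2 := (h.memZ z hzU).1 hz
  have ev : e v = ((e v).1, 0) := Prod.ext rfl hv2
  rcases tr_cases h.cardK (e z).1 with h3 | h3
  · have h4 : (e z).1 ^ 2 = (e z).1 := by
      have := two_eq h.cardK (e z).1
      linear_combination h3 - this
    rcases eq_of_sq_eq _ h4 with h5 | h5
    · have : z = 1 := h.inj z hzU (Prod.ext h5 hz2)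
      rw [this]
      exact one_mem _
    · have : z = w := h.eq_of hzU hwU (by rw [e2]; exact Prod.ext h5 hz2)
      rw [this]
      exact hw
  · have h3' : (e v).1 ^ 2 + (e v).1 = 1 := by
      rcases tr_cases h.cardK (e v).1 with h4 | h4
      · exfalso
        apply hne
        have := two_eq h.cardK (e v).1
        linear_combination h4 - this
      · exact h4
    have h4 : ((e z).1 + (e v).1) ^ 2 = (e z).1 + (e v).1 := by
      rw [sq_add h.cardK]
      have a1 := two_eq h.cardK (1 : K)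
      have a2 := two_eq h.cardK (e z).1
      have a3 := two_eq h.cardK (e v).1
      linear_combination h3 + h3' - a2 - a3 + a1
    rcases eq_of_sq_eq _ h4 with h5 | h5
    · have : z = v := h.eq_of hzU hvU (by
        rw [ev]
        refine Prod.ext ?_ hz2
        have a3 := two_eq h.cardK (e v).1
        simp only
        linear_combination h5 - a3)
      rw [this]
      exact hv
    · have : z = v * w := h.eq_of hzU (mul_mem hvU hwU) (by
        rw [h.mul v hvU w hwU, e2, ev]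
        refine Prod.ext ?_ ?_
        · have a3 := two_eq h.cardK (e v).1
          simp only [Prod.fst_add]
          linear_combination h5 - a3
        · simp [hz2])
      rw [this]
      exact mul_mem hv hw

/-- **uniseriality** -/
theorem ser {c : G} {l : K} (hcT : c ∈ T) (hc : Sem e U l c) (hl : l ^ 2 ≠ l) {X : Subgroup G}
    (hXU : X ≤ U) (hX : ∀ x ∈ X, c * x * c⁻¹ ∈ X) (h2 : 2 < Nat.card X) : Z ≤ X := by
  classical
  by_cases hY : ∃ v ∈ X, (e v).2 ≠ 0
  · obtain ⟨v, hv, hy⟩ := hY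
    have hvU := hXU hv
    have hcv := hX v hv
    have hcU := h.cn hcT hvU
    have e1 := hc v hvU
    have e2 := hc _ hcU
    have hccv := hX _ hcv
    have hccU := h.cn hcT hcU
    rw [e1] at e2
    have hl1 : l ^ 2 + l = 1 := by
      rcases tr_cases h.cardK l with h4 | h4
      · exfalso
        apply hl
        have := two_eq h.cardK l
        linear_combination h4 - this
      · exact h4
    have a4 := pow_four h.cardK (e v).2
    have a5 := pow_four h.cardK (e v).1
    by_cases hy2 : (e v).2 ^ 2 = (e v).2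
    · have hy1 : (e v).2 = 1 := (eq_of_sq_eq _ hy2).resolve_left hy
      have e3 : e (v * (c * v * c⁻¹)) = ((e v).1 + (e v).1 ^ 2 + l, 0) := by
        rw [h.mul _ hvU _ hcU, e1, hy1]
        refine Prod.ext ?_ ?_
        · simp only [Prod.fst_add]
          ring
        · simp only [Prod.snd_add, hy1]
          have := two_eq h.cardK (1 : K)
          linear_combination this
      refine h.Z_le hcT hc hX (mul_mem hv hcv) ((h.memZ _ (mul_mem hvU hcU)).2 (by rw [e3])) ?_
      rw [e3]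
      simp only
      rw [sq_add h.cardK, sq_add h.cardK, sq_sq h.cardK]
      intro h5
      apply hl
      linear_combination h5
    · have e3 : e (v * (c * (c * v * c⁻¹) * c⁻¹)) = ((e v).2, 0) := by
        rw [h.mul _ hvU _ hccU, e2]
        refine Prod.ext ?_ ?_
        · simp only [Prod.fst_add]
          have b1 := two_eq h.cardK (e v).1
          have b2 := two_eq h.cardK ((e v).1 ^ 2 * (l * (e v).2 ^ 2))
          linear_combination b1 + b2 + a5 + (l ^ 2 + l) * a4 + (e v).2 * hl1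
        · simp only [Prod.snd_add]
          have b1 := two_eq h.cardK (e v).2
          linear_combination b1 + a4
      exact h.Z_le hcT hc hX (mul_mem hv hccv) ((h.memZ _ (mul_mem hvU hccU)).2 (by rw [e3])) (by rw [e3]; exact hy2)
  · push Not at hY
    by_contra hcon
    have h3 : ∀ v ∈ X, (e v).1 ^ 2 = (e v).1 := by
      intro v hv
      by_contra hne
      exact hcon (h.Z_le hcT hc hX hv ((h.memZ v (hXU hv)).2 (hY v hv)) hne)
    have h4 : Nat.card X ≤ Nat.card Bool := by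
      refine Nat.card_le_card_of_injective (fun v : X => decide ((e v).1 = 0)) fun v w hvw => ?_
      simp only [decide_eq_decide] at hvw
      refine Subtype.ext (h.eq_of (hXU v.2) (hXU w.2) (Prod.ext ?_ ?_))
      · rcases eq_of_sq_eq _ (h3 v v.2) with h5 | h5 <;> rcases eq_of_sq_eq _ (h3 w w.2) with h6 | h6
        · rw [h5, h6]
        · exact absurd ((hvw.1 h5).symm.trans h6) (by simp)
        · exact absurd ((hvw.2 h6).symm.trans h5) (by simp)
        · rw [h5, h6]
      · rw [hY v v.2, hY w w.2]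
    simp at h4
    omega

theorem card_U : Nat.card U = 16 := by
  have h1 : Nat.card U = Nat.card (K × K) := by
    refine Nat.card_congr (Equiv.ofBijective (fun v : U => e v) ⟨fun v w hvw => ?_, fun x => ?_⟩)
    · exact Subtype.ext (h.eq_of v.2 w.2 hvw)
    · obtain ⟨v, hv, hx⟩ := h.surj x
      exact ⟨⟨v, hv⟩, hx⟩
  rw [h1, Nat.card_prod, h.cardK]

theorem card_Z : Nat.card Z = 4 := by
  rw [← h.cardK]
  refine Nat.card_congr (Equiv.ofBijective (fun v : Z => (e v).1) ⟨fun v w hvw => ?_, fun x => ?_⟩)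
  · refine Subtype.ext (h.eq_of (h.ZU v.2) (h.ZU w.2) (Prod.ext hvw ?_))
    rw [(h.memZ _ (h.ZU v.2)).1 v.2, (h.memZ _ (h.ZU w.2)).1 w.2]
  · obtain ⟨v, hv, hx⟩ := h.surj (x, 0)
    exact ⟨⟨v, (h.memZ v hv).2 (by rw [hx])⟩, by simp [hx]⟩

theorem u_ne : u ≠ 1 := by
  intro h1
  have h2 := h.eu
  rw [h1, h.e_one] at h2
  have := congrArg Prod.fst h2
  simp at this

theorem u_mem : u ∈ Z := (h.memZ u h.uU).2 (by rw [h.eu])

end shapes

end Crd

namespace One

variable (h : One K F T U Z u e)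

include h

theorem wd : WD F (V U F) := ⟨XD.X_le_normalizer_W, elab_of h.comm h.sq⟩

theorem V_le_O : V U F ≤ o2 F := V_le fun p hp => by
  have h1 : cj p U ≤ cj p (o2 F) := cj_mono p h.UO
  rw [cj_o2_self hp] at h1
  exact h1

theorem V_le_F : V U F ≤ F := h.V_le_O.trans (ChoiceSit.o2_le F)

theorem U_le : U ≤ V U F := XD.U_le_W

theorem V_le_T [Finite G] : V U F ≤ T := h.V_le_O.trans h.O_le

/-- `Z` is fixed by a member of `𝒜(T)` -/
theorem A_cent {A : Subgroup G} (hA : A ∈ AA T) : A ≤ centralizer (Z : Set G) := by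
  rcases h.full A hA with h1 | ⟨h1, -⟩
  · exact h1.trans (centralizer_le h.ZU)
  · intro a ha
    obtain ⟨l, hl⟩ := h1 a ha
    rw [mem_centralizer_iff]
    intro z hz
    have hzU := h.ZU hz
    have h3 := hl z hzU
    rw [(h.memZ z hzU).1 hz] at h3
    have h4 := h.eq_of (h.cn (hA.2.1 ha) hzU) hzU (by
      rw [h3]
      refine Prod.ext ?_ ((h.memZ z hzU).1 hz).symm
      simp)
    rw [mul_inv_eq_iff_eq_mul] at h4
    exact h4.symm

/-- a conjugate of `T` which contains the members of `𝒜(T)` -/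
theorem det [Finite G] {g : G} (hg : g ∈ F) (h1 : ∀ A ∈ AA T, A ≤ cj g T) : cj g Z = Z := by
  have h2 : jj T ≤ cj g T := by
    rw [jj_eq]
    exact sSup_le h1
  have h3 : jj T ≤ jj (cj g T) := by
    rw [jj_eq T]
    refine sSup_le fun A hA => le_jj ⟨hA.1, h1 A hA, fun B hB hBT => ?_⟩
    have h4 := hA.2.2 (cj g⁻¹ B) (Cfsg.Agent.PLocal.ThompsonJ.isElementaryAbelian_map hB _) (by
      have := cj_mono g⁻¹ hBT
      rwa [cj_inv_cj] at this)
    rwa [card_cj] at h4
  rw [jj_cj] at h3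
  have h4 : jj T = cj g (jj T) := eq_of_le_of_card_ge h3 (by rw [card_cj])
  have h5 : g ∈ normalizer (jj T : Set G) := by
    rw [mem_normalizer_iff_map_conj_eq]
    exact h4.symm
  exact cj_eq_of_mem_normalizer (h.nJ ⟨hg, h5⟩)

theorem Z_le_V : Z ≤ V U F := h.ZU.trans h.U_le

/-- the index in terms of the module -/
theorem card_ct [Finite G] (E : Subgroup F) :
    Nat.card (ct E (ad h.wd U)) * (centralizer (U : Set G)).relIndex (upc E) = Nat.card E := by
  rw [← MW.card_upc (ct E (ad h.wd U)), MW.upc_ct h.U_le, ← MW.card_upc E, inf_comm, ← inf_relIndex_right]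
  exact card_mul_relIndex inf_le_right

theorem upc_T {E : Subgroup F} (hE : E ≤ T.subgroupOf F) : upc E ≤ T := by
  have := MW.upc_le_iff.2 hE
  rwa [MW.upc_subgroupOf h.syl.1] at this

theorem el_sq {E : Subgroup F} (hE : El (MW h.wd) E) : ∀ t ∈ upc E, t * t ∈ centralizer (U : Set G) := by
  intro t ht
  obtain ⟨htF, htE⟩ := mem_upc.1 ht
  rw [mem_centralizer_iff]
  intro v hv
  have h1 := congrArg MW.vl (hE.sq _ htE (MW.mk h.wd ⟨v, h.U_le hv⟩))
  rw [vl_smul, vl_smul, vl_mk] at h1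
  have h2 : t * (t * v * t⁻¹) * t⁻¹ = v := h1
  calc v * (t * t) = t * (t * v * t⁻¹) * t⁻¹ * (t * t) := by rw [h2]
    _ = t * t * v := by group

theorem us [Finite G] {c : G} (hcO : c ∈ o2 F) {l : K} (hc : Sem e U l c) (hl : l ^ 2 ≠ l) :
    US (Fam F (V U F)) (T.subgroupOf F) ((o2 F).subgroupOf F) (ad h.wd Z) (ad h.wd U)
      (MW.mk h.wd ⟨u, h.U_le h.uU⟩) where
  two x := vl_inj (by rw [vl_add, h.wd.sq (vl_mem x)]; rfl)
  cjA A hA g := Fam.cjA h.wd A hA g
  el A hA := Fam.el h.wd hA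
  ff A hA X hX := Fam.ff h.wd h.V_le_F hA X hX
  rep A hA X hX hne := Fam.rep h.wd h.V_le_F hA X hX hne
  syl := Fam.syl h.syl
  det g hg := by
    rw [smul_ad_eq_iff _ h.Z_le_V h.Z_le_V]
    refine h.det g.2 fun A hA => ?_
    have h1 := hg (A.subgroupOf F) (Fam.of_AA (AA_of_syl h.syl hA)) (subgroupOf_mono F hA.2.1)
    have h2 := MW.upc_le_iff.2 h1
    rwa [MW.upc_cj, MW.upc_subgroupOf (hA.2.1.trans h.syl.1), MW.upc_subgroupOf h.syl.1] at h2
  cen A hA hAS a ha z hz := by
    obtain ⟨A₀, k0, k1, k2⟩ := hA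
    have hA₀T : A₀ ≤ T := k2.trans (sup_le (h.upc_T hAS) h.V_le_T)
    have hA₀ : A₀ ∈ AA T := ⟨k0.1, hA₀T, fun B hB hBT => k0.2.2 B hB (hBT.trans h.syl.1)⟩
    obtain ⟨b, hb, h3⟩ := Fam.exists_eq h.wd k0 k1 ha
    apply vl_inj
    rw [vl_smul, h3 _ (vl_mem z)]
    have h4 := mem_centralizer_iff.1 (h.A_cent hA₀ hb) _ (mem_ad.1 hz)
    rw [← h4, mul_inv_cancel_right]
  ZiZ _ := le_rfl
  dec z hz := ⟨fun _ => z, fun _ => hz, by simp⟩
  uni f _ h0 i := by simpa using h0
  prm g hg _ := ⟨(), hg⟩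
  odd g hg ho _ _ z hz := by
    have two : ∀ x : MW h.wd, x + x = 0 := fun x => vl_inj (by rw [vl_add, h.wd.sq (vl_mem x)]; rfl)
    set u' : MW h.wd := MW.mk h.wd ⟨u, h.U_le h.uU⟩ with hu'
    have huZ : u' ∈ ad h.wd Z := h.u_mem
    have hu0 : u' ≠ 0 := fun h0 => h.u_ne (congrArg MW.vl h0)
    have hgu : g • u' = u' := (smul_eq_iff _ _).2 (h.uF _ g.2)
    have hcZ : Nat.card (ad h.wd Z) = 4 := by rw [MW.card_ad h.Z_le_V, h.card_Z]
    by_cases hz0 : z = 0
    · rw [hz0, smul_zero]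
    by_cases hzu : z = u'
    · rw [hzu, hgu]
    have hgz : g • z ∈ ad h.wd Z := by
      rw [← hg]
      exact AddSubgroup.smul_mem_pointwise_smul z g _ hz
    have hgz0 : g • z ≠ 0 := fun h0 => hz0 (by
      have := congrArg (g⁻¹ • ·) h0
      simpa using this)
    have hgzu : g • z ≠ u' := fun h0 => hzu (by
      have := congrArg (g⁻¹ • ·) h0
      simp only [inv_smul_smul] at this
      rw [this]
      exact inv_smul_eq_iff.2 hgu.symm)
    have h2 : g ^ 2 • z = z := by
      rw [pow_two, mul_smul]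
      rcases diff_four two hcZ huZ hz hgz hu0 hz0 hzu hgz0 hgzu with h3 | h3
      · rw [h3, h3]
      · rw [h3, smul_add, h3, hgu, add_assoc, two, add_zero]
    obtain ⟨n, hn⟩ := ho
    have h3 : ∀ m : ℕ, (g ^ 2) ^ m • z = z := by
      intro m
      induction m with
      | zero => rw [pow_zero, one_smul]
      | succ m ih => rw [pow_succ, mul_smul, h2, ih]
    have h4 : g = ((g ^ 2) ^ n)⁻¹ := by
      rw [eq_inv_iff_mul_eq_one, ← pow_mul, ← pow_succ', ← hn]
      exact pow_orderOf_eq_one g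
    rw [h4, inv_smul_eq_iff, h3]
  uZ := h.u_mem
  u0 h0 := h.u_ne (congrArg MW.vl h0)
  uH g := (smul_eq_iff _ _).2 (h.uF _ g.2)
  cardZ := by rw [MW.card_ad h.Z_le_V, h.card_Z]
  cardV := by rw [MW.card_ad h.U_le, h.card_U]
  SV s hs := (smul_ad_eq_iff _ h.U_le h.U_le).2 (cj_eq_of_mem_normalizer (h.TU (mem_subgroupOf.1 hs)))
  Q2 := by
    rw [← MW.isPGroup_upc, MW.upc_subgroupOf (ChoiceSit.o2_le F)]
    exact h.syl.2.1.to_le h.O_le
  Qn g := by
    apply MW.upc_inj
    rw [MW.upc_cj, MW.upc_subgroupOf (ChoiceSit.o2_le F)]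
    exact cj_o2_self g.2
  ser X hX hQ h2 := by
    rw [← MW.ad_gp X]
    refine (MW.ad_le h.Z_le_V).2 ?_
    have hXU : gp X ≤ U := by
      intro y hy
      obtain ⟨x, hx, rfl⟩ := mem_gp.1 hy
      exact hX hx
    refine h.ser (h.O_le hcO) hc hl hXU (fun y hy => ?_) (by rw [MW.card_gp]; exact h2)
    obtain ⟨x, hx, rfl⟩ := mem_gp.1 hy
    exact ⟨_, hQ ⟨c, ChoiceSit.o2_le F hcO⟩ (mem_subgroupOf.2 hcO) x hx, vl_smul _ _⟩
  el4 E hES hE := by
    have h1 := h.el_four (h.upc_T hES) (h.el_sq hE)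
    rw [← h.card_ct E, mul_comm 4]
    exact Nat.mul_le_mul_left _ h1
  el4' E hES hE h4 X hX := by
    have h1 := h.card_ct E
    rw [h4, mul_comm 4] at h1
    have h2 := Nat.eq_of_mul_eq_mul_left Nat.card_pos h1
    obtain ⟨a, ha, m, hm0, hm⟩ : ∃ a ∈ upc E, ∃ m, m ≠ 0 ∧ Lin e U m a := by
      by_contra hcon
      push Not at hcon
      have := h.le_two (h.upc_T hES) hcon
      omega
    obtain ⟨haF, haE⟩ := mem_upc.1 ha
    intro z hz
    obtain ⟨v, hv, h3⟩ := h.exists_comm (h.upc_T hES ha) hm hm0 (mem_ad.1 hz)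
    have h5 := hX _ haE (MW.mk h.wd ⟨v, h.U_le hv⟩) hv
    have h6 : (⟨a, haF⟩ : F) • (MW.mk h.wd ⟨v, h.U_le hv⟩) - MW.mk h.wd ⟨v, h.U_le hv⟩ = z := by
      apply vl_inj
      rw [vl_sub, vl_smul, vl_mk]
      exact h3
    rwa [h6] at h5

/-- **(1)** the uniserial case -/
theorem F_le_Z [Finite G] {c : G} (hcO : c ∈ o2 F) {l : K} (hc : Sem e U l c) (hl : l ^ 2 ≠ l) :
    F ≤ normalizer (Z : Set G) := by
  intro g hg
  rw [mem_normalizer_iff_map_conj_eq]
  exact (smul_ad_eq_iff (h := h.wd) ⟨g, hg⟩ h.Z_le_V h.Z_le_V).1 ((h.us hcO hc hl).main ⟨g, hg⟩)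

end One

end Cfsg.Agent.Omega.OM.FourF
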